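import Mathlib
import Cfsg.Agent.Helper7.ChevT16

set_option autoImplicit false

/-!
S2318, piece (7), table part: for the multiples `W` of the inverse Cartan matrices used in the
level-16 facts, the total weighted height of a positive root is positive and at least the height
of every fundamental root.
-/

namespace Cfsg.Agent.ChevDZ

open Cfsg Cfsg.Lie Cfsg.Agent.Helper7 Cfsg.Agent.Helper7.Chev

/-- The total weighted height of a root. -/
def h1_ht (T : Tab) (W : List (List ℤ)) (s : ℕ) : ℤ :=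
  ((List.range T.l).map fun k => T.wt W k s).sum

/-- The heights of the positive roots are positive, and those of the fundamental roots are the
least ones. -/
def h1_T17 (T : Tab) (W : List (List ℤ)) : Prop :=
  AllLt T.n (fun s => T.n / 2 ≤ s →
    1 ≤ h1_ht T W s ∧ AllLt T.l (fun i => h1_ht T W (T.simple i) ≤ h1_ht T W s))

instance (T : Tab) (W : List (List ℤ)) : Decidable (h1_T17 T W) := by
  unfold h1_T17; infer_instance

set_option maxRecDepth 1000000 in
set_option maxHeartbeats 0 in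
theorem h1_T17fast_G2 : h1_T17 fastG2 wtMatG2 := by decide +kernel

theorem h1_T17_G2 : h1_T17 (tabOf chevG2) wtMatG2 := tab_G2 ▸ h1_T17fast_G2

set_option maxRecDepth 1000000 in
set_option maxHeartbeats 0 in
theorem h1_T17fast_B2 : h1_T17 fastB2 wtMatB2 := by decide +kernel

theorem h1_T17_B2 : h1_T17 (tabOf chevB2) wtMatB2 := tab_B2 ▸ h1_T17fast_B2

set_option maxRecDepth 1000000 in
set_option maxHeartbeats 0 in
theorem h1_T17fast_D4 : h1_T17 fastD4 wtMatD4 := by decide +kernel

theorem h1_T17_D4 : h1_T17 (tabOf chevD4) wtMatD4 := tab_D4 ▸ h1_T17fast_D4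

set_option maxRecDepth 1000000 in
set_option maxHeartbeats 0 in
theorem h1_T17fast_F4 : h1_T17 fastF4 wtMatF4 := by decide +kernel

theorem h1_T17_F4 : h1_T17 (tabOf chevF4) wtMatF4 := tab_F4 ▸ h1_T17fast_F4

set_option maxRecDepth 1000000 in
set_option maxHeartbeats 0 in
theorem h1_T17fast_E6 : h1_T17 fastE6 wtMatE6 := by decide +kernel

theorem h1_T17_E6 : h1_T17 (tabOf chevE6) wtMatE6 := tab_E6 ▸ h1_T17fast_E6

set_option maxRecDepth 1000000 in
set_option maxHeartbeats 0 in
theorem h1_T17fast_E7 : h1_T17 fastE7 wtMatE7 := by decide +kernel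

theorem h1_T17_E7 : h1_T17 (tabOf chevE7) wtMatE7 := tab_E7 ▸ h1_T17fast_E7

set_option maxRecDepth 1000000 in
set_option maxHeartbeats 0 in
theorem h1_T17fast_E8 : h1_T17 fastE8 wtMatE8 := by decide +kernel

theorem h1_T17_E8 : h1_T17 (tabOf chevE8) wtMatE8 := tab_E8 ▸ h1_T17fast_E8

/-- The level-16 facts and the height facts, for the same multiple of the inverse Cartan
matrix. -/
theorem h1_T17_of_mem (D : ChevalleyDatum)
    (hD : D ∈ [chevG2, chevB2, chevD4, chevF4, chevE6, chevE7, chevE8]) :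
    ∃ W : List (List ℤ), (tabOf D).T16 W ∧ h1_T17 (tabOf D) W :=
  chev_cases (p := fun D => ∃ W : List (List ℤ), (tabOf D).T16 W ∧ h1_T17 (tabOf D) W) D hD
    ⟨_, T16_G2, h1_T17_G2⟩ ⟨_, T16_B2, h1_T17_B2⟩ ⟨_, T16_D4, h1_T17_D4⟩ ⟨_, T16_F4, h1_T17_F4⟩
    ⟨_, T16_E6, h1_T17_E6⟩ ⟨_, T16_E7, h1_T17_E7⟩ ⟨_, T16_E8, h1_T17_E8⟩

end Cfsg.Agent.ChevDZ
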