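import Mathlib
import Cfsg.Agent.ChevDZ.H1_PsiTab
import Cfsg.Agent.Helper7.ChevWeyl
import Cfsg.Agent.Helper7.ChevUp

set_option autoImplicit false
set_option linter.unusedSectionVars false
set_option linter.unusedVariables false

/-!
S2318, piece (7): the additive coordinates of `U` on the fundamental root subgroups, and a
nondegenerate linear character of `U`.

`h1_coordHom i : ↥U →* Multiplicative F` is the matrix entry of `u` at row `h_i` and column
`e_{-α_i}`; it is additive on `U` by the height grading, it sends `x_{α_i}(t)` to `t` and every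
other positive root element to `0`.
-/

namespace Cfsg.Agent.ChevDZ

open Cfsg Cfsg.Lie Matrix Cfsg.Agent.Helper7 Cfsg.Agent.Helper7.Chev Cfsg.Agent.Helper7.Tri

variable {D : ChevalleyDatum} {F : Type*} [Field F]

section generic

variable {ι : Type*} [Fintype ι] [DecidableEq ι]

/-- An entry of a product of two matrices unitriangular for the levels is the sum of the
entries, when no level lies strictly between those of the column and of the row. -/
theorem h1_mul_apply_of_gap {lvl : ι → ℕ} {g g' : GL ι F} (hg : g ∈ UTk F lvl 0)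
    (hg' : g' ∈ UTk F lvl 0) {a b : ι} (hab : a ≠ b)
    (hgap : ∀ k, ¬ (lvl b < lvl k ∧ lvl k < lvl a)) :
    ((g * g' : GL ι F) : Matrix ι ι F) a b =
      (g : Matrix ι ι F) a b + (g' : Matrix ι ι F) a b := by
  have e : ((g * g' : GL ι F) : Matrix ι ι F) =
      ((g : Matrix ι ι F) - 1) * ((g' : Matrix ι ι F) - 1) + (g : Matrix ι ι F) +
        (g' : Matrix ι ι F) - 1 := by
    rw [Units.val_mul]; noncomm_ring
  have h0 : (((g : Matrix ι ι F) - 1) * ((g' : Matrix ι ι F) - 1)) a b = 0 := by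
    rw [Matrix.mul_apply]
    apply Finset.sum_eq_zero
    intro k _
    by_contra hne
    have h1 : ((g : Matrix ι ι F) - 1) a k ≠ 0 := left_ne_zero_of_mul hne
    have h2 : ((g' : Matrix ι ι F) - 1) k b ≠ 0 := right_ne_zero_of_mul hne
    have e1 : lvl k + 1 ≤ lvl a := hg a k h1
    have e2 : lvl b + 1 ≤ lvl k := hg' k b h2
    exact hgap k ⟨by omega, by omega⟩
  rw [e, Matrix.sub_apply, Matrix.add_apply, Matrix.add_apply, h0, Matrix.one_apply_ne hab]
  ring

end generic

section grading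

variable (hG : Good2 D) (hT : T0 D) {W : List (List ℤ)} (h16 : (tabOf D).T16 W)
  (h17 : h1_T17 (tabOf D) W)

theorem h1_fJ_empty (s : ℕ) : fJ D W ∅ s = h1_ht (tabOf D) W s := by
  unfold fJ h1_ht
  rw [list_range_sum_eq]
  apply Finset.sum_congr rfl
  intro k _
  simp

include h17 in
theorem h1_fJ_pos {s : ℕ} (hs : s < D.nroots) (hpos : D.nroots / 2 ≤ s) :
    1 ≤ fJ D W ∅ s := by
  rw [h1_fJ_empty]
  exact (h17 s hs hpos).1

include h17 in
theorem h1_fJ_simple_le {s : ℕ} (hs : s < D.nroots) (hpos : D.nroots / 2 ≤ s) {i : ℕ}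
    (hi : i < D.rank) : fJ D W ∅ (D.simple i) ≤ fJ D W ∅ s := by
  rw [h1_fJ_empty, h1_fJ_empty]
  exact (h17 s hs hpos).2 i hi

include hG hT h17 in
/-- `U` is unitriangular for the height grading. -/
theorem h1_pos_le_UTk : D.posUnipotent F ≤ UTk F (lvlJ D W ∅) 0 := by
  rw [posUnipotent_eq, Subgroup.closure_le]
  rintro g ⟨r, t, hrpos, hg⟩
  have hr := hrpos.1
  have hp := (isPosRoot_iff hT hr).mp hrpos
  change Raises (lvlJ D W ∅) 1 ((g : Matrix D.Idx D.Idx F) - 1)
  rw [hg]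
  exact raises_x hG ∅ hr (h1_fJ_pos h17 hr hp) t

/-- The column `e_{-α_i}`. -/
def h1_col (hG1 : Good1 D) (i : Fin D.rank) : D.Idx :=
  Sum.inr ⟨D.neg (D.simple i), hG1.neg_lt (hG1.simple_lt i.2)⟩

include hG hT h16 h17 in
/-- No level lies strictly between those of `e_{-α_i}` and of `h_i`. -/
theorem h1_gap (i : Fin D.rank) (k : D.Idx) :
    ¬ (lvlJ D W ∅ (h1_col hG.toGood1 i) < lvlJ D W ∅ k ∧
      lvlJ D W ∅ k < lvlJ D W ∅ (Sum.inl i)) := by
  have hG1 := hG.toGood1
  rintro ⟨h1, h2⟩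
  have e1 := lvlJ_cast (D := D) (W := W) ∅ (h1_col hG1 i)
  have e2 := lvlJ_cast (D := D) (W := W) ∅ k
  have e3 := lvlJ_cast (D := D) (W := W) ∅ (Sum.inl i)
  have h1' : fI D W ∅ (h1_col hG1 i) < fI D W ∅ k := by
    have : ((lvlJ D W ∅ (h1_col hG1 i) : ℕ) : ℤ) < ((lvlJ D W ∅ k : ℕ) : ℤ) := by
      exact_mod_cast h1
    rw [e1, e2] at this
    linarith
  have h2' : fI D W ∅ k < fI D W ∅ (Sum.inl i) := by
    have : ((lvlJ D W ∅ k : ℕ) : ℤ) < ((lvlJ D W ∅ (Sum.inl i) : ℕ) : ℤ) := by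
      exact_mod_cast h2
    rw [e2, e3] at this
    linarith
  have hsi := hG1.simple_lt i.2
  have hc : fI D W ∅ (h1_col hG1 i) = - fJ D W ∅ (D.simple i) := by
    change fJ D W ∅ (D.neg (D.simple i)) = _
    exact fJ_neg hG ∅ hsi
  have hr : fI D W ∅ (Sum.inl i) = 0 := rfl
  rw [hc] at h1'
  rw [hr] at h2'
  rcases k with j | s
  · have : fI D W ∅ (Sum.inl j) = 0 := rfl
    omega
  · have hk : fI D W ∅ (Sum.inr s) = fJ D W ∅ s.val := rfl
    rw [hk] at h1' h2'
    have hs := s.2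
    by_cases hpos : D.nroots / 2 ≤ s.val
    · have := fJ_nonneg h16 ∅ hs hpos
      omega
    · have hnr := hG1.neg_lt hs
      have hnpos : D.nroots / 2 ≤ D.neg s.val :=
        ((hT s.val hs).2.2.1 ((isNegRoot_iff hT hs).mpr (by omega))).2
      have hn := fJ_neg (W := W) hG ∅ hs
      have hle := h1_fJ_simple_le h17 hnr hnpos i.2
      omega

end grading

section coord

/-- The entry at row `h_i` and column `e_{-α_i}`. -/
def h1_coord (hG1 : Good1 D) (i : Fin D.rank) (M : Matrix D.Idx D.Idx F) : F :=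
  M (Sum.inl i) (h1_col hG1 i)

theorem h1_coord_one (hG1 : Good1 D) (i : Fin D.rank) :
    h1_coord hG1 i (1 : Matrix D.Idx D.Idx F) = 0 := by
  unfold h1_coord h1_col
  exact Matrix.one_apply_ne (by simp)

/-- The coordinates are additive on `U`. -/
theorem h1_coord_mul (hG : Good2 D) (hT : T0 D)
    (hW : ∃ W : List (List ℤ), (tabOf D).T16 W ∧ h1_T17 (tabOf D) W) (i : Fin D.rank)
    {u v : GL D.Idx F} (hu : u ∈ D.posUnipotent F) (hv : v ∈ D.posUnipotent F) :
    h1_coord hG.toGood1 i ((u * v : GL D.Idx F) : Matrix D.Idx D.Idx F) =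
      h1_coord hG.toGood1 i (u : Matrix D.Idx D.Idx F) +
        h1_coord hG.toGood1 i (v : Matrix D.Idx D.Idx F) := by
  obtain ⟨W, h16, h17⟩ := hW
  unfold h1_coord
  exact h1_mul_apply_of_gap (h1_pos_le_UTk hG hT h17 hu) (h1_pos_le_UTk hG hT h17 hv)
    (by simp [h1_col]) (h1_gap hG hT h16 h17 i)

/-- The coordinates of the positive root elements. -/
theorem h1_coord_x (hG1 : Good1 D) (hT : T0 D) (i : Fin D.rank) {r : ℕ} (hr : r < D.nroots)
    (hpos : D.nroots / 2 ≤ r) (t : F) :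
    h1_coord hG1 i (D.x F r t) = if r = D.simple i then t else 0 := by
  have hsi := hG1.simple_lt i.2
  have hsp := simple_pos hG1 hT i.2
  have hneg : D.neg (D.simple i) < D.nroots / 2 :=
    ((hT _ hsi).2.1 ((isPosRoot_iff hT hsi).mpr hsp)).2
  unfold h1_coord h1_col
  rw [x_of_lt D F hr]
  unfold ChevalleyDatum.xMat
  simp only [Matrix.of_apply]
  have hne : (⟨D.neg (D.simple i), hG1.neg_lt hsi⟩ : Fin D.nroots) ≠ ⟨r, hr⟩ := by
    intro h
    have := congrArg Fin.val h
    simp only at this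
    omega
  rw [if_neg hne]
  by_cases hrs : r = D.simple i
  · subst hrs
    have hc := hG1.cr_simple i.2 i.2
    rw [if_pos rfl] at hc
    have hc' : (D.coroot.getD (D.simple i) #[]).getD i.val 0 = 1 := hc
    rw [if_pos rfl, if_pos (show D.neg (D.simple i) = D.negIdx.getD (D.simple i) 0 from rfl), hc']
    simp
  · rw [if_neg hrs, if_neg]
    intro h
    apply hrs
    have h' : D.neg (D.simple i) = D.neg r := h
    have := congrArg D.neg h'
    rw [hG1.neg_neg hsi, hG1.neg_neg hr] at this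
    exact this.symm

theorem h1_xGL_mem_pos (hG1 : Good1 D) (hT : T0 D) {r : ℕ} (hr : r < D.nroots)
    (hpos : D.nroots / 2 ≤ r) (t : F) : xGL hG1 hr t ∈ D.posUnipotent F := by
  rw [posUnipotent_eq]
  exact Subgroup.subset_closure ⟨r, t, (isPosRoot_iff hT hr).mpr hpos, xGL_coe hG1 hr t⟩

/-- The coordinate of `u ∈ U` on the fundamental root subgroup `X_{α_i}`, as a homomorphism. -/
def h1_coordHom (hG : Good2 D) (hT : T0 D)
    (hW : ∃ W : List (List ℤ), (tabOf D).T16 W ∧ h1_T17 (tabOf D) W) (i : Fin D.rank) :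
    ↥(D.posUnipotent F) →* Multiplicative F where
  toFun u := Multiplicative.ofAdd
    (h1_coord hG.toGood1 i ((u : GL D.Idx F) : Matrix D.Idx D.Idx F))
  map_one' := by
    rw [Subgroup.coe_one, Units.val_one, h1_coord_one]
    rfl
  map_mul' := by
    intro u v
    rw [Subgroup.coe_mul, h1_coord_mul hG hT hW i u.2 v.2]
    rfl

theorem h1_coordHom_apply (hG : Good2 D) (hT : T0 D)
    (hW : ∃ W : List (List ℤ), (tabOf D).T16 W ∧ h1_T17 (tabOf D) W) (i : Fin D.rank)
    (u : ↥(D.posUnipotent F)) :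
    h1_coordHom hG hT hW i u = Multiplicative.ofAdd
      (h1_coord hG.toGood1 i ((u : GL D.Idx F) : Matrix D.Idx D.Idx F)) := rfl

/-- The fundamental roots are distinct. -/
theorem h1_simple_inj (hG1 : Good1 D) {i j : ℕ} (hi : i < D.rank) (hj : j < D.rank)
    (h : D.simple i = D.simple j) : i = j := by
  have h1 := hG1.cr_simple hi hi
  have h2 := hG1.cr_simple hj hi
  rw [h, h2] at h1
  by_contra hne
  rw [if_neg hne, if_pos rfl] at h1
  exact zero_ne_one h1

/-- The sum of the coordinates, as a homomorphism. -/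
noncomputable def h1_sHom (hG : Good2 D) (hT : T0 D)
    (hW : ∃ W : List (List ℤ), (tabOf D).T16 W ∧ h1_T17 (tabOf D) W) :
    ↥(D.posUnipotent F) →* Multiplicative F :=
  ∏ i : Fin D.rank, h1_coordHom hG hT hW i

theorem h1_sHom_apply (hG : Good2 D) (hT : T0 D)
    (hW : ∃ W : List (List ℤ), (tabOf D).T16 W ∧ h1_T17 (tabOf D) W)
    (u : ↥(D.posUnipotent F)) :
    h1_sHom hG hT hW u = Multiplicative.ofAdd
      (∑ i : Fin D.rank, h1_coord hG.toGood1 i ((u : GL D.Idx F) : Matrix D.Idx D.Idx F)) := by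
  unfold h1_sHom
  rw [MonoidHom.finsetProd_apply, ofAdd_sum]
  rfl

/-- The sum of the coordinates of a positive root element. -/
theorem h1_sHom_x (hG : Good2 D) (hT : T0 D)
    (hW : ∃ W : List (List ℤ), (tabOf D).T16 W ∧ h1_T17 (tabOf D) W) {r : ℕ} (hr : r < D.nroots)
    (hpos : D.nroots / 2 ≤ r) (t : F) :
    h1_sHom hG hT hW ⟨xGL hG.toGood1 hr t, h1_xGL_mem_pos hG.toGood1 hT hr hpos t⟩ =
      Multiplicative.ofAdd (if ∃ i, i < D.rank ∧ r = D.simple i then t else 0) := by
  have hG1 := hG.toGood1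
  rw [h1_sHom_apply]
  congr 1
  simp only [xGL_coe]
  rw [Finset.sum_congr rfl (fun i _ => h1_coord_x hG1 hT i hr hpos t)]
  by_cases h : ∃ i, i < D.rank ∧ r = D.simple i
  · obtain ⟨i, hi, hri⟩ := h
    rw [if_pos ⟨i, hi, hri⟩, Finset.sum_eq_single (⟨i, hi⟩ : Fin D.rank)]
    · rw [if_pos hri]
    · intro j _ hj
      rw [if_neg]
      intro hrj
      apply hj
      apply Fin.ext
      exact h1_simple_inj hG1 j.2 hi (hrj.symm.trans hri)
    · intro h'
      exact absurd (Finset.mem_univ _) h'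
  · rw [if_neg h]
    apply Finset.sum_eq_zero
    intro j _
    rw [if_neg]
    intro hrj
    exact h ⟨j.val, j.2, hrj⟩

/-- A nondegenerate linear character of `U`: non-trivial on every fundamental root subgroup,
trivial on the root subgroups of the other positive roots. -/
theorem h1_exists_nondeg [Finite F] (hG : Good2 D) (hT : T0 D)
    (hW : ∃ W : List (List ℤ), (tabOf D).T16 W ∧ h1_T17 (tabOf D) W) :
    ∃ ψ : ↥(D.posUnipotent F) →* ℂˣ,
      (∀ (i : ℕ) (hi : i < D.rank), ∃ t : F,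
        ψ ⟨xGL hG.toGood1 (hG.toGood1.simple_lt hi) t,
          h1_xGL_mem_pos hG.toGood1 hT (hG.toGood1.simple_lt hi)
            (simple_pos hG.toGood1 hT hi) t⟩ ≠ 1) ∧
      (∀ (r : ℕ) (hr : r < D.nroots) (hpos : D.nroots / 2 ≤ r),
        (∀ i, i < D.rank → r ≠ D.simple i) → ∀ t : F,
          ψ ⟨xGL hG.toGood1 hr t, h1_xGL_mem_pos hG.toGood1 hT hr hpos t⟩ = 1) := by
  obtain ⟨ε, hε⟩ := (AddChar.exists_apply_ne_zero (α := F) (a := (1 : F))).mpr one_ne_zero
  refine ⟨(ε.toMonoidHom.toHomUnits).comp (h1_sHom hG hT hW), ?_, ?_⟩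
  · intro i hi
    refine ⟨1, ?_⟩
    rw [MonoidHom.comp_apply, h1_sHom_x hG hT hW (hG.toGood1.simple_lt hi)
      (simple_pos hG.toGood1 hT hi) 1, if_pos ⟨i, hi, rfl⟩]
    intro h
    apply hε
    have := congrArg (fun z : ℂˣ => (z : ℂ)) h
    simpa using this
  · intro r hr hpos hne t
    rw [MonoidHom.comp_apply, h1_sHom_x hG hT hW hr hpos t, if_neg]
    · apply Units.ext
      simp
    · rintro ⟨i, hi, hri⟩
      exact hne i hi hri

end coord

end Cfsg.Agent.ChevDZ
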