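import Mathlib
import Cfsg.Prelude.Def_Characters
import Cfsg.Agent.SLMin.H5_Intertwiner

/-!
# S2318 (the Steinberg character is the only irreducible character of defect zero):
common definitions (helper8, architect).  Blueprint: `notes/S2318_blueprint_helper8.md`.
-/

set_option autoImplicit false

namespace Cfsg.Agent.ChevDZ

open Matrix Cfsg.Agent.SLMin

/-- the product of the simple representatives along a word -/
def wordProd {G : Type*} [Group G] (n : ℕ → G) (w : List ℕ) : G := (w.map n).prod

theorem wordProd_nil {G : Type*} [Group G] (n : ℕ → G) : wordProd n [] = 1 := rfl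

theorem wordProd_cons {G : Type*} [Group G] (n : ℕ → G) (i : ℕ) (w : List ℕ) :
    wordProd n (i :: w) = n i * wordProd n w := by
  simp [wordProd]

theorem wordProd_append {G : Type*} [Group G] (n : ℕ → G) (w w' : List ℕ) :
    wordProd n (w ++ w') = wordProd n w * wordProd n w' := by
  simp [wordProd]

theorem wordProd_singleton {G : Type*} [Group G] (n : ℕ → G) (i : ℕ) :
    wordProd n [i] = n i := by
  simp [wordProd]

/-- the double coset `B g B`, as a set -/
def dzCell {G : Type*} [Group G] (B : Subgroup G) (g : G) : Set G :=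
  {x | ∃ b ∈ B, ∃ b' ∈ B, x = b * g * b'}

theorem mem_dzCell {G : Type*} [Group G] (B : Subgroup G) (g x : G) :
    x ∈ dzCell B g ↔ ∃ b ∈ B, ∃ b' ∈ B, x = b * g * b' := Iff.rfl

/-- the simple representative `n_i = ι_i(s)` -/
def dzN {G : Type*} [Group G] {F : Type*} [Field F]
    (ι : ℕ → SpecialLinearGroup (Fin 2) F →* G) (i : ℕ) : G := ι i s7_s

end Cfsg.Agent.ChevDZ
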