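import Mathlib
import Cfsg.Agent.Helper7.ChevBorel
import Cfsg.Agent.SLMin.H5_Intertwiner

set_option autoImplicit false

/-!
# S2318 (lead): the three kinds of elements of `SL_2(F)` in helper7's and helper5's notations agree
-/

namespace Cfsg.Agent.ChevDZ

open Cfsg.Agent.Helper7.Chev Cfsg.Agent.SLMin

variable {F : Type*} [Field F]

theorem l_upperSL_eq (t : F) : upperSL t = s7_x t := rfl

theorem l_antiSL_eq : (antiSL : Matrix.SpecialLinearGroup (Fin 2) F) = s7_s := rfl

theorem l_diagSL_eq (a : Fˣ) : diagSL (a : F) a.ne_zero = s7_h a := by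
  apply Subtype.ext
  change !![(a : F), 0; 0, (a : F)⁻¹] = !![(a : F), 0; 0, ((a⁻¹ : Fˣ) : F)]
  rw [Units.val_inv_eq_inv_val]

theorem l_diagSL_eq' (c : F) (hc : c ≠ 0) : diagSL c hc = s7_h (Units.mk0 c hc) :=
  l_diagSL_eq (Units.mk0 c hc)

end Cfsg.Agent.ChevDZ
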