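import Mathlib
import Cfsg.Agent.ChevDZ.Defs
import Cfsg.Agent.ChevDZ.L_Match
import Cfsg.Agent.Helper7.ChevPerfect
import Cfsg.Agent.Helper7.ChevPara
import Cfsg.Agent.Helper7.ChevWeyl

set_option autoImplicit false
set_option linter.unusedSectionVars false
set_option linter.unusedVariables false

/-!
S2318: the common definitions of the Chevalley instantiation of `dz_main` (helper1): the rank-one
homomorphisms `h1_iota hG F i : SL₂(F) →* ↥(D.group F)` and their coercions to `GL`.
-/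

namespace Cfsg.Agent.ChevDZ

open Cfsg Cfsg.Lie Matrix Cfsg.Agent.Helper7 Cfsg.Agent.Helper7.Chev Cfsg.Agent.SLMin

variable {D : ChevalleyDatum} {F : Type*} [Field F]

theorem h1_phiHom_mem (hG : Good2 D) {r : ℕ} (hr : r < D.nroots)
    (g : Matrix.SpecialLinearGroup (Fin 2) F) : phiHom hG.toGood1 hr g ∈ D.group F := by
  have hG1 := hG.toGood1
  have h1 : phiHom hG1 hr g ∈ (phiHom hG1 hr (F := F)).range := ⟨g, rfl⟩
  rw [phiHom_range] at h1
  refine (sup_le ?_ ?_ : D.rootSubgroup F r ⊔ D.rootSubgroup F (D.neg r) ≤ D.group F) h1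
  · intro x hx
    obtain ⟨t, rfl⟩ := mem_rootSubgroup hG1 hr hx
    exact xGL_mem_group hG hr t
  · intro x hx
    obtain ⟨t, rfl⟩ := mem_rootSubgroup hG1 (hG1.neg_lt hr) hx
    exact xGL_mem_group hG (hG1.neg_lt hr) t

/-- The rank-one homomorphism of the `i`-th fundamental root, into the Chevalley group. -/
noncomputable def h1_iota (hG : Good2 D) (F : Type*) [Field F] (i : ℕ) :
    Matrix.SpecialLinearGroup (Fin 2) F →* ↥(D.group F) :=
  if hi : i < D.rank then
    (phiHom hG.toGood1 (hG.toGood1.simple_lt hi)).codRestrict (D.group F)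
      (fun g => h1_phiHom_mem hG (hG.toGood1.simple_lt hi) g)
  else 1

variable (hG : Good2 D)

theorem h1_iota_coe {i : ℕ} (hi : i < D.rank) (g : Matrix.SpecialLinearGroup (Fin 2) F) :
    ((h1_iota hG F i g : ↥(D.group F)) : GL D.Idx F) =
      phiHom hG.toGood1 (hG.toGood1.simple_lt hi) g := by
  unfold h1_iota
  rw [dif_pos hi]
  rfl

theorem h1_iota_x_coe {i : ℕ} (hi : i < D.rank) (b : F) :
    ((h1_iota hG F i (s7_x b) : ↥(D.group F)) : GL D.Idx F) =
      xGL hG.toGood1 (hG.toGood1.simple_lt hi) b := by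
  rw [h1_iota_coe hG hi, ← l_upperSL_eq]
  rfl

theorem h1_iota_h_coe {i : ℕ} (hi : i < D.rank) (a : Fˣ) :
    ((h1_iota hG F i (s7_h a) : ↥(D.group F)) : GL D.Idx F) =
      hGL hG.toGood1 (hG.toGood1.simple_lt hi) (a : F) a.ne_zero := by
  rw [h1_iota_coe hG hi, ← l_diagSL_eq]
  rfl

theorem h1_dzN_coe {i : ℕ} (hi : i < D.rank) :
    ((dzN (h1_iota hG F) i : ↥(D.group F)) : GL D.Idx F) =
      nGL hG.toGood1 (hG.toGood1.simple_lt hi) := by
  unfold dzN
  rw [h1_iota_coe hG hi, ← l_antiSL_eq]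
  rfl

theorem h1_wordProd_coe {w : List ℕ} (hw : ∀ i ∈ w, i < D.rank) :
    ((wordProd (dzN (h1_iota hG F)) w : ↥(D.group F)) : GL D.Idx F) = nWordGL hG w := by
  induction w with
  | nil => rfl
  | cons i w ih =>
    have hi : i < D.rank := hw i List.mem_cons_self
    have hw' : ∀ j ∈ w, j < D.rank := fun j hj => hw j (List.mem_cons_of_mem _ hj)
    rw [wordProd_cons, Subgroup.coe_mul, ih hw', h1_dzN_coe hG hi, nWordGL_cons hG hi]

/-- The subgroups `B`, `U`, `H` of the Chevalley group. -/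
abbrev h1_B (D : ChevalleyDatum) (F : Type*) [Field F] : Subgroup ↥(D.group F) :=
  (D.borelSubgroup F).subgroupOf (D.group F)

abbrev h1_U (D : ChevalleyDatum) (F : Type*) [Field F] : Subgroup ↥(D.group F) :=
  (D.posUnipotent F).subgroupOf (D.group F)

abbrev h1_H (D : ChevalleyDatum) (F : Type*) [Field F] : Subgroup ↥(D.group F) :=
  (D.diagonalSubgroup F).subgroupOf (D.group F)

end Cfsg.Agent.ChevDZ
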