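import Mathlib
import Cfsg.Agent.ChevDZ.H1_Defs
import Cfsg.Agent.ChevDZ.H1_Psi
import Cfsg.Agent.Helper7.ChevTw11
import Cfsg.Agent.Helper7.ChevUnique

set_option autoImplicit false
set_option linter.unusedSectionVars false
set_option linter.unusedVariables false

/-!
S2318: the hypotheses (C0) and the easy part of (C3) of `dz_main` for the Chevalley groups:
`B = U ⋊ H`, `H` abelian, `U` a `p`-group; `x_i(b) ∈ U`, `h_i(a) ∈ H`, `n_i` normalises `H`, and
`H` acts linearly on the fundamental root subgroups.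
-/

namespace Cfsg.Agent.ChevDZ

open Cfsg Cfsg.Lie Matrix Cfsg.Agent.Helper7 Cfsg.Agent.Helper7.Chev Cfsg.Agent.SLMin
open scoped Pointwise

variable {D : ChevalleyDatum} {F : Type*} [Field F]

section d0

variable (hG : Good2 D) (hT : T0 D)

theorem h1_hUB : h1_U D F ≤ h1_B D F := by
  intro g hg
  rw [Subgroup.mem_subgroupOf] at hg ⊢
  exact (le_sup_left : D.posUnipotent F ≤ D.borelSubgroup F) hg

theorem h1_hHB : h1_H D F ≤ h1_B D F := by
  intro g hg
  rw [Subgroup.mem_subgroupOf] at hg ⊢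
  exact (le_sup_right : D.diagonalSubgroup F ≤ D.borelSubgroup F) hg

include hG in
/-- `B` normalises `U`, at the level of `GL`. -/
theorem h1_borel_le_normalizer_pos :
    D.borelSubgroup F ≤ Subgroup.normalizer (D.posUnipotent F : Set (GL D.Idx F)) :=
  sup_le Subgroup.le_normalizer (diagonalSubgroup_le_normalizer_pos hG)

include hG in
theorem h1_hUn : ∀ b ∈ h1_B D F, ∀ u ∈ h1_U D F, b * u * b⁻¹ ∈ h1_U D F := by
  intro b hb u hu
  rw [Subgroup.mem_subgroupOf] at hb hu ⊢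
  rw [Subgroup.coe_mul, Subgroup.coe_mul, Subgroup.coe_inv]
  exact (Subgroup.mem_set_normalizer_iff.mp (h1_borel_le_normalizer_pos hG hb) _).mp hu

include hG in
theorem h1_hBUH : ∀ b ∈ h1_B D F, ∃ u ∈ h1_U D F, ∃ h ∈ h1_H D F, b = u * h := by
  intro b hb
  rw [Subgroup.mem_subgroupOf] at hb
  have hmul := Subgroup.coe_mul_of_right_le_normalizer_left (D.posUnipotent F)
    (D.diagonalSubgroup F) (diagonalSubgroup_le_normalizer_pos hG)
  have hb' : (b : GL D.Idx F) ∈ ((D.posUnipotent F ⊔ D.diagonalSubgroup F : Subgroup _) :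
      Set (GL D.Idx F)) := hb
  rw [hmul] at hb'
  obtain ⟨u, hu, h, hh, e⟩ := hb'
  have hu' : u ∈ D.posUnipotent F := hu
  have hh' : h ∈ D.diagonalSubgroup F := hh
  refine ⟨⟨u, posUnipotent_le_group hu'⟩, Subgroup.mem_subgroupOf.mpr hu',
    ⟨h, diagonalSubgroup_le_group hG.toGood1 hh'⟩, Subgroup.mem_subgroupOf.mpr hh', ?_⟩
  apply Subtype.ext
  rw [Subgroup.coe_mul]
  exact e.symm

include hG in
theorem h1_hHc : ∀ h ∈ h1_H D F, ∀ h' ∈ h1_H D F, h * h' = h' * h := by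
  intro h hh h' hh'
  rw [Subgroup.mem_subgroupOf] at hh hh'
  apply Subtype.ext
  rw [Subgroup.coe_mul, Subgroup.coe_mul]
  exact diagonalSubgroup_comm hG.toGood1 _ hh _ hh'

include hG hT in
theorem h1_hUp [Fintype F] (p : ℕ) [Fact p.Prime] [CharP F p] (h3 : (tabOf D).T3)
    (h4 : (tabOf D).T4 60) (h7 : (tabOf D).T7) (h8 : (tabOf D).T8) : IsPGroup p (h1_U D F) := by
  obtain ⟨n, hn⟩ := FiniteField.card F p
  have hcard : Nat.card ↥(h1_U D F) = p ^ ((n : ℕ) * (D.nroots / 2)) := by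
    have e := Subgroup.subgroupOfEquivOfLe (posUnipotent_le_group (D := D) (F := F))
    rw [Nat.card_congr e.toEquiv, card_posUnipotent hG hT h3 h4 h7 h8, hn.2, pow_mul]
  exact IsPGroup.of_card hcard

end d0

section d3

variable (hG : Good2 D) (hT : T0 D)

include hT in
theorem h1_hx : ∀ i < D.rank, ∀ b : F, h1_iota hG F i (s7_x b) ∈ h1_U D F := by
  intro i hi b
  rw [Subgroup.mem_subgroupOf, h1_iota_x_coe hG hi]
  exact h1_xGL_mem_pos hG.toGood1 hT (hG.toGood1.simple_lt hi) (simple_pos hG.toGood1 hT hi) b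

theorem h1_hh : ∀ i < D.rank, ∀ a : Fˣ, h1_iota hG F i (s7_h a) ∈ h1_H D F := by
  intro i hi a
  rw [Subgroup.mem_subgroupOf, h1_iota_h_coe hG hi]
  unfold ChevalleyDatum.diagonalSubgroup
  exact Subgroup.subset_closure ⟨D.simple i, (a : F), hG.toGood1.simple_lt hi, a.ne_zero,
    hGL_coe _ _ _ _⟩

theorem h1_htorN : ∀ i < D.rank, ∀ t ∈ h1_H D F,
    (dzN (h1_iota hG F) i)⁻¹ * t * dzN (h1_iota hG F) i ∈ h1_H D F := by
  intro i hi t ht
  rw [Subgroup.mem_subgroupOf] at ht ⊢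
  rw [Subgroup.coe_mul, Subgroup.coe_mul, Subgroup.coe_inv, h1_dzN_coe hG hi]
  exact conj_mem_diagonal'
    (monomialSubgroup_le_normalizer hG (nGL_mem_monomial hG (hG.toGood1.simple_lt hi))) ht

theorem h1_htorX : ∀ i < D.rank, ∀ t ∈ h1_H D F, ∃ r : Fˣ, ∀ b : F,
    t * h1_iota hG F i (s7_x b) = h1_iota hG F i (s7_x ((r : F) * b)) * t := by
  intro i hi t ht
  rw [Subgroup.mem_subgroupOf] at ht
  obtain ⟨c, hc, hlin⟩ := diagonal_conj_xGL_lin hG ht (hG.toGood1.simple_lt hi)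
  refine ⟨Units.mk0 c hc, fun b => ?_⟩
  apply Subtype.ext
  rw [Subgroup.coe_mul, Subgroup.coe_mul, h1_iota_x_coe hG hi, h1_iota_x_coe hG hi, Units.val_mk0,
    ← hlin b]
  group

end d3

end Cfsg.Agent.ChevDZ
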