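import Mathlib
import Cfsg.Agent.ChevDZ.H1_D0

set_option autoImplicit false
set_option linter.unusedSectionVars false
set_option linter.unusedVariables false

/-!
S2318: the hypothesis `hnorm` of `dz_main` for the Chevalley groups: for `u ∈ U` there is a
translation `π` of `F` with `(x_i(π b) n_i)⁻¹ u (x_i(b) n_i) ∈ U` for all `b`.
-/

namespace Cfsg.Agent.ChevDZ

open Cfsg Cfsg.Lie Matrix Cfsg.Agent.Helper7 Cfsg.Agent.Helper7.Chev Cfsg.Agent.SLMin
open scoped Pointwise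

variable {D : ChevalleyDatum} {F : Type*} [Field F]

section gl

variable (hG : Good2 D) (hT : T0 D) (h3 : (tabOf D).T3) (h4 : (tabOf D).T4 60) (h5 : (tabOf D).T5)
  (h6 : (tabOf D).T6)

include hG hT h3 h4 h5 in
/-- `U = X_i U_i`. -/
theorem h1_decomp_X_Ui {i : ℕ} (hi : i < D.rank) {u : GL D.Idx F} (hu : u ∈ D.posUnipotent F) :
    ∃ c : F, ∃ v ∈ Subgroup.closure (upGen D F (D.simple i)),
      u = xGL hG.toGood1 (hG.toGood1.simple_lt hi) c * v := by
  have hG1 := hG.toGood1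
  have hp := hG1.simple_lt hi
  have hnorm : D.rootSubgroup F (D.simple i) ≤
      Subgroup.normalizer (Subgroup.closure (upGen D F (D.simple i)) : Set (GL D.Idx F)) :=
    le_trans le_sup_left (rootSubgroup_le_normalizer_up hG hT h3 h4 h5 hi)
  have hmul := Subgroup.coe_mul_of_left_le_normalizer_right (D.rootSubgroup F (D.simple i))
    (Subgroup.closure (upGen D F (D.simple i))) hnorm
  have hu' : u ∈ ((D.rootSubgroup F (D.simple i) ⊔ Subgroup.closure (upGen D F (D.simple i)) :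
      Subgroup _) : Set (GL D.Idx F)) := by
    rw [sup_comm, up_sup_rootSubgroup hG hT h5 hi]
    exact hu
  rw [hmul] at hu'
  obtain ⟨x, hx, v, hv, e⟩ := hu'
  have hx' : x ∈ D.rootSubgroup F (D.simple i) := hx
  have hv' : v ∈ Subgroup.closure (upGen D F (D.simple i)) := hv
  obtain ⟨c, rfl⟩ := mem_rootSubgroup hG1 hp hx'
  exact ⟨c, v, hv', e.symm⟩

theorem h1_up_le_pos (p : ℕ) : Subgroup.closure (upGen D F p) ≤ D.posUnipotent F := by
  rw [Subgroup.closure_le]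
  rintro g ⟨s, t, hs, _, hg⟩
  exact Subgroup.subset_closure ⟨s, t, hs, hg⟩

include hG hT h3 h4 h5 h6 in
/-- `hnorm` at the level of `GL`. -/
theorem h1_hnorm_gl {i : ℕ} (hi : i < D.rank) {u : GL D.Idx F} (hu : u ∈ D.posUnipotent F) :
    ∃ c : F, ∀ b : F,
      (xGL hG.toGood1 (hG.toGood1.simple_lt hi) (b + c) *
          nGL hG.toGood1 (hG.toGood1.simple_lt hi))⁻¹ * u *
        (xGL hG.toGood1 (hG.toGood1.simple_lt hi) b * nGL hG.toGood1 (hG.toGood1.simple_lt hi)) ∈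
      D.posUnipotent F := by
  have hG1 := hG.toGood1
  have hp := hG1.simple_lt hi
  obtain ⟨c, v, hv, rfl⟩ := h1_decomp_X_Ui hG hT h3 h4 h5 hi hu
  refine ⟨c, fun b => ?_⟩
  apply h1_up_le_pos (D.simple i)
  have hxn : xGL hG1 hp b ∈
      Subgroup.normalizer (Subgroup.closure (upGen D F (D.simple i)) : Set (GL D.Idx F)) := by
    apply rootSubgroup_le_normalizer_up hG hT h3 h4 h5 hi
    apply Subgroup.mem_sup_left
    unfold ChevalleyDatum.rootSubgroup
    exact Subgroup.subset_closure ⟨b, xGL_coe hG1 hp b⟩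
  have hnn := nGL_mem_normalizer_up (F := F) hG hT h6 hi
  have h1 : (xGL hG1 hp b)⁻¹ * v * xGL hG1 hp b ∈ Subgroup.closure (upGen D F (D.simple i)) := by
    have := (Subgroup.mem_set_normalizer_iff.mp (inv_mem hxn) v).mp hv
    rwa [inv_inv] at this
  have h2 : (nGL hG1 hp)⁻¹ * ((xGL hG1 hp b)⁻¹ * v * xGL hG1 hp b) * nGL hG1 hp ∈
      Subgroup.closure (upGen D F (D.simple i)) := by
    have := (Subgroup.mem_set_normalizer_iff.mp (inv_mem hnn) _).mp h1
    rwa [inv_inv] at this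
  have e : (xGL hG1 hp (b + c) * nGL hG1 hp)⁻¹ * (xGL hG1 hp c * v) *
      (xGL hG1 hp b * nGL hG1 hp) =
      (nGL hG1 hp)⁻¹ * ((xGL hG1 hp b)⁻¹ * v * xGL hG1 hp b) * nGL hG1 hp := by
    rw [add_comm b c, ← xGL_mul hG1 hp c b]
    group
  rw [e]
  exact h2

end gl

section grp

variable (hG : Good2 D) (hT : T0 D) (h3 : (tabOf D).T3) (h4 : (tabOf D).T4 60) (h5 : (tabOf D).T5)
  (h6 : (tabOf D).T6)

include hG hT h3 h4 h5 h6 in
theorem h1_hnorm : ∀ i < D.rank, ∀ u ∈ h1_U D F, ∃ π : F ≃ F, ∀ b : F,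
    (h1_iota hG F i (s7_x (π b) * s7_s))⁻¹ * u * h1_iota hG F i (s7_x b * s7_s) ∈ h1_U D F := by
  intro i hi u hu
  rw [Subgroup.mem_subgroupOf] at hu
  obtain ⟨c, hc⟩ := h1_hnorm_gl hG hT h3 h4 h5 h6 hi hu
  refine ⟨Equiv.addRight c, fun b => ?_⟩
  rw [Subgroup.mem_subgroupOf, Subgroup.coe_mul, Subgroup.coe_mul, Subgroup.coe_inv, map_mul,
    map_mul, Subgroup.coe_mul, Subgroup.coe_mul, h1_iota_x_coe hG hi, h1_iota_x_coe hG hi]
  have hs : ((h1_iota hG F i s7_s : ↥(D.group F)) : GL D.Idx F) =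
      nGL hG.toGood1 (hG.toGood1.simple_lt hi) := h1_dzN_coe hG hi
  rw [hs]
  exact hc b

end grp

end Cfsg.Agent.ChevDZ
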