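import Mathlib
import Cfsg.Agent.ChevDZ.H1_D3
import Cfsg.Agent.Helper7.ChevCount

set_option autoImplicit false
set_option linter.unusedSectionVars false
set_option linter.unusedVariables false

/-!
S2318: the hypothesis `hpeel` of `dz_main` for the Chevalley groups: for a prefix `w₁ ++ [k]` of a
word of the list, `n_{w₁} b n_k = u₁ (n_{w₁} n_k) u₂ (n_k⁻¹ h n_k)` with `u₁, u₂ ∈ U`, `h ∈ H`,
`b h⁻¹ ∈ U`.
-/

namespace Cfsg.Agent.ChevDZ

open Cfsg Cfsg.Lie Matrix Cfsg.Agent.Helper7 Cfsg.Agent.Helper7.Chev Cfsg.Agent.SLMin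
open scoped Pointwise

variable {D : ChevalleyDatum} {F : Type*} [Field F]

section gl

variable (hG : Good2 D) (hT : T0 D) (h3 : (tabOf D).T3) (h4 : (tabOf D).T4 60) (h5 : (tabOf D).T5)
  (h6 : (tabOf D).T6)

include hG hT h3 h4 h5 h6 in
/-- `hpeel` at the level of `GL`. -/
theorem h1_hpeel_gl {w₁ : List ℕ} (hw₁ : ∀ i ∈ w₁, i < D.rank) {k : ℕ} (hk : k < D.rank)
    (hpos : D.nroots / 2 ≤ (tabOf D).reflWord w₁ (D.simple k)) {b : GL D.Idx F}
    (hb : b ∈ D.borelSubgroup F) :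
    ∃ u₁ ∈ D.posUnipotent F, ∃ h ∈ D.diagonalSubgroup F, ∃ u₂ ∈ D.posUnipotent F,
      b * h⁻¹ ∈ D.posUnipotent F ∧
      nWordGL hG w₁ * b * nGL hG.toGood1 (hG.toGood1.simple_lt hk) =
        u₁ * (nWordGL hG w₁ * nGL hG.toGood1 (hG.toGood1.simple_lt hk)) * u₂ *
          ((nGL hG.toGood1 (hG.toGood1.simple_lt hk))⁻¹ * h *
            nGL hG.toGood1 (hG.toGood1.simple_lt hk)) := by
  have hG1 := hG.toGood1
  have hp := hG1.simple_lt hk
  -- `b = u h`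
  have hmul := Subgroup.coe_mul_of_right_le_normalizer_left (D.posUnipotent F)
    (D.diagonalSubgroup F) (diagonalSubgroup_le_normalizer_pos hG)
  have hb' : b ∈ ((D.posUnipotent F ⊔ D.diagonalSubgroup F : Subgroup _) :
      Set (GL D.Idx F)) := hb
  rw [hmul] at hb'
  obtain ⟨u, hu, h, hh, e⟩ := hb'
  have hu' : u ∈ D.posUnipotent F := hu
  have hh' : h ∈ D.diagonalSubgroup F := hh
  have e' : b = u * h := e.symm
  -- `u = x_k(c) v`
  obtain ⟨c, v, hv, rfl⟩ := h1_decomp_X_Ui hG hT h3 h4 h5 hk hu'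
  have hnn := nGL_mem_normalizer_up (F := F) hG hT h6 hk
  have h2 : (nGL hG1 hp)⁻¹ * v * nGL hG1 hp ∈ Subgroup.closure (upGen D F (D.simple k)) := by
    have := (Subgroup.mem_set_normalizer_iff.mp (inv_mem hnn) v).mp hv
    rwa [inv_inv] at this
  have hconj := nWordGL_conj (F := F) hG hw₁ hp c
  refine ⟨nWordGL hG w₁ * xGL hG1 hp c * (nWordGL hG w₁)⁻¹, ?_, h, hh',
    (nGL hG1 hp)⁻¹ * v * nGL hG1 hp, h1_up_le_pos (D.simple k) h2, ?_, ?_⟩
  · rw [hconj]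
    exact h1_xGL_mem_pos hG1 hT (reflWord_lt hG hw₁ hp) hpos _
  · rw [e', mul_inv_cancel_right]
    exact hu'
  · rw [e']
    group

end gl

section grp

variable (hG : Good2 D) (hT : T0 D) (h3 : (tabOf D).T3) (h4 : (tabOf D).T4 60) (h5 : (tabOf D).T5)
  (h6 : (tabOf D).T6) {W : List (List ℕ)} (hW : WList D W)

include hG hT h3 h4 h5 h6 hW in
theorem h1_hpeel : ∀ w ∈ W, ∀ (w₁ : List ℕ) (k : ℕ) (w₂ : List ℕ), w = w₁ ++ k :: w₂ →
    ∀ b ∈ h1_B D F, ∃ u₁ ∈ h1_U D F, ∃ h ∈ h1_H D F, ∃ u₂ ∈ h1_U D F, b * h⁻¹ ∈ h1_U D F ∧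
      wordProd (dzN (h1_iota hG F)) w₁ * b * dzN (h1_iota hG F) k =
        u₁ * (wordProd (dzN (h1_iota hG F)) w₁ * dzN (h1_iota hG F) k) * u₂ *
          ((dzN (h1_iota hG F) k)⁻¹ * h * dzN (h1_iota hG F) k) := by
  intro w hwW w₁ k w₂ hw b hb
  have hG1 := hG.toGood1
  obtain ⟨hwl, hpp⟩ := hW.ok w hwW
  have hw₁ : ∀ i ∈ w₁, i < D.rank := by
    intro i hi
    apply hwl i
    rw [hw]
    exact List.mem_append_left _ hi
  have hk : k < D.rank := by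
    apply hwl k
    rw [hw]
    exact List.mem_append_right _ List.mem_cons_self
  have hpos := hpp w₁ k w₂ hw
  rw [Subgroup.mem_subgroupOf] at hb
  obtain ⟨u₁, hu₁, h, hh, u₂, hu₂, hbh, e⟩ := h1_hpeel_gl hG hT h3 h4 h5 h6 hw₁ hk hpos hb
  refine ⟨⟨u₁, posUnipotent_le_group hu₁⟩, Subgroup.mem_subgroupOf.mpr hu₁,
    ⟨h, diagonalSubgroup_le_group hG1 hh⟩, Subgroup.mem_subgroupOf.mpr hh,
    ⟨u₂, posUnipotent_le_group hu₂⟩, Subgroup.mem_subgroupOf.mpr hu₂, ?_, ?_⟩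
  · rw [Subgroup.mem_subgroupOf, Subgroup.coe_mul, Subgroup.coe_inv]
    exact hbh
  · apply Subtype.ext
    simp only [Subgroup.coe_mul, Subgroup.coe_inv, h1_wordProd_coe hG hw₁, h1_dzN_coe hG hk]
    exact e

end grp

end Cfsg.Agent.ChevDZ
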