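import Mathlib
import Cfsg.Agent.ChevDZ.H1_D0
import Cfsg.Agent.Helper7.ChevCardH

set_option autoImplicit false
set_option linter.unusedSectionVars false
set_option linter.unusedVariables false

/-!
S2318 (version 2): the hypotheses `hgen` (the torus is generated by the `h_i(a)` of the fundamental
roots) and `hUN` (`|U| = q^N`) of `dz_main` for the Chevalley groups.
-/

namespace Cfsg.Agent.ChevDZ

open Cfsg Cfsg.Lie Matrix Cfsg.Agent.Helper7 Cfsg.Agent.Helper7.Chev Cfsg.Agent.SLMin

variable {D : ChevalleyDatum} {F : Type*} [Field F]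

/-- The torus element with parameters `c` is the product of the `h_i(c_i)`. -/
theorem h1_tGL_eq_prod (hG : Good1 D) (c : Fin D.rank → Fˣ) :
    (tGL c : GL D.Idx F) = (List.ofFn (fun i : Fin D.rank =>
      hGL hG (hG.simple_lt i.2) (c i : F) (Units.ne_zero _))).prod := by
  apply Units.ext
  rw [tGL_coe, ← Units.coeHom_apply, map_list_prod, List.map_ofFn]
  have e : (⇑(Units.coeHom (Matrix D.Idx D.Idx F)) ∘ fun i : Fin D.rank =>
      hGL hG (hG.simple_lt i.2) (c i : F) (Units.ne_zero _)) =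
      fun i : Fin D.rank => (fun k : ℕ => D.hMat F (D.simple k) (extc D.rank c k)) i.val := by
    funext i
    simp only [Function.comp_apply, Units.coeHom_apply, hGL_coe, extc_val]
  rw [e, ofFn_eq_map_range D.rank (fun k : ℕ => D.hMat F (D.simple k) (extc D.rank c k)),
    prod_hMat_simple hG _ (fun i hi => List.mem_range.mp hi) _
    (fun i _ => extc_ne_zero c i)]
  rfl

/-- `H` is generated by the `h_i(a)` of the fundamental roots, at the level of `GL`. -/
theorem h1_diagonal_le_closure (hG : Good1 D) :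
    D.diagonalSubgroup F ≤ Subgroup.closure
      {g : GL D.Idx F | ∃ (i : ℕ) (hi : i < D.rank) (a : Fˣ),
        g = hGL hG (hG.simple_lt hi) (a : F) a.ne_zero} := by
  intro g hg
  rw [← torusHom_range hG] at hg
  obtain ⟨c, rfl⟩ := hg
  rw [torusHom_apply, h1_tGL_eq_prod hG c]
  apply Subgroup.list_prod_mem
  intro x hx
  rw [List.mem_ofFn] at hx
  obtain ⟨i, rfl⟩ := hx
  exact Subgroup.subset_closure ⟨i.val, i.2, c i, rfl⟩

theorem h1_hgen (hG : Good2 D) :
    ∀ t ∈ h1_H D F, t ∈ Subgroup.closure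
      {g : ↥(D.group F) | ∃ i < D.rank, ∃ a : Fˣ, g = h1_iota hG F i (s7_h a)} := by
  intro t ht
  rw [Subgroup.mem_subgroupOf] at ht
  have h1 := h1_diagonal_le_closure hG.toGood1 ht
  -- transport the closure along the inclusion
  have key : ∀ x : GL D.Idx F, x ∈ Subgroup.closure
      {g : GL D.Idx F | ∃ (i : ℕ) (hi : i < D.rank) (a : Fˣ),
        g = hGL hG.toGood1 (hG.toGood1.simple_lt hi) (a : F) a.ne_zero} →
      ∃ hx : x ∈ D.group F, (⟨x, hx⟩ : ↥(D.group F)) ∈ Subgroup.closure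
        {g : ↥(D.group F) | ∃ i < D.rank, ∃ a : Fˣ, g = h1_iota hG F i (s7_h a)} := by
    intro x hx
    induction hx using Subgroup.closure_induction with
    | mem y hy =>
      obtain ⟨i, hi, a, rfl⟩ := hy
      have hm : hGL hG.toGood1 (hG.toGood1.simple_lt hi) (a : F) a.ne_zero ∈ D.group F := by
        rw [← h1_iota_h_coe hG hi a]; exact (h1_iota hG F i (s7_h a)).2
      refine ⟨hm, Subgroup.subset_closure ⟨i, hi, a, ?_⟩⟩
      exact Subtype.ext (h1_iota_h_coe hG hi a).symm
    | one => exact ⟨one_mem _, one_mem _⟩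
    | mul y z _ _ hy hz =>
      obtain ⟨hy1, hy2⟩ := hy
      obtain ⟨hz1, hz2⟩ := hz
      exact ⟨mul_mem hy1 hz1, mul_mem hy2 hz2⟩
    | inv y _ hy =>
      obtain ⟨hy1, hy2⟩ := hy
      exact ⟨inv_mem hy1, inv_mem hy2⟩
  obtain ⟨_, h2⟩ := key _ h1
  exact h2

theorem h1_hUN [Fintype F] (hG : Good2 D) (hT : T0 D) (h3 : (tabOf D).T3)
    (h4 : (tabOf D).T4 60) (h7 : (tabOf D).T7) (h8 : (tabOf D).T8) :
    Nat.card (h1_U D F) = Fintype.card F ^ (D.nroots / 2) := by
  have e := Subgroup.subgroupOfEquivOfLe (posUnipotent_le_group (D := D) (F := F))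
  rw [Nat.card_congr e.toEquiv, card_posUnipotent hG hT h3 h4 h7 h8]

end Cfsg.Agent.ChevDZ
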