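import Mathlib
import Cfsg.Agent.ChevDZ.H1_Defs

set_option autoImplicit false

/-!
S2318: `U ∩ H = 1` in the Chevalley group (hypothesis `hUH` of `dz_main`, version 2).
-/

namespace Cfsg.Agent.ChevDZ

open Cfsg Cfsg.Lie Matrix Cfsg.Agent.Helper7 Cfsg.Agent.Helper7.Chev

variable {D : ChevalleyDatum} {F : Type*} [Field F]

theorem h1_hUH (hG : Good2 D) (hT : T0 D) : ∀ g ∈ h1_U D F, g ∈ h1_H D F → g = 1 := by
  intro g hgU hgH
  rw [Subgroup.mem_subgroupOf] at hgU hgH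
  have h : (g : GL D.Idx F) ∈ D.posUnipotent F ⊓ D.diagonalSubgroup F :=
    Subgroup.mem_inf.mpr ⟨hgU, hgH⟩
  rw [posUnipotent_inf_diagonal hG hT, Subgroup.mem_bot] at h
  exact Subtype.ext h

end Cfsg.Agent.ChevDZ
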