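import Mathlib
import Cfsg.Agent.Helper7.ChevCount

set_option autoImplicit false
set_option linter.unusedSectionVars false
set_option linter.unusedVariables false

/-!
S2318, piece D4 (helper6), combinatorial part: for a word all of whose prefixes map the next
fundamental root to a positive root, the number of positive roots made negative is the length of the
word; the word of the list representing a fundamental reflection is the one-letter word.
-/

namespace Cfsg.Agent.ChevDZ

open Cfsg Cfsg.Lie Matrix Cfsg.Agent.Helper7.Chev

variable {D : ChevalleyDatum}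

/-- The number of positive roots made negative, as the cardinality of a finite set. -/
theorem h6_nMinus_eq_card (w : List ℕ) :
    nMinus D w = ((Finset.Ico (D.nroots / 2) D.nroots).filter
      (fun r => (tabOf D).reflWord w r < D.nroots / 2)).card := by
  unfold nMinus
  have hle : D.nroots / 2 ≤ D.nroots := Nat.div_le_self _ _
  have hnd : ((List.range' (D.nroots / 2) (D.nroots - D.nroots / 2)).filter
      (fun r => decide ((tabOf D).reflWord w r < D.nroots / 2))).Nodup :=
    (List.nodup_range' (step := 1) (by omega)).filter _
  rw [← List.toFinset_card_of_nodup hnd, List.toFinset_filter, List.toFinset_range'_1]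
  have : D.nroots / 2 + (D.nroots - D.nroots / 2) = D.nroots := by omega
  rw [this]
  congr 1
  ext r
  simp

section len

variable (hG : Good2 D) (hT : T0 D) (h6 : (tabOf D).T6)

theorem h6_refl_self (r : ℕ) : (tabOf D).refl r r = D.neg r := by
  unfold Tab.refl
  rw [if_pos rfl]
  rfl

include hG hT h6 in
/-- Appending a letter that is mapped to a positive root raises the number of positive roots made
negative by one. -/
theorem h6_nMinus_append {w : List ℕ} (hw : ∀ i ∈ w, i < D.rank) {k : ℕ} (hk : k < D.rank)
    (hpos : D.nroots / 2 ≤ (tabOf D).reflWord w (D.simple k)) :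
    nMinus D (w ++ [k]) = nMinus D w + 1 := by
  classical
  have hG1 := hG.toGood1
  have hp := hG1.simple_lt hk
  have hp1 := simple_pos hG1 hT hk
  rw [h6_nMinus_eq_card, h6_nMinus_eq_card]
  set P := Finset.Ico (D.nroots / 2) D.nroots with hP
  set f : ℕ → ℕ := (tabOf D).refl (D.simple k) with hf
  set Bs := P.filter (fun r => (tabOf D).reflWord w r < D.nroots / 2) with hBs
  have hff : ∀ r, r < D.nroots → f (f r) = r := fun r hr => hG.refl_refl hk hr
  have hmove : ∀ r ∈ P, r ≠ D.simple k → f r ∈ P ∧ f r ≠ D.simple k := by
    intro r hr hne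
    rw [hP, Finset.mem_Ico] at hr
    obtain ⟨h1, h2⟩ := h6 k hk r hr.2 hr.1 hne
    exact ⟨by rw [hP, Finset.mem_Ico]; exact ⟨h1, hG.refl_lt hk hr.2⟩, h2⟩
  have hαP : D.simple k ∈ P := by rw [hP, Finset.mem_Ico]; exact ⟨hp1, hp⟩
  have hαB : D.simple k ∉ Bs := by
    rw [hBs, Finset.mem_filter]
    rintro ⟨_, h⟩
    omega
  have hset : P.filter (fun r => (tabOf D).reflWord (w ++ [k]) r < D.nroots / 2) =
      insert (D.simple k) (Bs.image f) := by
    ext r
    rw [Finset.mem_filter, Finset.mem_insert, Finset.mem_image, reflWord_append]
    change r ∈ P ∧ (tabOf D).reflWord w (f r) < D.nroots / 2 ↔ _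
    constructor
    · rintro ⟨hrP, hlt⟩
      by_cases hne : r = D.simple k
      · exact Or.inl hne
      · right
        have hrl : r < D.nroots := by rw [hP, Finset.mem_Ico] at hrP; exact hrP.2
        refine ⟨f r, ?_, hff r hrl⟩
        rw [hBs, Finset.mem_filter]
        exact ⟨(hmove r hrP hne).1, hlt⟩
    · rintro (rfl | ⟨r', hr', rfl⟩)
      · refine ⟨hαP, ?_⟩
        rw [hf, h6_refl_self, reflWord_neg hG hw hp]
        exact neg_neg_of_pos hG hT (reflWord_lt hG hw hp) hpos
      · rw [hBs, Finset.mem_filter] at hr'
        have hr'l : r' < D.nroots := by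
          have := hr'.1; rw [hP, Finset.mem_Ico] at this; exact this.2
        have hne : r' ≠ D.simple k := by
          rintro rfl
          omega
        refine ⟨(hmove r' hr'.1 hne).1, ?_⟩
        rw [hff r' hr'l]
        exact hr'.2
  rw [hset, Finset.card_insert_of_notMem, Finset.card_image_of_injOn]
  · intro a ha b hb hab
    have hal : a < D.nroots := by
      have := (Finset.mem_filter.mp ha).1; rw [hP, Finset.mem_Ico] at this; exact this.2
    have hbl : b < D.nroots := by
      have := (Finset.mem_filter.mp hb).1; rw [hP, Finset.mem_Ico] at this; exact this.2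
    have := congrArg f hab
    rwa [hff a hal, hff b hbl] at this
  · rw [Finset.mem_image]
    rintro ⟨r', hr', e⟩
    have hr'P := (Finset.mem_filter.mp hr').1
    have hne : r' ≠ D.simple k := by
      rintro rfl
      exact hαB hr'
    exact (hmove r' hr'P hne).2 e

theorem h6_nMinus_nil : nMinus D [] = 0 := by
  rw [h6_nMinus_eq_card]
  rw [Finset.card_eq_zero, Finset.filter_eq_empty_iff]
  intro r hr
  rw [Finset.mem_Ico] at hr
  change ¬ r < D.nroots / 2
  omega

include hG hT h6 in
/-- The number of positive roots made negative by a word all of whose prefixes map the next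
fundamental root to a positive root is its length. -/
theorem h6_nMinus_eq_length : ∀ (w : List ℕ), (∀ i ∈ w, i < D.rank) → PrefixPos D w →
    nMinus D w = w.length := by
  intro w
  induction w using List.reverseRecOn with
  | nil => intro _ _; exact h6_nMinus_nil
  | append_singleton w k ih =>
    intro hw hpp
    have hw' : ∀ i ∈ w, i < D.rank := fun i hi => hw i (List.mem_append_left _ hi)
    have hk : k < D.rank := hw k (List.mem_append_right _ (List.mem_singleton_self k))
    obtain ⟨hpp', hpos⟩ := prefixPos_of_append hpp
    rw [h6_nMinus_append hG hT h6 hw' hk hpos, ih hw' hpp', List.length_append,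
      List.length_singleton]

/-- Words with the same action on the roots make the same number of positive roots negative. -/
theorem h6_nMinus_congr {w w' : List ℕ}
    (h : ∀ r < D.nroots, (tabOf D).reflWord w r = (tabOf D).reflWord w' r) :
    nMinus D w = nMinus D w' := by
  rw [h6_nMinus_eq_card, h6_nMinus_eq_card]
  congr 1
  apply Finset.filter_congr
  intro r hr
  rw [Finset.mem_Ico] at hr
  rw [h r hr.2]

include hG hT h6 in
/-- The word of the list representing the `i`-th fundamental reflection is `[i]`. -/
theorem h6_singleton_mem {W : List (List ℕ)} (hW : WList D W) {i : ℕ} (hi : i < D.rank) :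
    [i] ∈ W := by
  have hG1 := hG.toGood1
  obtain ⟨w', hw'W, hact⟩ := hW.closed [] hW.nil_mem i hi
  obtain ⟨hw', hpp'⟩ := hW.ok w' hw'W
  have hi1 : ∀ j ∈ [i], j < D.rank := by
    intro j hj
    rw [List.mem_singleton] at hj
    rw [hj]; exact hi
  have hpp1 : PrefixPos D [i] := by
    intro w₁ k w₂ e
    have : w₁ = [] ∧ k = i := by
      rcases w₁ with _ | ⟨a, w₁⟩
      · simp only [List.nil_append, List.cons.injEq] at e
        exact ⟨rfl, e.1.symm⟩
      · simp only [List.cons_append, List.cons.injEq] at e
        have := e.2
        simp at this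
    obtain ⟨rfl, rfl⟩ := this
    exact simple_pos hG1 hT hi
  have hlen : w'.length = 1 := by
    rw [← h6_nMinus_eq_length hG hT h6 w' hw' hpp', ← h6_nMinus_congr hact,
      h6_nMinus_eq_length hG hT h6 [i] hi1 hpp1]
    rfl
  obtain ⟨j, rfl⟩ := List.length_eq_one_iff.mp hlen
  have hj : j < D.rank := hw' j (List.mem_singleton_self j)
  have hij : i = j := by
    by_contra hne
    have hp := hG1.simple_lt hi
    have h1 := hact (D.simple i) hp
    change (tabOf D).refl (D.simple i) (D.simple i) = (tabOf D).refl (D.simple j) (D.simple i) at h1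
    rw [h6_refl_self] at h1
    have h2 : D.nroots / 2 ≤ (tabOf D).refl (D.simple j) (D.simple i) :=
      (h6 j hj (D.simple i) hp (simple_pos hG1 hT hi) (simple_ne hG hi hj hne)).1
    have h3 := neg_neg_of_pos hG hT hp (simple_pos hG1 hT hi)
    omega
  rw [hij]
  exact hw'W

end len

end Cfsg.Agent.ChevDZ
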