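import Mathlib
import Cfsg.Agent.ChevDZ.H1_Defs
import Cfsg.Agent.ChevDZ.H6_Len

set_option autoImplicit false
set_option linter.unusedSectionVars false
set_option linter.unusedVariables false

/-!
S2318, piece D4 (helper6): the cells `B n_w B` of a Chevalley group for the words `w` of a list
representing the Weyl group: they cover the group, are pairwise distinct, `|B n_w B| = |B| q^{|w|}`,
and the one-letter words belong to the list — in the shape of the hypotheses `hcover`, `hdisj`,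
`hWnd`, `hcard`, `hW1` of `dz_main`.
-/

namespace Cfsg.Agent.ChevDZ

open Cfsg Cfsg.Lie Matrix Cfsg.Agent.Helper7 Cfsg.Agent.Helper7.Chev Cfsg.Agent.SLMin
open scoped Pointwise

variable {D : ChevalleyDatum} {F : Type*} [Field F]

section cells

variable (hG : Good2 D) (hT : T0 D) (h3 : (tabOf D).T3) (h4 : (tabOf D).T4 60) (h5 : (tabOf D).T5)
  (h6 : (tabOf D).T6) (h7 : (tabOf D).T7) (h7n : (tabOf D).T7n) (h8 : (tabOf D).T8)
  (h9 : (tabOf D).T9) {W : List (List ℕ)} (hW : WList D W)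

theorem h6_minus_le_pos (w : List ℕ) :
    Subgroup.closure (minusGen D F w) ≤ D.posUnipotent F := by
  apply Subgroup.closure_mono
  rintro x ⟨r, t, hr, _, hx⟩
  exact ⟨r, t, hr, hx⟩

include hG hT h3 h4 h5 h6 hW in
/-- The elements of `B n_w B` have the normal form `b n_w u` with `u ∈ U_w⁻`. -/
theorem h6_cell_normal_form {w : List ℕ} (hwW : w ∈ W) {b₁ b₂ : GL D.Idx F}
    (hb₁ : b₁ ∈ D.borelSubgroup F) (hb₂ : b₂ ∈ D.borelSubgroup F) :
    ∃ b ∈ D.borelSubgroup F, ∃ u ∈ Subgroup.closure (minusGen D F w),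
      b₁ * nWordGL hG w * b₂ = b * nWordGL hG w * u := by
  have hHB : D.diagonalSubgroup F ≤ D.borelSubgroup F := le_sup_right
  obtain ⟨hw, hpp⟩ := hW.ok w hwW
  have hmul := Subgroup.coe_mul_of_left_le_normalizer_right (D.diagonalSubgroup F)
    (D.posUnipotent F) (diagonalSubgroup_le_normalizer_pos hG)
  obtain ⟨h₂, hh₂, u₂, hu₂, e₂⟩ : b₂ ∈ (D.diagonalSubgroup F : Set (GL D.Idx F)) *
      (D.posUnipotent F : Set (GL D.Idx F)) := by
    rw [← hmul, sup_comm]; exact hb₂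
  have e₂ : h₂ * u₂ = b₂ := e₂
  obtain ⟨b, hb, u', hu', e₃⟩ :=
    nWordGL_mul_mem (F := F) hG hT h3 h4 h5 h6 w.length w rfl hw hpp u₂ hu₂
  have hnNorm := monomialSubgroup_le_normalizer hG (nWordGL_mem (F := F) hG w)
  refine ⟨b₁ * (nWordGL hG w * h₂ * (nWordGL hG w)⁻¹) * b, ?_, u', hu', ?_⟩
  · exact mul_mem (mul_mem hb₁ (hHB (conj_mem_diagonal hnNorm hh₂))) hb
  · rw [← e₂]
    calc b₁ * nWordGL hG w * (h₂ * u₂)
        = b₁ * (nWordGL hG w * h₂ * (nWordGL hG w)⁻¹) * (nWordGL hG w * u₂) := by group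
      _ = b₁ * (nWordGL hG w * h₂ * (nWordGL hG w)⁻¹) * (b * nWordGL hG w * u') := by rw [e₃]
      _ = _ := by group

/-- The cell of a word, at the level of `GL`. -/
theorem h6_mem_cell_iff {w : List ℕ} (hw : ∀ i ∈ w, i < D.rank) (g : ↥(D.group F)) :
    g ∈ dzCell (h1_B D F) (wordProd (dzN (h1_iota hG F)) w) ↔
      ∃ b₁ ∈ D.borelSubgroup F, ∃ b₂ ∈ D.borelSubgroup F,
        (g : GL D.Idx F) = b₁ * nWordGL hG w * b₂ := by
  have hBG : D.borelSubgroup F ≤ D.group F := borelSubgroup_le_group hG.toGood1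
  rw [mem_dzCell]
  constructor
  · rintro ⟨b, hb, b', hb', e⟩
    refine ⟨(b : GL D.Idx F), hb, (b' : GL D.Idx F), hb', ?_⟩
    rw [e, Subgroup.coe_mul, Subgroup.coe_mul, h1_wordProd_coe hG hw]
  · rintro ⟨b₁, hb₁, b₂, hb₂, e⟩
    refine ⟨⟨b₁, hBG hb₁⟩, hb₁, ⟨b₂, hBG hb₂⟩, hb₂, ?_⟩
    apply Subtype.ext
    rw [Subgroup.coe_mul, Subgroup.coe_mul, h1_wordProd_coe hG hw]
    exact e

include hT h3 h4 h5 h6 h8 h9 hW in
/-- (`hcover`) The cells cover the group. -/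
theorem h6_hcover (g : ↥(D.group F)) :
    ∃ w ∈ W, g ∈ dzCell (h1_B D F) (wordProd (dzN (h1_iota hG F)) w) := by
  have hUB : D.posUnipotent F ≤ D.borelSubgroup F := le_sup_left
  obtain ⟨w, hwW, b, hb, u, hu, e⟩ :=
    exists_normal_form (F := F) hG hT h3 h4 h5 h6 h8 h9 hW g.2
  refine ⟨w, hwW, ?_⟩
  rw [h6_mem_cell_iff hG (hW.ok w hwW).1]
  exact ⟨b, hb, u, hUB (h6_minus_le_pos w hu), e⟩

include hT h3 h4 h5 h6 h8 h9 hW in
/-- (`hdisj`) Distinct words of the list have disjoint cells. -/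
theorem h6_hdisj {w w' : List ℕ} (hwW : w ∈ W) (hw'W : w' ∈ W) (g : ↥(D.group F))
    (hg : g ∈ dzCell (h1_B D F) (wordProd (dzN (h1_iota hG F)) w))
    (hg' : g ∈ dzCell (h1_B D F) (wordProd (dzN (h1_iota hG F)) w')) : w = w' := by
  rw [h6_mem_cell_iff hG (hW.ok w hwW).1] at hg
  rw [h6_mem_cell_iff hG (hW.ok w' hw'W).1] at hg'
  obtain ⟨b₁, hb₁, b₂, hb₂, e⟩ := hg
  obtain ⟨b₁', hb₁', b₂', hb₂', e'⟩ := hg'
  obtain ⟨b, hb, u, hu, e₁⟩ := h6_cell_normal_form (F := F) hG hT h3 h4 h5 h6 hW hwW hb₁ hb₂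
  obtain ⟨b', hb', u', hu', e₁'⟩ :=
    h6_cell_normal_form (F := F) hG hT h3 h4 h5 h6 hW hw'W hb₁' hb₂'
  exact (normal_form_unique (F := F) hG hT h3 h4 h5 h6 h8 h9 hW hwW hw'W hb hb' hu hu'
    (by rw [← e₁, ← e₁', ← e, ← e'])).1

include hT h3 h4 h5 h6 h7 h7n h8 h9 hW in
/-- (`hcard`) `|B n_w B| = |B| q^{|w|}`. -/
theorem h6_hcard [Fintype F] {w : List ℕ} (hwW : w ∈ W) :
    Nat.card (dzCell (h1_B D F) (wordProd (dzN (h1_iota hG F)) w)) =
      Nat.card (h1_B D F) * Fintype.card F ^ w.length := by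
  have hG1 := hG.toGood1
  have hBG : D.borelSubgroup F ≤ D.group F := borelSubgroup_le_group hG1
  have hNG : D.monomialSubgroup F ≤ D.group F := monomialSubgroup_le_group hG1
  have hUB : D.posUnipotent F ≤ D.borelSubgroup F := le_sup_left
  obtain ⟨hw, hpp⟩ := hW.ok w hwW
  let Φ : ↥(D.borelSubgroup F) × ↥(Subgroup.closure (minusGen D F w)) →
      ↥(dzCell (h1_B D F) (wordProd (dzN (h1_iota hG F)) w)) := fun x =>
    ⟨⟨(x.1 : GL D.Idx F) * nWordGL hG w * (x.2 : GL D.Idx F),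
      mul_mem (mul_mem (hBG x.1.2) (hNG (nWordGL_mem hG _)))
        (hBG (hUB (h6_minus_le_pos w x.2.2)))⟩,
      (h6_mem_cell_iff hG hw _).mpr
        ⟨(x.1 : GL D.Idx F), x.1.2, (x.2 : GL D.Idx F), hUB (h6_minus_le_pos w x.2.2), rfl⟩⟩
  have hinj : Function.Injective Φ := by
    rintro ⟨⟨b, hb⟩, ⟨u, hu⟩⟩ ⟨⟨b', hb'⟩, ⟨u', hu'⟩⟩ e
    have e' : b * nWordGL hG w * u = b' * nWordGL hG w * u' :=
      congrArg (fun x : ↥(dzCell (h1_B D F) (wordProd (dzN (h1_iota hG F)) w)) =>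
        ((x : ↥(D.group F)) : GL D.Idx F)) e
    obtain ⟨_, hbb, huu⟩ := normal_form_unique (F := F) hG hT h3 h4 h5 h6 h8 h9 hW
      hwW hwW hb hb' hu hu' e'
    subst hbb
    subst huu
    rfl
  have hsurj : Function.Surjective Φ := by
    rintro ⟨g, hg⟩
    obtain ⟨b₁, hb₁, b₂, hb₂, e⟩ := (h6_mem_cell_iff hG hw g).mp hg
    obtain ⟨b, hb, u, hu, e₁⟩ := h6_cell_normal_form (F := F) hG hT h3 h4 h5 h6 hW hwW hb₁ hb₂
    refine ⟨⟨⟨b, hb⟩, ⟨u, hu⟩⟩, ?_⟩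
    apply Subtype.ext
    apply Subtype.ext
    change b * nWordGL hG w * u = (g : GL D.Idx F)
    rw [e, e₁]
  rw [← Nat.card_congr (Equiv.ofBijective Φ ⟨hinj, hsurj⟩), Nat.card_prod,
    card_minus hG hT h3 h4 h7 h7n h8 hw, h6_nMinus_eq_length hG hT h6 w hw hpp,
    Nat.card_congr (Subgroup.subgroupOfEquivOfLe hBG).toEquiv]

include hG hT h6 hW in
/-- (`hW1`) The one-letter words belong to the list. -/
theorem h6_hW1 {i : ℕ} (hi : i < D.rank) : [i] ∈ W :=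
  h6_singleton_mem hG hT h6 hW hi

end cells

end Cfsg.Agent.ChevDZ
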