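import Mathlib
import Cfsg.Agent.ChevDZ.Defs

/-!
# S2318 (helper2): sums over a double coset

`(∑_{g ∈ B n B} f g) |B|² = |B n B| ∑_{b,b'} f (b n b')`.  Proof: `F g := ∑_{b,b'} f (b g b')` is
constant on the cell, and `g ↦ b g b'` permutes the cell.
-/

set_option autoImplicit false

namespace Cfsg.Agent.ChevDZ

section K

variable {G : Type*} [Group G]

theorem cs_mem_cell_iff (B : Subgroup G) (n : G) {b b' : G} (hb : b ∈ B) (hb' : b' ∈ B) (g : G) :
    b * g * b' ∈ dzCell B n ↔ g ∈ dzCell B n := by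
  constructor
  · rintro ⟨c, hc, c', hc', h⟩
    refine ⟨b⁻¹ * c, B.mul_mem (B.inv_mem hb) hc, c' * b'⁻¹, B.mul_mem hc' (B.inv_mem hb'), ?_⟩
    calc g = b⁻¹ * (b * g * b') * b'⁻¹ := by group
      _ = b⁻¹ * (c * n * c') * b'⁻¹ := by rw [h]
      _ = b⁻¹ * c * n * (c' * b'⁻¹) := by group
  · rintro ⟨c, hc, c', hc', h⟩
    refine ⟨b * c, B.mul_mem hb hc, c' * b', B.mul_mem hc' hb', ?_⟩
    rw [h]
    group

variable [Fintype G]

theorem cs_sum_translate (B : Subgroup G) (n : G) (f : G → ℝ) {b b' : G} (hb : b ∈ B)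
    (hb' : b' ∈ B) :
    ∑ g : G, (dzCell B n).indicator (fun g => f (b * g * b')) g =
      ∑ g : G, (dzCell B n).indicator f g := by
  refine Fintype.sum_equiv ((Equiv.mulLeft b).trans (Equiv.mulRight b')) _ _ (fun g => ?_)
  simp only [Equiv.trans_apply, Equiv.coe_mulLeft, Equiv.coe_mulRight]
  by_cases hg : g ∈ dzCell B n
  · rw [Set.indicator_of_mem hg, Set.indicator_of_mem ((cs_mem_cell_iff B n hb hb' g).mpr hg)]
  · rw [Set.indicator_of_notMem hg,
      Set.indicator_of_notMem (fun h => hg ((cs_mem_cell_iff B n hb hb' g).mp h))]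

/-- uniform fibres of `B × B → B n B`. -/
theorem dz_cell_sum (B : Subgroup G) [Fintype ↥B] (n : G) (f : G → ℝ) :
    (∑ g : G, (dzCell B n).indicator f g) * ((Fintype.card ↥B : ℝ)) ^ 2 =
      (Nat.card (dzCell B n) : ℝ) * ∑ b : ↥B, ∑ b' : ↥B, f ((b : G) * n * (b' : G)) := by
  classical
  set F : G → ℝ := fun g => ∑ b : ↥B, ∑ b' : ↥B, f ((b : G) * g * (b' : G)) with hF
  -- `F` is constant on the cell
  have hconst : ∀ g ∈ dzCell B n, F g = F n := by
    rintro g ⟨c, hc, c', hc', rfl⟩
    simp only [hF]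
    refine Fintype.sum_equiv (Equiv.mulRight (⟨c, hc⟩ : ↥B)) _ _ (fun b => ?_)
    refine Fintype.sum_equiv (Equiv.mulLeft (⟨c', hc'⟩ : ↥B)) _ _ (fun b' => ?_)
    simp only [Equiv.coe_mulRight, Equiv.coe_mulLeft, Subgroup.coe_mul]
    congr 1
    group
  -- first evaluation
  have h1 : ∑ g : G, (dzCell B n).indicator F g = (Nat.card (dzCell B n) : ℝ) * F n := by
    have hpt : ∀ g, (dzCell B n).indicator F g = if g ∈ dzCell B n then F n else 0 := by
      intro g
      by_cases hg : g ∈ dzCell B n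
      · rw [Set.indicator_of_mem hg, if_pos hg, hconst g hg]
      · rw [Set.indicator_of_notMem hg, if_neg hg]
    rw [Finset.sum_congr rfl (fun g _ => hpt g), ← Finset.sum_filter, Finset.sum_const,
      nsmul_eq_mul]
    congr 2
    rw [Nat.card_eq_fintype_card]
    exact (Fintype.card_of_subtype _ (fun x => by simp)).symm
  -- second evaluation
  have h2 : ∑ g : G, (dzCell B n).indicator F g =
      (∑ g : G, (dzCell B n).indicator f g) * (Fintype.card ↥B : ℝ) ^ 2 := by
    have hpt : ∀ g, (dzCell B n).indicator F g =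
        ∑ b : ↥B, ∑ b' : ↥B, (dzCell B n).indicator (fun g => f ((b : G) * g * (b' : G))) g := by
      intro g
      by_cases hg : g ∈ dzCell B n
      · rw [Set.indicator_of_mem hg]
        exact Finset.sum_congr rfl (fun b _ => Finset.sum_congr rfl (fun b' _ => by
          rw [Set.indicator_of_mem hg]))
      · rw [Set.indicator_of_notMem hg]
        symm
        exact Finset.sum_eq_zero (fun b _ => Finset.sum_eq_zero (fun b' _ => by
          rw [Set.indicator_of_notMem hg]))
    rw [Finset.sum_congr rfl (fun g _ => hpt g), Finset.sum_comm]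
    have h3 : ∀ b : ↥B, ∑ g : G, ∑ b' : ↥B,
        (dzCell B n).indicator (fun g => f ((b : G) * g * (b' : G))) g =
        (Fintype.card ↥B : ℝ) * ∑ g : G, (dzCell B n).indicator f g := by
      intro b
      rw [Finset.sum_comm, Finset.sum_congr rfl (fun b' _ => cs_sum_translate B n f b.2 b'.2),
        Finset.sum_const, Finset.card_univ, nsmul_eq_mul]
    rw [Finset.sum_congr rfl (fun b _ => h3 b), Finset.sum_const, Finset.card_univ, nsmul_eq_mul]
    ring
  rw [← h2, h1]

end K

end Cfsg.Agent.ChevDZ
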