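import Mathlib
import Cfsg.Agent.ChevDZ.Defs

/-!
# S2318 (helper8): invariant Hermitian forms on a representation, the averaging projector

`InvForm ρ`: a positive definite Hermitian form `ip` on the space of the representation `ρ`,
invariant under the group; `nsq v = ip v v` as a real number.  `avgOp ρ U`: the average of `ρ u`
over a finite subgroup `U`, an idempotent, self-adjoint for every invariant form, with image the
`U`-fixed vectors.
-/

set_option autoImplicit false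

namespace Cfsg.Agent.ChevDZ

open Module

variable {G : Type*} [Group G] {V : Type*} [AddCommGroup V] [Module ℂ V]

/-- A `G`-invariant positive definite Hermitian form (conjugate linear in the first variable) on the
space of a representation. -/
structure InvForm (ρ : Representation ℂ G V) where
  /-- the form -/
  ip : V →ₗ⋆[ℂ] V →ₗ[ℂ] ℂ
  symm : ∀ v w : V, star (ip v w) = ip w v
  nonneg : ∀ v : V, 0 ≤ (ip v v).re
  definite : ∀ v : V, ip v v = 0 → v = 0
  inv : ∀ (g : G) (v w : V), ip (ρ g v) (ρ g w) = ip v w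

theorem rho_inv_rho (ρ : Representation ℂ G V) (g : G) (v : V) : ρ g⁻¹ (ρ g v) = v := by
  have : ρ g⁻¹ (ρ g v) = (ρ g⁻¹ * ρ g) v := rfl
  rw [this, ← map_mul, inv_mul_cancel, map_one]
  rfl

theorem rho_rho_inv (ρ : Representation ℂ G V) (g : G) (v : V) : ρ g (ρ g⁻¹ v) = v := by
  have : ρ g (ρ g⁻¹ v) = (ρ g * ρ g⁻¹) v := rfl
  rw [this, ← map_mul, mul_inv_cancel, map_one]
  rfl

theorem rho_mul_apply (ρ : Representation ℂ G V) (g h : G) (v : V) :
    ρ (g * h) v = ρ g (ρ h v) := by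
  rw [map_mul]
  rfl

namespace InvForm

variable {ρ : Representation ℂ G V} (Φ : InvForm ρ)

theorem ip_add_left (v w x : V) : Φ.ip (v + w) x = Φ.ip v x + Φ.ip w x := by
  rw [map_add, LinearMap.add_apply]

theorem ip_add_right (v w x : V) : Φ.ip x (v + w) = Φ.ip x v + Φ.ip x w := map_add _ _ _

theorem ip_smul_left (c : ℂ) (v x : V) : Φ.ip (c • v) x = star c * Φ.ip v x := by
  rw [LinearMap.map_smulₛₗ, LinearMap.smul_apply, smul_eq_mul]
  rfl

theorem ip_smul_right (c : ℂ) (v x : V) : Φ.ip x (c • v) = c * Φ.ip x v := by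
  rw [map_smul, smul_eq_mul]

theorem ip_zero_left (x : V) : Φ.ip 0 x = 0 := by
  rw [map_zero, LinearMap.zero_apply]

theorem ip_zero_right (x : V) : Φ.ip x 0 = 0 := map_zero _

theorem ip_neg_left (v x : V) : Φ.ip (-v) x = -Φ.ip v x := by
  rw [map_neg, LinearMap.neg_apply]

theorem ip_neg_right (v x : V) : Φ.ip x (-v) = -Φ.ip x v := map_neg _ _

theorem ip_sub_left (v w x : V) : Φ.ip (v - w) x = Φ.ip v x - Φ.ip w x := by
  rw [map_sub, LinearMap.sub_apply]

theorem ip_sub_right (v w x : V) : Φ.ip x (v - w) = Φ.ip x v - Φ.ip x w := map_sub _ _ _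

theorem ip_sum_left {κ : Type*} (s : Finset κ) (f : κ → V) (x : V) :
    Φ.ip (∑ i ∈ s, f i) x = ∑ i ∈ s, Φ.ip (f i) x := by
  rw [map_sum, LinearMap.sum_apply]

theorem ip_sum_right {κ : Type*} (s : Finset κ) (f : κ → V) (x : V) :
    Φ.ip x (∑ i ∈ s, f i) = ∑ i ∈ s, Φ.ip x (f i) := map_sum _ _ _

/-- `ρ g` is unitary: its adjoint is `ρ g⁻¹`. -/
theorem ip_rho_left (g : G) (v w : V) : Φ.ip (ρ g v) w = Φ.ip v (ρ g⁻¹ w) := by
  rw [← Φ.inv g⁻¹ (ρ g v) w, rho_inv_rho]

theorem ip_rho_right (g : G) (v w : V) : Φ.ip v (ρ g w) = Φ.ip (ρ g⁻¹ v) w := by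
  rw [ip_rho_left, inv_inv]

/-- the square of the norm, a real number -/
def nsq (v : V) : ℝ := (Φ.ip v v).re

theorem ip_self (v : V) : Φ.ip v v = (Φ.nsq v : ℂ) := by
  have h := Φ.symm v v
  apply Complex.ext
  · rw [Complex.ofReal_re]
    rfl
  · rw [Complex.ofReal_im]
    have h2 := congrArg Complex.im h
    rw [Complex.star_def, Complex.conj_im] at h2
    linarith

theorem nsq_nonneg (v : V) : 0 ≤ Φ.nsq v := Φ.nonneg v

theorem nsq_eq_zero {v : V} (h : Φ.nsq v = 0) : v = 0 := by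
  apply Φ.definite
  rw [ip_self, h, Complex.ofReal_zero]

theorem nsq_zero : Φ.nsq (0 : V) = 0 := by
  unfold nsq
  rw [ip_zero_left, Complex.zero_re]

theorem nsq_rho (g : G) (v : V) : Φ.nsq (ρ g v) = Φ.nsq v := by
  unfold nsq
  rw [Φ.inv]

theorem nsq_smul (c : ℂ) (v : V) : Φ.nsq (c • v) = Complex.normSq c * Φ.nsq v := by
  have h : Φ.ip (c • v) (c • v) = ((Complex.normSq c * Φ.nsq v : ℝ) : ℂ) := by
    rw [ip_smul_left, ip_smul_right, ip_self, Complex.ofReal_mul, Complex.normSq_eq_conj_mul_self,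
      Complex.star_def]
    ring
  have h2 := congrArg Complex.re h
  rw [Complex.ofReal_re] at h2
  exact h2

theorem nsq_neg (v : V) : Φ.nsq (-v) = Φ.nsq v := by
  unfold nsq
  rw [ip_neg_left, ip_neg_right, neg_neg]

/-- the form on the composite with a homomorphism -/
def comp {G' : Type*} [Group G'] (ι : G' →* G) : InvForm (ρ.comp ι) where
  ip := Φ.ip
  symm := Φ.symm
  nonneg := Φ.nonneg
  definite := Φ.definite
  inv := fun g v w => Φ.inv (ι g) v w

theorem comp_ip {G' : Type*} [Group G'] (ι : G' →* G) (v w : V) :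
    (Φ.comp ι).ip v w = Φ.ip v w := rfl

theorem comp_nsq {G' : Type*} [Group G'] (ι : G' →* G) (v : V) :
    (Φ.comp ι).nsq v = Φ.nsq v := rfl

end InvForm

/-! ### the averaging projector -/

/-- the average of `ρ u` over the finite subgroup `U` -/
noncomputable def avgOp (ρ : Representation ℂ G V) (U : Subgroup G) [Fintype ↥U] : V →ₗ[ℂ] V :=
  ((Fintype.card ↥U : ℂ)⁻¹) • ∑ u : ↥U, ρ (u : G)

section avg

variable (ρ : Representation ℂ G V) (U : Subgroup G) [Fintype ↥U]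

theorem avgOp_apply (v : V) :
    avgOp ρ U v = ((Fintype.card ↥U : ℂ)⁻¹) • ∑ u : ↥U, ρ (u : G) v := by
  unfold avgOp
  rw [LinearMap.smul_apply, LinearMap.sum_apply]

theorem card_ne_zero_complex : (Fintype.card ↥U : ℂ) ≠ 0 :=
  Nat.cast_ne_zero.mpr Fintype.card_ne_zero

theorem rho_avgOp {u : G} (hu : u ∈ U) (v : V) : ρ u (avgOp ρ U v) = avgOp ρ U v := by
  rw [avgOp_apply, map_smul, map_sum]
  congr 1
  refine Fintype.sum_equiv (Equiv.mulLeft (⟨u, hu⟩ : ↥U)) _ _ (fun x => ?_)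
  rw [Equiv.coe_mulLeft, Subgroup.coe_mul, rho_mul_apply]

theorem avgOp_rho {u : G} (hu : u ∈ U) (v : V) : avgOp ρ U (ρ u v) = avgOp ρ U v := by
  rw [avgOp_apply, avgOp_apply]
  congr 1
  refine Fintype.sum_equiv (Equiv.mulRight (⟨u, hu⟩ : ↥U)) _ _ (fun x => ?_)
  rw [Equiv.coe_mulRight, Subgroup.coe_mul, rho_mul_apply]

theorem avgOp_fixed {v : V} (hv : ∀ u ∈ U, ρ u v = v) : avgOp ρ U v = v := by
  rw [avgOp_apply, Finset.sum_congr rfl (fun (u : ↥U) _ => hv u u.2), Finset.sum_const,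
    Finset.card_univ, ← Nat.cast_smul_eq_nsmul ℂ, smul_smul,
    inv_mul_cancel₀ (card_ne_zero_complex U), one_smul]

theorem avgOp_idem (v : V) : avgOp ρ U (avgOp ρ U v) = avgOp ρ U v :=
  avgOp_fixed ρ U (fun _ hu => rho_avgOp ρ U hu v)

/-- an element normalising `U` commutes with the averaging projector -/
theorem avgOp_comm {b : G} (hb : ∀ u ∈ U, b * u * b⁻¹ ∈ U) (hb' : ∀ u ∈ U, b⁻¹ * u * b ∈ U)
    (v : V) : avgOp ρ U (ρ b v) = ρ b (avgOp ρ U v) := by
  rw [avgOp_apply, avgOp_apply, map_smul, map_sum]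
  congr 1
  let e : ↥U ≃ ↥U :=
    { toFun := fun u => ⟨b⁻¹ * u * b, hb' u u.2⟩
      invFun := fun u => ⟨b * u * b⁻¹, hb u u.2⟩
      left_inv := fun u => by
        apply Subtype.ext
        change b * (b⁻¹ * (u : G) * b) * b⁻¹ = u
        group
      right_inv := fun u => by
        apply Subtype.ext
        change b⁻¹ * (b * (u : G) * b⁻¹) * b = u
        group }
  refine Fintype.sum_equiv e _ _ (fun u => ?_)
  change ρ (u : G) (ρ b v) = ρ b (ρ (b⁻¹ * (u : G) * b) v)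
  rw [← rho_mul_apply, ← rho_mul_apply]
  congr 2
  group

/-- the averaging projector is self-adjoint -/
theorem InvForm.ip_avgOp_left {ρ : Representation ℂ G V} (Φ : InvForm ρ) (U : Subgroup G)
    [Fintype ↥U] (v w : V) :
    Φ.ip (avgOp ρ U v) w = Φ.ip v (avgOp ρ U w) := by
  rw [avgOp_apply, avgOp_apply, Φ.ip_smul_left, Φ.ip_smul_right, Φ.ip_sum_left, Φ.ip_sum_right]
  have hc : star ((Fintype.card ↥U : ℂ)⁻¹) = (Fintype.card ↥U : ℂ)⁻¹ := by
    rw [Complex.star_def, map_inv₀, Complex.conj_natCast]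
  rw [hc]
  congr 1
  refine Fintype.sum_equiv (Equiv.inv ↥U) _ _ (fun u => ?_)
  rw [Equiv.inv_apply, Subgroup.coe_inv, Φ.ip_rho_left]

/-- `⟨E v, E w⟩ = ⟨v, E w⟩`. -/
theorem InvForm.ip_avgOp_avgOp {ρ : Representation ℂ G V} (Φ : InvForm ρ) (U : Subgroup G)
    [Fintype ↥U] (v w : V) :
    Φ.ip (avgOp ρ U v) (avgOp ρ U w) = Φ.ip v (avgOp ρ U w) := by
  rw [Φ.ip_avgOp_left, avgOp_idem]

theorem trace_avgOp [FiniteDimensional ℂ V] :
    LinearMap.trace ℂ V (avgOp ρ U) =
      (Fintype.card ↥U : ℂ)⁻¹ * ∑ u : ↥U, ρ.character (u : G) := by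
  unfold avgOp
  rw [map_smul, map_sum, smul_eq_mul]
  rfl

end avg

/-! ### the rank-one operators -/

section rank1

open Matrix Cfsg.Agent.SLMin

variable {F : Type*} [Field F] [Fintype F] [DecidableEq F]

/-- the Hecke operator `T = ∑_b σ(x(b) s)` of a representation of `SL_2(F)` -/
noncomputable def dzT (σ : Representation ℂ (SpecialLinearGroup (Fin 2) F) V) : V →ₗ[ℂ] V :=
  ∑ b : F, σ (s7_x b * s7_s)

/-- the torus sum `Π = ∑_a σ(h(a))` of a representation of `SL_2(F)` -/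
noncomputable def dzPi (σ : Representation ℂ (SpecialLinearGroup (Fin 2) F) V) : V →ₗ[ℂ] V :=
  ∑ a : Fˣ, σ (s7_h a)

omit [DecidableEq F] in
theorem dzT_apply (σ : Representation ℂ (SpecialLinearGroup (Fin 2) F) V) (v : V) :
    dzT σ v = ∑ b : F, σ (s7_x b * s7_s) v := by
  unfold dzT
  rw [LinearMap.sum_apply]

theorem dzPi_apply (σ : Representation ℂ (SpecialLinearGroup (Fin 2) F) V) (v : V) :
    dzPi σ v = ∑ a : Fˣ, σ (s7_h a) v := by
  unfold dzPi
  rw [LinearMap.sum_apply]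

end rank1

end Cfsg.Agent.ChevDZ
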