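import Mathlib
import Cfsg.Agent.ChevDZ.H8_Form

/-!
# S2318 (helper2): the rank-one certificate

For a representation `σ` of `SL_2(F)` with an invariant positive definite Hermitian form and a
vector `y` fixed by the `x(b)`:  `‖T y‖² ≥ ‖y‖²` for the Hecke operator `T = ∑_b σ(x(b) s)`, with
equality iff `y` is fixed by the `h(a)` and `T y = -y`.  The proof is the identity
`r (r+2) (‖T y‖² - ‖y‖²) = (r+2) ‖r y - Π y‖² + ‖T Π y + Π y‖²`, `r = q - 1 = |Fˣ|`.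
-/

set_option autoImplicit false

namespace Cfsg.Agent.ChevDZ

open Matrix Module Cfsg.Agent.SLMin

section R

variable {F : Type*} [Field F] [Fintype F] [DecidableEq F]
variable {V : Type*} [AddCommGroup V] [Module ℂ V]

/-! ### `SL_2` identities -/

omit [Fintype F] [DecidableEq F] in
theorem ce_x_h (a : Fˣ) (b : F) :
    s7_x b * s7_h a = s7_h a * s7_x (((a⁻¹ : Fˣ) : F) * ((a⁻¹ : Fˣ) : F) * b) := by
  have ha : (a : F) ≠ 0 := a.ne_zero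
  ext i j
  simp only [Matrix.SpecialLinearGroup.coe_mul]
  fin_cases i <;> fin_cases j <;>
    (simp [s7_x, s7_h, Matrix.mul_apply, Fin.sum_univ_two]; try field_simp)

omit [Fintype F] [DecidableEq F] in
theorem ce_h_mul (a a' : Fˣ) : s7_h a * s7_h a' = (s7_h (a * a') : SpecialLinearGroup (Fin 2) F) := by
  ext i j
  simp only [Matrix.SpecialLinearGroup.coe_mul]
  fin_cases i <;> fin_cases j <;>
    simp [s7_h, Matrix.mul_apply, Fin.sum_univ_two, mul_comm]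

omit [Fintype F] [DecidableEq F] in
theorem ce_h_one : (s7_h (1 : Fˣ) : SpecialLinearGroup (Fin 2) F) = 1 := by
  ext i j
  fin_cases i <;> fin_cases j <;> simp [s7_h]

omit [Fintype F] [DecidableEq F] in
theorem ce_h_inv (a : Fˣ) : (s7_h a : SpecialLinearGroup (Fin 2) F)⁻¹ = s7_h a⁻¹ := by
  rw [inv_eq_iff_mul_eq_one, ce_h_mul, mul_inv_cancel, ce_h_one]

omit [Fintype F] [DecidableEq F] in
/-- `h(a) x(b) s = x(a² b) s h(a⁻¹)`. -/
theorem ce_h_xs (a : Fˣ) (b : F) :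
    s7_h a * (s7_x b * s7_s) = s7_x ((a : F) * (a : F) * b) * s7_s * s7_h a⁻¹ := by
  have ha : (a : F) ≠ 0 := a.ne_zero
  ext i j
  simp only [Matrix.SpecialLinearGroup.coe_mul]
  fin_cases i <;> fin_cases j <;>
    (simp [s7_x, s7_h, s7_s, Matrix.mul_apply, Fin.sum_univ_two]; try field_simp)

omit [Fintype F] [DecidableEq F] in
/-- `(x(b) s)⁻¹ = h(-1) s x(-b)`. -/
theorem ce_xs_inv (b : F) :
    (s7_x b * s7_s : SpecialLinearGroup (Fin 2) F)⁻¹ = s7_h (-1 : Fˣ) * s7_s * s7_x (-b) := by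
  rw [inv_eq_iff_mul_eq_one]
  ext i j
  simp only [Matrix.SpecialLinearGroup.coe_mul]
  fin_cases i <;> fin_cases j <;>
    simp [s7_x, s7_h, s7_s, Matrix.mul_apply, Fin.sum_univ_two]

omit [Fintype F] [DecidableEq F] in
/-- `h(-1) x(b) s = x(b) h(-1) s`. -/
theorem ce_z_xs (b : F) :
    s7_h (-1 : Fˣ) * (s7_x b * s7_s) = s7_x b * (s7_h (-1 : Fˣ) * s7_s) := by
  ext i j
  simp only [Matrix.SpecialLinearGroup.coe_mul]
  fin_cases i <;> fin_cases j <;>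
    simp [s7_x, s7_h, s7_s, Matrix.mul_apply, Fin.sum_univ_two]

omit [Fintype F] [DecidableEq F] in
theorem ce_x_inv (b : F) : (s7_x b : SpecialLinearGroup (Fin 2) F)⁻¹ = s7_x (-b) := by
  rw [inv_eq_iff_mul_eq_one, ← h5_s7_x_add, add_neg_cancel, h5_s7_x_zero]

/-! ### the operators `T`, `Π`, `z = σ(h(-1))` -/

variable (σ : Representation ℂ (SpecialLinearGroup (Fin 2) F) V)

omit [DecidableEq F] in
/-- `T v` is fixed by the `x(b)`. -/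
theorem ce_T_fixed (v : V) (b : F) : σ (s7_x b) (dzT σ v) = dzT σ v := by
  rw [dzT_apply]
  exact h5_s7_inv σ v b

omit [Fintype F] [DecidableEq F] in
theorem ce_h_fixed (v : V) (hv : ∀ b : F, σ (s7_x b) v = v) (a : Fˣ) (b : F) :
    σ (s7_x b) (σ (s7_h a) v) = σ (s7_h a) v := by
  rw [← rho_mul_apply, ce_x_h, rho_mul_apply, hv]

/-- `Π v` is fixed by the `x(b)` if `v` is. -/
theorem ce_Pi_fixed (v : V) (hv : ∀ b : F, σ (s7_x b) v = v) (b : F) :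
    σ (s7_x b) (dzPi σ v) = dzPi σ v := by
  rw [dzPi_apply, map_sum]
  exact Finset.sum_congr rfl (fun a _ => ce_h_fixed σ v hv a b)

/-- `h(c) Π = Π`. -/
theorem ce_h_Pi (c : Fˣ) (v : V) : σ (s7_h c) (dzPi σ v) = dzPi σ v := by
  rw [dzPi_apply, map_sum]
  refine Fintype.sum_equiv (Equiv.mulLeft c) _ _ (fun a => ?_)
  rw [Equiv.coe_mulLeft, ← rho_mul_apply, ce_h_mul]

/-- `Π Π = (q - 1) Π`. -/
theorem ce_Pi_Pi (v : V) : dzPi σ (dzPi σ v) = (Fintype.card Fˣ : ℂ) • dzPi σ v := by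
  rw [dzPi_apply σ (dzPi σ v), Finset.sum_congr rfl (fun a _ => ce_h_Pi σ a v), Finset.sum_const,
    Finset.card_univ, ← Nat.cast_smul_eq_nsmul ℂ]

/-- `Π T = T Π`. -/
theorem ce_Pi_T (v : V) : dzPi σ (dzT σ v) = dzT σ (dzPi σ v) := by
  rw [dzPi_apply, dzPi_apply, map_sum]
  refine Fintype.sum_equiv (Equiv.inv Fˣ) _ _ (fun a => ?_)
  rw [Equiv.inv_apply, dzT_apply, dzT_apply, map_sum]
  have hne : (a : F) * (a : F) ≠ 0 := mul_ne_zero a.ne_zero a.ne_zero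
  refine Fintype.sum_equiv (Equiv.mulLeft₀ _ hne) _ _ (fun b => ?_)
  rw [Equiv.mulLeft₀_apply, ← rho_mul_apply, ce_h_xs, rho_mul_apply]

/-- `Π` is self-adjoint. -/
theorem ce_Pi_adj (Φ : InvForm σ) (v w : V) : Φ.ip (dzPi σ v) w = Φ.ip v (dzPi σ w) := by
  rw [dzPi_apply, dzPi_apply, Φ.ip_sum_left, Φ.ip_sum_right]
  refine Fintype.sum_equiv (Equiv.inv Fˣ) _ _ (fun a => ?_)
  rw [Equiv.inv_apply, Φ.ip_rho_left, ce_h_inv]

omit [Fintype F] [DecidableEq F] in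
theorem ce_fixed_inv (v : V) (hv : ∀ b : F, σ (s7_x b) v = v) (b : F) :
    σ (s7_x b)⁻¹ v = v := by
  rw [ce_x_inv]
  exact hv _

omit [DecidableEq F] in
/-- on the vectors fixed by the `x(b)`, the adjoint of `T` is `σ(h(-1)) T`. -/
theorem ce_T_adj (Φ : InvForm σ) (v v' : V) (hv : ∀ b : F, σ (s7_x b) v = v)
    (hv' : ∀ b : F, σ (s7_x b) v' = v') :
    Φ.ip (dzT σ v) v' = Φ.ip v (σ (s7_h (-1 : Fˣ)) (dzT σ v')) := by
  rw [dzT_apply, dzT_apply, Φ.ip_sum_left, map_sum, Φ.ip_sum_right]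
  refine Finset.sum_congr rfl (fun b _ => ?_)
  have h1 : Φ.ip (σ (s7_x b * s7_s) v) v' = Φ.ip v (σ (s7_h (-1 : Fˣ) * s7_s) v') := by
    rw [Φ.ip_rho_left, ce_xs_inv, rho_mul_apply, hv']
  have h2 : Φ.ip v (σ (s7_h (-1 : Fˣ)) (σ (s7_x b * s7_s) v')) =
      Φ.ip v (σ (s7_h (-1 : Fˣ) * s7_s) v') := by
    rw [← rho_mul_apply, ce_z_xs, rho_mul_apply, Φ.ip_rho_right, ce_fixed_inv σ v hv]
  rw [h1, h2]

/-- `T T v = q σ(h(-1)) v + Π T v` for `v` fixed by the `x(b)` (lead's computation in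
`l_quad_vec`, without the eigenvector hypotheses). -/
theorem ce_TT (v : V) (hv : ∀ b : F, σ (s7_x b) v = v) :
    dzT σ (dzT σ v) = (Fintype.card F : ℂ) • σ (s7_h (-1 : Fˣ)) v + dzPi σ (dzT σ v) := by
  -- the terms `b ≠ 0`
  have hW : ∀ a : Fˣ, ∑ b' : F, σ (s7_x b' * s7_s * (s7_x (-((a⁻¹ : Fˣ) : F)) * s7_s)) v =
      σ (s7_h a) (dzT σ v) := by
    intro a
    have hne2 : ((a⁻¹ : Fˣ) : F) * ((a⁻¹ : Fˣ) : F) ≠ 0 :=
      mul_ne_zero (a⁻¹).ne_zero (a⁻¹).ne_zero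
    have h1 : ∀ b' : F, σ (s7_x b' * s7_s * (s7_x (-((a⁻¹ : Fˣ) : F)) * s7_s)) v =
        σ (s7_h a) (σ (s7_x (((a⁻¹ : Fˣ) : F) * ((a⁻¹ : Fˣ) : F) * (b' + (a : F))) * s7_s) v) := by
      intro b'
      rw [h5_s7_key, rho_mul_apply, rho_mul_apply, hv]
    have h2 : ∑ b' : F, σ (s7_x (((a⁻¹ : Fˣ) : F) * ((a⁻¹ : Fˣ) : F) * (b' + (a : F))) * s7_s) v =
        ∑ b : F, σ (s7_x b * s7_s) v :=
      Fintype.sum_equiv ((Equiv.addRight (a : F)).trans (Equiv.mulLeft₀ _ hne2)) _ _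
        (fun b' => rfl)
    rw [Finset.sum_congr rfl (fun b' _ => h1 b'), ← map_sum, h2, dzT_apply]
  -- the term `b = 0`
  have h0 : ∑ b' : F, σ (s7_x b' * s7_s * (s7_x (0 : F) * s7_s)) v =
      (Fintype.card F : ℂ) • σ (s7_h (-1 : Fˣ)) v := by
    have h3 : ∀ b' : F, σ (s7_x b' * s7_s * (s7_x (0 : F) * s7_s)) v = σ (s7_h (-1 : Fˣ)) v := by
      intro b'
      rw [h5_s7_W0, rho_mul_apply]
      exact ce_h_fixed σ v hv (-1) b'
    rw [Finset.sum_congr rfl (fun b' _ => h3 b'), Finset.sum_const, Finset.card_univ,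
      ← Nat.cast_smul_eq_nsmul ℂ]
  -- the double sum, computed in two ways
  have hL : ∑ b : F, ∑ b' : F, σ (s7_x b' * s7_s * (s7_x b * s7_s)) v = dzT σ (dzT σ v) := by
    rw [Finset.sum_comm, dzT_apply σ (dzT σ v)]
    refine Finset.sum_congr rfl (fun b' _ => ?_)
    rw [dzT_apply, map_sum]
    exact Finset.sum_congr rfl (fun b _ => rho_mul_apply σ _ _ v)
  have hR : ∑ b : F, ∑ b' : F, σ (s7_x b' * s7_s * (s7_x b * s7_s)) v =
      (Fintype.card F : ℂ) • σ (s7_h (-1 : Fˣ)) v + ∑ a : Fˣ, σ (s7_h a) (dzT σ v) := by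
    rw [← Finset.add_sum_erase Finset.univ _ (Finset.mem_univ (0 : F)), h0]
    congr 1
    -- reindex the nonzero `b` by the units
    symm
    refine Finset.sum_bij (fun (a : Fˣ) _ => -((a⁻¹ : Fˣ) : F)) ?_ ?_ ?_ ?_
    · intro a _
      rw [Finset.mem_erase]
      exact ⟨neg_ne_zero.mpr (a⁻¹).ne_zero, Finset.mem_univ _⟩
    · intro a _ a' _ h
      have h1 : ((a⁻¹ : Fˣ) : F) = ((a'⁻¹ : Fˣ) : F) := neg_injective h
      exact inv_injective (Units.ext h1)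
    · intro b hb
      rw [Finset.mem_erase] at hb
      have hne : -b⁻¹ ≠ 0 := neg_ne_zero.mpr (inv_ne_zero hb.1)
      refine ⟨Units.mk0 (-b⁻¹) hne, Finset.mem_univ _, ?_⟩
      rw [Units.val_inv_eq_inv_val, Units.val_mk0, inv_neg, inv_inv, neg_neg]
    · intro a _
      exact (hW a).symm
  rw [← hL, hR, dzPi_apply]

omit [Fintype F] [DecidableEq F] in
theorem ce_z_z (v : V) : σ (s7_h (-1 : Fˣ)) (σ (s7_h (-1 : Fˣ)) v) = v := by
  rw [← rho_mul_apply, h5_s7_h_neg_one_sq, map_one]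
  rfl

/-- `‖T v‖² = q ‖v‖² + ⟨v, Π T v⟩` for `v` fixed by the `x(b)`. -/
theorem ce_ip_TT (Φ : InvForm σ) (v : V) (hv : ∀ b : F, σ (s7_x b) v = v) :
    Φ.ip (dzT σ v) (dzT σ v) =
      (Fintype.card F : ℂ) * Φ.ip v v + Φ.ip v (dzPi σ (dzT σ v)) := by
  rw [ce_T_adj σ Φ v (dzT σ v) hv (ce_T_fixed σ v), ce_TT σ v hv, map_add, map_smul, ce_z_z,
    ce_h_Pi, Φ.ip_add_right, Φ.ip_smul_right]

theorem ce_card : (Fintype.card F : ℂ) = (Fintype.card Fˣ : ℂ) + 1 := by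
  rw [Fintype.card_units]
  have h : 1 ≤ Fintype.card F := Fintype.card_pos
  rw [Nat.cast_sub h, Nat.cast_one, sub_add_cancel]

/-- the certificate, as an identity between complex numbers -/
theorem ce_identity (Φ : InvForm σ) (y : V) (hy : ∀ b : F, σ (s7_x b) y = y) :
    (Fintype.card Fˣ : ℂ) * ((Fintype.card Fˣ : ℂ) + 2) *
        (Φ.ip (dzT σ y) (dzT σ y) - Φ.ip y y) =
      ((Fintype.card Fˣ : ℂ) + 2) *
          Φ.ip ((Fintype.card Fˣ : ℂ) • y - dzPi σ y) ((Fintype.card Fˣ : ℂ) • y - dzPi σ y) +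
        Φ.ip (dzT σ (dzPi σ y) + dzPi σ y) (dzT σ (dzPi σ y) + dzPi σ y) := by
  have hw : ∀ b : F, σ (s7_x b) (dzPi σ y) = dzPi σ y := ce_Pi_fixed σ y hy
  have hstar : star ((Fintype.card Fˣ : ℕ) : ℂ) = ((Fintype.card Fˣ : ℕ) : ℂ) := by
    rw [Complex.star_def, Complex.conj_natCast]
  have E1 := ce_ip_TT σ Φ y hy
  rw [ce_card] at E1
  have E2 : (Fintype.card Fˣ : ℂ) * Φ.ip y (dzPi σ (dzT σ y)) =
      Φ.ip (dzPi σ y) (dzT σ (dzPi σ y)) := by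
    rw [← ce_Pi_adj σ Φ y (dzT σ y)]
    have h1 : (Fintype.card Fˣ : ℂ) * Φ.ip (dzPi σ y) (dzT σ y) =
        Φ.ip ((Fintype.card Fˣ : ℂ) • dzPi σ y) (dzT σ y) := by
      rw [Φ.ip_smul_left, hstar]
    rw [h1, ← ce_Pi_Pi, ce_Pi_adj, ce_Pi_T]
  have E3 : Φ.ip (dzPi σ y) (dzPi σ y) = (Fintype.card Fˣ : ℂ) * Φ.ip y (dzPi σ y) := by
    rw [ce_Pi_adj, ce_Pi_Pi, Φ.ip_smul_right]
  have E4 : Φ.ip (dzPi σ y) y = Φ.ip y (dzPi σ y) := ce_Pi_adj σ Φ y y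
  have hTw : dzPi σ (dzT σ (dzPi σ y)) = (Fintype.card Fˣ : ℂ) • dzT σ (dzPi σ y) := by
    rw [ce_Pi_T, ce_Pi_Pi, map_smul]
  have E5 := ce_ip_TT σ Φ (dzPi σ y) hw
  rw [hTw, Φ.ip_smul_right, ce_card] at E5
  have E6 : Φ.ip (dzT σ (dzPi σ y)) (dzPi σ y) = Φ.ip (dzPi σ y) (dzT σ (dzPi σ y)) := by
    rw [ce_T_adj σ Φ (dzPi σ y) (dzPi σ y) hw hw, ← ce_Pi_T, ce_h_Pi]
  rw [Φ.ip_sub_left, Φ.ip_sub_right, Φ.ip_sub_right, Φ.ip_smul_left, Φ.ip_smul_left,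
    Φ.ip_smul_right, Φ.ip_smul_right, hstar, Φ.ip_add_left, Φ.ip_add_right, Φ.ip_add_right]
  linear_combination ((Fintype.card Fˣ : ℂ) * ((Fintype.card Fˣ : ℂ) + 2)) * E1 +
    ((Fintype.card Fˣ : ℂ) + 2) * E2 + (-2 * ((Fintype.card Fˣ : ℂ) + 2)) * E3 +
    (((Fintype.card Fˣ : ℂ) + 2) * (Fintype.card Fˣ : ℂ)) * E4 + (-1) * E5 + (-1) * E6

/-- the certificate -/
theorem ce_identity_real (Φ : InvForm σ) (y : V) (hy : ∀ b : F, σ (s7_x b) y = y) :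
    (Fintype.card Fˣ : ℝ) * ((Fintype.card Fˣ : ℝ) + 2) * (Φ.nsq (dzT σ y) - Φ.nsq y) =
      ((Fintype.card Fˣ : ℝ) + 2) * Φ.nsq ((Fintype.card Fˣ : ℂ) • y - dzPi σ y) +
        Φ.nsq (dzT σ (dzPi σ y) + dzPi σ y) := by
  have h := ce_identity σ Φ y hy
  rw [Φ.ip_self, Φ.ip_self, Φ.ip_self, Φ.ip_self] at h
  exact_mod_cast h

theorem ce_card_pos : (0 : ℝ) < (Fintype.card Fˣ : ℝ) := by
  have h : 0 < Fintype.card Fˣ := Fintype.card_pos
  exact_mod_cast h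

/-- `‖T y‖² ≥ ‖y‖²` for a vector fixed by the `x(b)`. -/
theorem dz_cert_le (σ : Representation ℂ (SpecialLinearGroup (Fin 2) F) V) (Φ : InvForm σ) (y : V)
    (hx : ∀ b : F, σ (s7_x b) y = y) : Φ.nsq y ≤ Φ.nsq (dzT σ y) := by
  have h := ce_identity_real σ Φ y hx
  have hr : (0 : ℝ) < (Fintype.card Fˣ : ℝ) := ce_card_pos
  have h1 := Φ.nsq_nonneg ((Fintype.card Fˣ : ℂ) • y - dzPi σ y)
  have h2 := Φ.nsq_nonneg (dzT σ (dzPi σ y) + dzPi σ y)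
  have h3 : 0 ≤ (Fintype.card Fˣ : ℝ) * ((Fintype.card Fˣ : ℝ) + 2) *
      (Φ.nsq (dzT σ y) - Φ.nsq y) := by
    rw [h]
    positivity
  have h4 : (0 : ℝ) < (Fintype.card Fˣ : ℝ) * ((Fintype.card Fˣ : ℝ) + 2) := by positivity
  have h5 := nonneg_of_mul_nonneg_right h3 h4
  linarith

/-- the case of equality -/
theorem dz_cert_eq (σ : Representation ℂ (SpecialLinearGroup (Fin 2) F) V) (Φ : InvForm σ) (y : V)
    (hx : ∀ b : F, σ (s7_x b) y = y) (h : Φ.nsq (dzT σ y) = Φ.nsq y) :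
    (∀ a : Fˣ, σ (s7_h a) y = y) ∧ dzT σ y = -y := by
  have hid := ce_identity_real σ Φ y hx
  have hr : (0 : ℝ) < (Fintype.card Fˣ : ℝ) := ce_card_pos
  have hrc : (Fintype.card Fˣ : ℂ) ≠ 0 := by
    have h0 : Fintype.card Fˣ ≠ 0 := Fintype.card_ne_zero
    exact_mod_cast h0
  have h1 := Φ.nsq_nonneg ((Fintype.card Fˣ : ℂ) • y - dzPi σ y)
  have h2 := Φ.nsq_nonneg (dzT σ (dzPi σ y) + dzPi σ y)
  rw [h, sub_self, mul_zero] at hid
  have h3 : 0 ≤ ((Fintype.card Fˣ : ℝ) + 2) * Φ.nsq ((Fintype.card Fˣ : ℂ) • y - dzPi σ y) := by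
    positivity
  have h4 : ((Fintype.card Fˣ : ℝ) + 2) * Φ.nsq ((Fintype.card Fˣ : ℂ) • y - dzPi σ y) = 0 := by
    linarith
  have h5 : Φ.nsq (dzT σ (dzPi σ y) + dzPi σ y) = 0 := by linarith
  have h6 : Φ.nsq ((Fintype.card Fˣ : ℂ) • y - dzPi σ y) = 0 := by
    rcases mul_eq_zero.mp h4 with h | h
    · linarith
    · exact h
  have hw : (Fintype.card Fˣ : ℂ) • y = dzPi σ y := sub_eq_zero.mp (Φ.nsq_eq_zero h6)
  have hT : dzT σ (dzPi σ y) = -dzPi σ y := eq_neg_of_add_eq_zero_left (Φ.nsq_eq_zero h5)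
  constructor
  · intro a
    have h7 : (Fintype.card Fˣ : ℂ) • σ (s7_h a) y = (Fintype.card Fˣ : ℂ) • y := by
      rw [← map_smul, hw, ce_h_Pi]
    exact smul_right_injective V hrc h7
  · have h7 : (Fintype.card Fˣ : ℂ) • dzT σ y = (Fintype.card Fˣ : ℂ) • (-y) := by
      rw [← map_smul, hw, hT, smul_neg, hw]
    exact smul_right_injective V hrc h7

end R

end Cfsg.Agent.ChevDZ
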