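import Mathlib

set_option autoImplicit false

/-!
# S2318, abstract part (lead): the Schur averaging identity

For an irreducible complex representation `ρ` of a finite group on a finite dimensional space and
any endomorphism `A`: `dim V • ∑_g ρ(g) A ρ(g⁻¹) = (|G| tr A) • id`.
-/

namespace Cfsg.Agent.ChevDZ

open Module

variable {G : Type*} [Group G] [Fintype G] {V : Type*} [AddCommGroup V] [Module ℂ V]
  [FiniteDimensional ℂ V]

/-- The average of the conjugates of an endomorphism commutes with the representation. -/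
theorem l_avg_comm (ρ : Representation ℂ G V) (A : V →ₗ[ℂ] V) (h : G) :
    (∑ g : G, ρ g ∘ₗ A ∘ₗ ρ g⁻¹) ∘ₗ ρ h = ρ h ∘ₗ ∑ g : G, ρ g ∘ₗ A ∘ₗ ρ g⁻¹ := by
  ext v
  rw [LinearMap.comp_apply, LinearMap.comp_apply, LinearMap.sum_apply, LinearMap.sum_apply,
    map_sum]
  refine Fintype.sum_equiv (Equiv.mulLeft h⁻¹) _ _ (fun g => ?_)
  rw [Equiv.coe_mulLeft]
  simp only [LinearMap.comp_apply]
  have h1 : ρ g⁻¹ (ρ h v) = ρ (h⁻¹ * g)⁻¹ v := by
    rw [_root_.mul_inv_rev, inv_inv, map_mul]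
    rfl
  have h2 : ∀ w : V, ρ h (ρ (h⁻¹ * g) w) = ρ g w := by
    intro w
    have : ρ h (ρ (h⁻¹ * g) w) = ρ (h * (h⁻¹ * g)) w := by
      rw [map_mul ρ h]
      rfl
    rw [this, mul_inv_cancel_left]
  rw [h1, h2]

/-- The Schur averaging identity. -/
theorem l_schur (ρ : Representation ℂ G V) (hirr : ρ.IsIrreducible) (A : V →ₗ[ℂ] V) :
    (finrank ℂ V : ℂ) • ∑ g : G, ρ g ∘ₗ A ∘ₗ ρ g⁻¹ =
      ((Fintype.card G : ℂ) * LinearMap.trace ℂ V A) • (LinearMap.id : V →ₗ[ℂ] V) := by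
  have := hirr
  set T : V →ₗ[ℂ] V := ∑ g : G, ρ g ∘ₗ A ∘ₗ ρ g⁻¹ with hT
  -- `T` is an intertwining map, hence a scalar
  let f : Representation.IntertwiningMap ρ ρ := ⟨T, fun h => l_avg_comm ρ A h⟩
  obtain ⟨c, hc⟩ :=
    (Representation.IsIrreducible.algebraMap_intertwiningMap_bijective_of_isAlgClosed
      (ρ := ρ)).2 f
  have hcT : c • (LinearMap.id : V →ₗ[ℂ] V) = T := by
    have := congrArg Representation.IntertwiningMap.toLinearMap hc
    rw [Representation.IntertwiningMap.algebraMap_apply] at this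
    exact this
  -- traces
  have htr : LinearMap.trace ℂ V T = (Fintype.card G : ℂ) * LinearMap.trace ℂ V A := by
    rw [hT, map_sum]
    have h1 : ∀ g : G, LinearMap.trace ℂ V (ρ g ∘ₗ A ∘ₗ ρ g⁻¹) = LinearMap.trace ℂ V A := by
      intro g
      have h2 : ρ g ∘ₗ A ∘ₗ ρ g⁻¹ = ρ g * (A * ρ g⁻¹) := rfl
      rw [h2, LinearMap.trace_mul_comm, mul_assoc, ← map_mul, inv_mul_cancel, map_one, mul_one]
    rw [Finset.sum_congr rfl (fun g _ => h1 g), Finset.sum_const, Finset.card_univ,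
      nsmul_eq_mul]
  rw [← hcT, map_smul, smul_eq_mul] at htr
  have hid : LinearMap.trace ℂ V (LinearMap.id : V →ₗ[ℂ] V) = (finrank ℂ V : ℂ) := by
    have := LinearMap.trace_one ℂ V
    exact this
  rw [hid] at htr
  rw [← hcT, smul_smul, mul_comm, htr]

end Cfsg.Agent.ChevDZ
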