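import Mathlib
import Cfsg.Agent.ChevDZ.H8_Form
import Cfsg.Agent.ChevDZ.L_Schur

/-!
# S2318 (lead): consequences of the Schur averaging identity for an invariant form

* `l_schur_ip`: `dim V · ∑_g ⟨z, ρ(g) A ρ(g⁻¹) z⟩ = |G| · tr A · ⟨z, z⟩`;
* `l_char_of_coef`: `dim V · ∑_x ⟨z, ρ(x g x⁻¹) z⟩ = |G| · χ(g) · ⟨z, z⟩`.
-/

set_option autoImplicit false

namespace Cfsg.Agent.ChevDZ

open Module

variable {G : Type*} [Group G] [Fintype G]
variable {V : Type*} [AddCommGroup V] [Module ℂ V] [FiniteDimensional ℂ V]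

/-- from `l_schur` -/
theorem l_schur_ip (ρ : Representation ℂ G V) (hirr : ρ.IsIrreducible) (Φ : InvForm ρ)
    (A : V →ₗ[ℂ] V) (z : V) :
    (finrank ℂ V : ℂ) * ∑ g : G, Φ.ip z (ρ g (A (ρ g⁻¹ z))) =
      (Fintype.card G : ℂ) * LinearMap.trace ℂ V A * Φ.ip z z := by
  have h := l_schur ρ hirr A
  have h1 := congrArg (fun T : V →ₗ[ℂ] V => Φ.ip z (T z)) h
  simp only [LinearMap.smul_apply, LinearMap.sum_apply, LinearMap.comp_apply,
    LinearMap.id_apply] at h1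
  rw [Φ.ip_smul_right, Φ.ip_smul_right, Φ.ip_sum_right] at h1
  exact h1

/-- the character from one matrix coefficient (`A = ρ g` in `l_schur_ip`) -/
theorem l_char_of_coef (ρ : Representation ℂ G V) (hirr : ρ.IsIrreducible) (Φ : InvForm ρ)
    (z : V) (g : G) :
    (finrank ℂ V : ℂ) * ∑ x : G, Φ.ip z (ρ (x * g * x⁻¹) z) =
      (Fintype.card G : ℂ) * ρ.character g * Φ.ip z z := by
  have h := l_schur_ip ρ hirr Φ (ρ g) z
  have h1 : ∀ x : G, ρ x (ρ g (ρ x⁻¹ z)) = ρ (x * g * x⁻¹) z := by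
    intro x
    rw [rho_mul_apply, rho_mul_apply]
  simp_rw [h1] at h
  exact h

end Cfsg.Agent.ChevDZ
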