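import Mathlib
import Cfsg.Agent.ChevDZ.H8_Form
import Cfsg.Agent.ChevDZ.H2_Cert
import Cfsg.Agent.ChevDZ.L_Coef

/-!
# S2318 (helper8): the norm inequality in an irreducible representation with an invariant form

`E = avgOp ρ U`.  The Schur identity gives `∑_g ‖E ρ(g) z‖² = (|G|/|U|) ‖z‖²`; the rank-one
certificate and the peeling of the words give `‖E ρ(n_w) z‖² ≥ q^{-2 l(w)} ‖z‖²` on `V^U`.
-/

set_option autoImplicit false

namespace Cfsg.Agent.ChevDZ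

open Matrix Module Cfsg Cfsg.Agent.SLMin

/-! ### 1. the Schur norm identity -/

section schur

variable {G : Type*} [Group G] [Fintype G] {V : Type*} [AddCommGroup V] [Module ℂ V]
  [FiniteDimensional ℂ V]

omit [Fintype G] in
/-- `tr E = dim V / |U|` when the character vanishes on `U ∖ 1` -/
theorem trace_avgOp_of_vanish (ρ : Representation ℂ G V) (U : Subgroup G) [Fintype ↥U]
    (hvan : ∀ u ∈ U, u ≠ 1 → ρ.character u = 0) :
    LinearMap.trace ℂ V (avgOp ρ U) = (finrank ℂ V : ℂ) / (Fintype.card ↥U : ℂ) := by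
  classical
  rw [trace_avgOp]
  have h1 : ∑ u : ↥U, ρ.character (u : G) = (finrank ℂ V : ℂ) := by
    rw [Finset.sum_eq_single (1 : ↥U)]
    · rw [Subgroup.coe_one, Representation.char_one]
    · intro u _ hu
      apply hvan _ u.2
      intro h
      exact hu (Subtype.ext h)
    · intro h
      exact absurd (Finset.mem_univ _) h
  rw [h1, div_eq_inv_mul]

/-- the Schur norm identity -/
theorem sum_nsq_avgOp (ρ : Representation ℂ G V) (hirr : ρ.IsIrreducible) (Φ : InvForm ρ)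
    (U : Subgroup G) [Fintype ↥U] (hvan : ∀ u ∈ U, u ≠ 1 → ρ.character u = 0)
    (hn : (finrank ℂ V : ℂ) ≠ 0) (z : V) :
    ∑ g : G, Φ.nsq (avgOp ρ U (ρ g z)) =
      (Fintype.card G : ℝ) / (Fintype.card ↥U : ℝ) * Φ.nsq z := by
  have h1 := l_schur_ip ρ hirr Φ (avgOp ρ U) z
  rw [trace_avgOp_of_vanish ρ U hvan] at h1
  have h2 : ∑ g : G, Φ.ip z (ρ g (avgOp ρ U (ρ g⁻¹ z))) =
      ((∑ g : G, Φ.nsq (avgOp ρ U (ρ g z)) : ℝ) : ℂ) := by
    rw [Complex.ofReal_sum]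
    refine Fintype.sum_equiv (Equiv.inv G) _ _ (fun g => ?_)
    rw [Equiv.inv_apply, ← Φ.ip_self, Φ.ip_avgOp_avgOp, Φ.ip_rho_left, inv_inv]
  rw [h2, Φ.ip_self] at h1
  have hU : (Fintype.card ↥U : ℂ) ≠ 0 := card_ne_zero_complex U
  have h3 : ((∑ g : G, Φ.nsq (avgOp ρ U (ρ g z)) : ℝ) : ℂ) =
      (((Fintype.card G : ℝ) / (Fintype.card ↥U : ℝ) * Φ.nsq z : ℝ) : ℂ) := by
    apply mul_left_cancel₀ hn
    rw [h1]
    push_cast
    field_simp
  exact_mod_cast h3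

end schur

/-! ### 2. rank one -/

section rank1

variable {G : Type*} [Group G] {V : Type*} [AddCommGroup V] [Module ℂ V]
variable {F : Type*} [Field F] [Fintype F] [DecidableEq F]

omit [DecidableEq F] [Fintype F] in
theorem comp_apply' (ρ : Representation ℂ G V) (ι : SpecialLinearGroup (Fin 2) F →* G)
    (g : SpecialLinearGroup (Fin 2) F) (v : V) : (ρ.comp ι) g v = ρ (ι g) v := rfl

omit [DecidableEq F] in
/-- `T` preserves the `U`-fixed vectors -/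
theorem dzT_fixed (ρ : Representation ℂ G V) (U : Subgroup G)
    (ι : SpecialLinearGroup (Fin 2) F →* G)
    (hnorm : ∀ u ∈ U, ∃ π : F ≃ F, ∀ b : F,
      (ι (s7_x (π b) * s7_s))⁻¹ * u * ι (s7_x b * s7_s) ∈ U)
    {z : V} (hz : ∀ u ∈ U, ρ u z = z) : ∀ u ∈ U, ρ u (dzT (ρ.comp ι) z) = dzT (ρ.comp ι) z := by
  intro u hu
  obtain ⟨π, hπ⟩ := hnorm u hu
  rw [dzT_apply, map_sum]
  have h1 : ∀ b : F, ρ u ((ρ.comp ι) (s7_x b * s7_s) z) = (ρ.comp ι) (s7_x (π b) * s7_s) z := by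
    intro b
    rw [comp_apply', comp_apply', ← rho_mul_apply]
    have h2 : u * ι (s7_x b * s7_s) =
        ι (s7_x (π b) * s7_s) * ((ι (s7_x (π b) * s7_s))⁻¹ * u * ι (s7_x b * s7_s)) := by
      group
    rw [h2, rho_mul_apply, hz _ (hπ b)]
  rw [Finset.sum_congr rfl (fun b _ => h1 b)]
  exact Fintype.sum_equiv π _ _ (fun b => rfl)

omit [DecidableEq F] in
/-- `q • E ρ(n) z = T z` on the `U`-fixed vectors -/
theorem avgOp_n_eq (ρ : Representation ℂ G V) (U : Subgroup G) [Fintype ↥U]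
    (ι : SpecialLinearGroup (Fin 2) F →* G) (hx : ∀ b : F, ι (s7_x b) ∈ U)
    (hnorm : ∀ u ∈ U, ∃ π : F ≃ F, ∀ b : F,
      (ι (s7_x (π b) * s7_s))⁻¹ * u * ι (s7_x b * s7_s) ∈ U)
    {z : V} (hz : ∀ u ∈ U, ρ u z = z) :
    (Fintype.card F : ℂ) • avgOp ρ U (ρ (ι s7_s) z) = dzT (ρ.comp ι) z := by
  have h1 := avgOp_fixed ρ U (dzT_fixed ρ U ι hnorm hz)
  rw [← h1, dzT_apply, map_sum]
  have h2 : ∀ b : F, avgOp ρ U ((ρ.comp ι) (s7_x b * s7_s) z) = avgOp ρ U (ρ (ι s7_s) z) := by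
    intro b
    rw [comp_apply', map_mul, rho_mul_apply, avgOp_rho ρ U (hx b)]
  rw [Finset.sum_congr rfl (fun b _ => h2 b), Finset.sum_const, Finset.card_univ,
    ← Nat.cast_smul_eq_nsmul ℂ]

/-- the rank-one inequality: `‖E ρ(n) z‖² ≥ q⁻² ‖z‖²` on the `U`-fixed vectors -/
theorem nsq_avgOp_n_ge (ρ : Representation ℂ G V) (Φ : InvForm ρ) (U : Subgroup G) [Fintype ↥U]
    (ι : SpecialLinearGroup (Fin 2) F →* G) (hx : ∀ b : F, ι (s7_x b) ∈ U)
    (hnorm : ∀ u ∈ U, ∃ π : F ≃ F, ∀ b : F,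
      (ι (s7_x (π b) * s7_s))⁻¹ * u * ι (s7_x b * s7_s) ∈ U)
    {z : V} (hz : ∀ u ∈ U, ρ u z = z) :
    ((Fintype.card F : ℝ)⁻¹) ^ 2 * Φ.nsq z ≤ Φ.nsq (avgOp ρ U (ρ (ι s7_s) z)) := by
  have hq : (0 : ℝ) < (Fintype.card F : ℝ) := Nat.cast_pos.mpr Fintype.card_pos
  have h1 := avgOp_n_eq ρ U ι hx hnorm hz
  have h2 : Φ.nsq z ≤ Φ.nsq (dzT (ρ.comp ι) z) :=
    dz_cert_le (ρ.comp ι) (Φ.comp ι) z (fun b => hz _ (hx b))
  rw [← h1, Φ.nsq_smul, Complex.normSq_natCast] at h2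
  rw [inv_pow, inv_mul_le_iff₀ (by positivity)]
  calc Φ.nsq z ≤ _ := h2
    _ = _ := by ring

/-- the case of equality in the rank-one inequality -/
theorem nsq_avgOp_n_eq (ρ : Representation ℂ G V) (Φ : InvForm ρ) (U : Subgroup G) [Fintype ↥U]
    (ι : SpecialLinearGroup (Fin 2) F →* G) (hx : ∀ b : F, ι (s7_x b) ∈ U)
    (hnorm : ∀ u ∈ U, ∃ π : F ≃ F, ∀ b : F,
      (ι (s7_x (π b) * s7_s))⁻¹ * u * ι (s7_x b * s7_s) ∈ U)
    {z : V} (hz : ∀ u ∈ U, ρ u z = z)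
    (heq : Φ.nsq (avgOp ρ U (ρ (ι s7_s) z)) = ((Fintype.card F : ℝ)⁻¹) ^ 2 * Φ.nsq z) :
    (∀ a : Fˣ, ρ (ι (s7_h a)) z = z) ∧
      avgOp ρ U (ρ (ι s7_s) z) = (-(Fintype.card F : ℂ)⁻¹) • z := by
  have hq : (0 : ℝ) < (Fintype.card F : ℝ) := Nat.cast_pos.mpr Fintype.card_pos
  have hqc : (Fintype.card F : ℂ) ≠ 0 := Nat.cast_ne_zero.mpr Fintype.card_ne_zero
  have h1 := avgOp_n_eq ρ U ι hx hnorm hz
  have h2 : Φ.nsq (dzT (ρ.comp ι) z) = Φ.nsq z := by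
    rw [← h1, Φ.nsq_smul, Complex.normSq_natCast, heq]
    field_simp
  obtain ⟨h3, h4⟩ := dz_cert_eq (ρ.comp ι) (Φ.comp ι) z (fun b => hz _ (hx b)) h2
  refine ⟨h3, ?_⟩
  rw [h4] at h1
  have h5 : z = -((Fintype.card F : ℂ) • avgOp ρ U (ρ (ι s7_s) z)) := by
    rw [h1, neg_neg]
  rw [neg_smul]
  conv_rhs => rw [h5]
  rw [smul_neg, neg_neg, smul_smul, inv_mul_cancel₀ hqc, one_smul]

end rank1

/-! ### 3. peeling -/

section peel

variable {G : Type*} [Group G] {V : Type*} [AddCommGroup V] [Module ℂ V]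

/-- `E ρ(g₁) E ρ(g₂) z = E ρ(g₁ g₂) z` when `g₁ U g₂ ⊆ U g₁ g₂ U` -/
theorem avgOp_peel (ρ : Representation ℂ G V) (U : Subgroup G) [Fintype ↥U] (g₁ g₂ : G)
    (hp : ∀ u ∈ U, ∃ u₁ ∈ U, ∃ u₂ ∈ U, g₁ * u * g₂ = u₁ * (g₁ * g₂) * u₂)
    {z : V} (hz : ∀ u ∈ U, ρ u z = z) :
    avgOp ρ U (ρ g₁ (avgOp ρ U (ρ g₂ z))) = avgOp ρ U (ρ (g₁ * g₂) z) := by
  rw [avgOp_apply ρ U (ρ g₂ z), map_smul, map_sum, map_smul, map_sum]
  have h1 : ∀ u : ↥U, avgOp ρ U (ρ g₁ (ρ (u : G) (ρ g₂ z))) = avgOp ρ U (ρ (g₁ * g₂) z) := by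
    intro u
    obtain ⟨u₁, hu₁, u₂, hu₂, he⟩ := hp u u.2
    rw [← rho_mul_apply, ← rho_mul_apply, he, rho_mul_apply, rho_mul_apply,
      hz _ hu₂, avgOp_rho ρ U hu₁]
  rw [Finset.sum_congr rfl (fun u _ => h1 u), Finset.sum_const, Finset.card_univ,
    ← Nat.cast_smul_eq_nsmul ℂ, smul_smul, inv_mul_cancel₀ (card_ne_zero_complex U), one_smul]

end peel

/-! ### 4. the words -/

section chain

variable {G : Type*} [Group G] {V : Type*} [AddCommGroup V] [Module ℂ V]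
variable {F : Type*} [Field F] [Fintype F] [DecidableEq F]

/-- the lower bound along the prefixes of a word -/
theorem nsq_word_ge (ρ : Representation ℂ G V) (Φ : InvForm ρ) (U : Subgroup G) [Fintype ↥U]
    (l : ℕ) (ι : ℕ → SpecialLinearGroup (Fin 2) F →* G)
    (hx : ∀ i < l, ∀ b : F, ι i (s7_x b) ∈ U)
    (hnorm : ∀ i < l, ∀ u ∈ U, ∃ π : F ≃ F, ∀ b : F,
      (ι i (s7_x (π b) * s7_s))⁻¹ * u * ι i (s7_x b * s7_s) ∈ U)
    (w : List ℕ) (hwl : ∀ i ∈ w, i < l)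
    (hp : ∀ (w₁ : List ℕ) (k : ℕ) (w₂ : List ℕ), w = w₁ ++ k :: w₂ → ∀ u ∈ U,
      ∃ u₁ ∈ U, ∃ u₂ ∈ U,
        wordProd (dzN ι) w₁ * u * dzN ι k = u₁ * (wordProd (dzN ι) w₁ * dzN ι k) * u₂) :
    ∀ (p s : List ℕ), w = p ++ s → ∀ z : V, (∀ u ∈ U, ρ u z = z) →
      ((Fintype.card F : ℝ)⁻¹) ^ (2 * p.length) * Φ.nsq z ≤
        Φ.nsq (avgOp ρ U (ρ (wordProd (dzN ι) p) z)) := by
  intro p
  induction p using List.reverseRecOn with
  | nil =>
    intro s _ z hz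
    rw [wordProd_nil, map_one, Module.End.one_apply, avgOp_fixed ρ U hz, List.length_nil,
      Nat.mul_zero, pow_zero, one_mul]
  | append_singleton p k ih =>
    intro s hw z hz
    have hw' : w = p ++ k :: s := by rw [hw, List.append_assoc, List.singleton_append]
    have hk : k < l := hwl k (by rw [hw']; simp)
    have hpeel := avgOp_peel ρ U (wordProd (dzN ι) p) (dzN ι k) (hp p k s hw') hz
    have hfix : ∀ u ∈ U, ρ u (avgOp ρ U (ρ (dzN ι k) z)) = avgOp ρ U (ρ (dzN ι k) z) :=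
      fun u hu => rho_avgOp ρ U hu _
    have h1 := ih (k :: s) hw' _ hfix
    have h2 := nsq_avgOp_n_ge ρ Φ U (ι k) (hx k hk) (hnorm k hk) hz
    rw [wordProd_append, wordProd_singleton, ← hpeel, List.length_append, List.length_singleton,
      Nat.mul_add, pow_add, Nat.mul_one]
    have hq : (0 : ℝ) ≤ ((Fintype.card F : ℝ)⁻¹) ^ (2 * p.length) := by positivity
    calc ((Fintype.card F : ℝ)⁻¹) ^ (2 * p.length) * ((Fintype.card F : ℝ)⁻¹) ^ 2 * Φ.nsq z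
        = ((Fintype.card F : ℝ)⁻¹) ^ (2 * p.length) *
            (((Fintype.card F : ℝ)⁻¹) ^ 2 * Φ.nsq z) := by ring
      _ ≤ ((Fintype.card F : ℝ)⁻¹) ^ (2 * p.length) *
            Φ.nsq (avgOp ρ U (ρ (dzN ι k) z)) := mul_le_mul_of_nonneg_left h2 hq
      _ ≤ _ := h1

omit [Fintype F] [DecidableEq F] in
/-- the exact value along the prefixes of a word, when every `E ρ(n_i)` is the scalar `c` on the
`U`-fixed vectors -/
theorem avgOp_word_eq (ρ : Representation ℂ G V) (U : Subgroup G) [Fintype ↥U]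
    (l : ℕ) (ι : ℕ → SpecialLinearGroup (Fin 2) F →* G) (c : ℂ)
    (hc : ∀ i < l, ∀ z : V, (∀ u ∈ U, ρ u z = z) → avgOp ρ U (ρ (dzN ι i) z) = c • z)
    (w : List ℕ) (hwl : ∀ i ∈ w, i < l)
    (hp : ∀ (w₁ : List ℕ) (k : ℕ) (w₂ : List ℕ), w = w₁ ++ k :: w₂ → ∀ u ∈ U,
      ∃ u₁ ∈ U, ∃ u₂ ∈ U,
        wordProd (dzN ι) w₁ * u * dzN ι k = u₁ * (wordProd (dzN ι) w₁ * dzN ι k) * u₂) :
    ∀ (p s : List ℕ), w = p ++ s → ∀ z : V, (∀ u ∈ U, ρ u z = z) →
      avgOp ρ U (ρ (wordProd (dzN ι) p) z) = c ^ p.length • z := by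
  intro p
  induction p using List.reverseRecOn with
  | nil =>
    intro s _ z hz
    rw [wordProd_nil, map_one, Module.End.one_apply, avgOp_fixed ρ U hz, List.length_nil,
      pow_zero, one_smul]
  | append_singleton p k ih =>
    intro s hw z hz
    have hw' : w = p ++ k :: s := by rw [hw, List.append_assoc, List.singleton_append]
    have hk : k < l := hwl k (by rw [hw']; simp)
    have hpeel := avgOp_peel ρ U (wordProd (dzN ι) p) (dzN ι k) (hp p k s hw') hz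
    rw [wordProd_append, wordProd_singleton, ← hpeel, hc k hk z hz, map_smul, map_smul,
      ih (k :: s) hw' z hz, smul_smul, List.length_append, List.length_singleton, pow_succ,
      mul_comm]

end chain

/-! ### 5. real sums -/

/-- equal sums of termwise comparable real numbers are termwise equal -/
theorem list_sum_termwise {α : Type*} (L : List α) (a b : α → ℝ) (hle : ∀ x ∈ L, b x ≤ a x)
    (hsum : (L.map a).sum ≤ (L.map b).sum) : ∀ x ∈ L, a x = b x := by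
  induction L with
  | nil => intro x hx; simp at hx
  | cons y L ih =>
    have h1 : b y ≤ a y := hle y (by simp)
    have h2 : (L.map b).sum ≤ (L.map a).sum := by
      apply List.sum_le_sum
      intro x hx
      exact hle x (by simp [hx])
    rw [List.map_cons, List.map_cons, List.sum_cons, List.sum_cons] at hsum
    intro x hx
    rcases List.mem_cons.mp hx with rfl | hx
    · linarith
    · exact ih (fun x hx => hle x (by simp [hx])) (by linarith) x hx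

end Cfsg.Agent.ChevDZ
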