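import Mathlib
import Cfsg.Agent.ChevDZ.Defs

/-!
# S2318 (helper8): the cells of the words of `W` partition the group
-/

set_option autoImplicit false

namespace Cfsg.Agent.ChevDZ

section K

variable {G : Type*} [Group G] [Fintype G]

omit [Group G] in
/-- exchanging a sum over the group with a sum over a list -/
theorem sum_list_map_comm {α : Type*} (L : List α) (F : α → G → ℝ) :
    ∑ g : G, (L.map fun w => F w g).sum = (L.map fun w => ∑ g : G, F w g).sum := by
  induction L with
  | nil => simp
  | cons y L ih =>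
    simp only [List.map_cons, List.sum_cons]
    rw [Finset.sum_add_distrib, ih]

omit [Group G] [Fintype G] in
open Classical in
/-- the pointwise sum of the indicators of pairwise disjoint sets indexed by a list without
repetitions -/
theorem list_sum_indicator {α : Type*} (L : List α) (S : α → Set G) (hnd : L.Nodup)
    (hdisj : ∀ w ∈ L, ∀ w' ∈ L, ∀ g : G, g ∈ S w → g ∈ S w' → w = w') (f : G → ℝ) (g : G) :
    (L.map fun w => (S w).indicator f g).sum = if ∃ w ∈ L, g ∈ S w then f g else 0 := by
  induction L with
  | nil => simp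
  | cons y L ih =>
    have hnd' : L.Nodup := (List.nodup_cons.mp hnd).2
    have hy : y ∉ L := (List.nodup_cons.mp hnd).1
    have ih' := ih hnd' (fun w hw w' hw' g hg hg' =>
      hdisj w (List.mem_cons_of_mem _ hw) w' (List.mem_cons_of_mem _ hw') g hg hg')
    rw [List.map_cons, List.sum_cons, ih']
    by_cases hgy : g ∈ S y
    · have h1 : ¬ ∃ w ∈ L, g ∈ S w := by
        rintro ⟨w, hw, hgw⟩
        have := hdisj w (List.mem_cons_of_mem _ hw) y (List.mem_cons_self) g hgw hgy
        exact hy (this ▸ hw)
      have h2 : ∃ w ∈ y :: L, g ∈ S w := ⟨y, List.mem_cons_self, hgy⟩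
      rw [if_neg h1, if_pos h2, Set.indicator_of_mem hgy, add_zero]
    · rw [Set.indicator_of_notMem hgy, zero_add]
      have h3 : (∃ w ∈ y :: L, g ∈ S w) ↔ ∃ w ∈ L, g ∈ S w := by
        constructor
        · rintro ⟨w, hw, hgw⟩
          rcases List.mem_cons.mp hw with rfl | hw
          · exact absurd hgw hgy
          · exact ⟨w, hw, hgw⟩
        · rintro ⟨w, hw, hgw⟩
          exact ⟨w, List.mem_cons_of_mem _ hw, hgw⟩
      simp only [h3]

/-- the cells of the words of `W` partition the group -/
theorem dz_partition_sum (B : Subgroup G) (m : List ℕ → G) (W : List (List ℕ))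
    (hcover : ∀ g : G, ∃ w ∈ W, g ∈ dzCell B (m w))
    (hdisj : ∀ w ∈ W, ∀ w' ∈ W, ∀ g : G, g ∈ dzCell B (m w) → g ∈ dzCell B (m w') → w = w')
    (hWnd : W.Nodup) (f : G → ℝ) :
    ∑ g : G, f g = (W.map fun w => ∑ g : G, (dzCell B (m w)).indicator f g).sum := by
  rw [← sum_list_map_comm W (fun w g => (dzCell B (m w)).indicator f g)]
  apply Finset.sum_congr rfl
  intro g _
  rw [list_sum_indicator W (fun w => dzCell B (m w)) hWnd hdisj f g, if_pos (hcover g)]

end K

end Cfsg.Agent.ChevDZ
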