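import Mathlib
import Cfsg.Agent.ChevDZ.H8_Form

/-!
# S2318 (lead): every representation of a finite group on a coordinate space has an invariant
positive definite Hermitian form (`l_exists_invForm`), by averaging the standard form.
-/

set_option autoImplicit false

namespace Cfsg.Agent.ChevDZ

open scoped ComplexConjugate

variable {G : Type*} [Group G] [Fintype G]

/-- the averaged standard form, as a function -/
noncomputable def lAvgFun {n : ℕ} (ρ : Representation ℂ G (Fin n → ℂ)) (v w : Fin n → ℂ) : ℂ :=
  ∑ g : G, ∑ i : Fin n, conj (ρ g v i) * ρ g w i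

/-- the averaged standard form -/
noncomputable def lAvgForm {n : ℕ} (ρ : Representation ℂ G (Fin n → ℂ)) :
    (Fin n → ℂ) →ₗ⋆[ℂ] (Fin n → ℂ) →ₗ[ℂ] ℂ :=
  LinearMap.mk₂'ₛₗ (starRingEnd ℂ) (RingHom.id ℂ) (lAvgFun ρ)
    (by
      intro v₁ v₂ w
      unfold lAvgFun
      rw [← Finset.sum_add_distrib]
      apply Finset.sum_congr rfl
      intro g _
      rw [← Finset.sum_add_distrib]
      apply Finset.sum_congr rfl
      intro i _
      rw [map_add, Pi.add_apply, map_add]
      ring)
    (by
      intro c v w
      unfold lAvgFun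
      rw [Finset.smul_sum]
      apply Finset.sum_congr rfl
      intro g _
      rw [Finset.smul_sum]
      apply Finset.sum_congr rfl
      intro i _
      rw [map_smul, Pi.smul_apply, smul_eq_mul, map_mul, smul_eq_mul]
      ring)
    (by
      intro v w₁ w₂
      unfold lAvgFun
      rw [← Finset.sum_add_distrib]
      apply Finset.sum_congr rfl
      intro g _
      rw [← Finset.sum_add_distrib]
      apply Finset.sum_congr rfl
      intro i _
      rw [map_add, Pi.add_apply]
      ring)
    (by
      intro c v w
      unfold lAvgFun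
      rw [Finset.smul_sum]
      apply Finset.sum_congr rfl
      intro g _
      rw [Finset.smul_sum]
      apply Finset.sum_congr rfl
      intro i _
      rw [map_smul, Pi.smul_apply, smul_eq_mul, RingHom.id_apply, smul_eq_mul]
      ring)

theorem lAvgForm_apply {n : ℕ} (ρ : Representation ℂ G (Fin n → ℂ)) (v w : Fin n → ℂ) :
    lAvgForm ρ v w = ∑ g : G, ∑ i : Fin n, conj (ρ g v i) * ρ g w i := rfl

/-- every representation of a finite group on `Fin n → ℂ` has an invariant form -/
theorem l_exists_invForm {n : ℕ} (ρ : Representation ℂ G (Fin n → ℂ)) : Nonempty (InvForm ρ) := by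
  refine ⟨⟨lAvgForm ρ, ?_, ?_, ?_, ?_⟩⟩
  · intro v w
    rw [lAvgForm_apply, lAvgForm_apply, Complex.star_def, map_sum]
    apply Finset.sum_congr rfl
    intro g _
    rw [map_sum]
    apply Finset.sum_congr rfl
    intro i _
    rw [map_mul, Complex.conj_conj]
    ring
  · intro v
    rw [lAvgForm_apply, Complex.re_sum]
    apply Finset.sum_nonneg
    intro g _
    rw [Complex.re_sum]
    apply Finset.sum_nonneg
    intro i _
    rw [← Complex.normSq_eq_conj_mul_self, Complex.ofReal_re]
    exact Complex.normSq_nonneg _
  · intro v hv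
    rw [lAvgForm_apply] at hv
    have h1 : ∀ g : G, ∀ i : Fin n, conj (ρ g v i) * ρ g v i = ((Complex.normSq (ρ g v i) : ℝ) : ℂ) := by
      intro g i
      rw [← Complex.normSq_eq_conj_mul_self]
    simp_rw [h1] at hv
    have h2 : (∑ g : G, ∑ i : Fin n, Complex.normSq (ρ g v i) : ℝ) = 0 := by
      have := congrArg Complex.re hv
      simpa using this
    have h3 := (Finset.sum_eq_zero_iff_of_nonneg (fun g _ =>
      Finset.sum_nonneg (fun i _ => Complex.normSq_nonneg _))).mp h2 1 (Finset.mem_univ _)
    have h4 := (Finset.sum_eq_zero_iff_of_nonneg (fun i _ => Complex.normSq_nonneg _)).mp h3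
    funext i
    have h5 := h4 i (Finset.mem_univ _)
    rw [map_one, Complex.normSq_eq_zero] at h5
    exact h5
  · intro h v w
    rw [lAvgForm_apply, lAvgForm_apply]
    refine Fintype.sum_equiv (Equiv.mulRight h) _ _ (fun g => ?_)
    rw [Equiv.coe_mulRight]
    apply Finset.sum_congr rfl
    intro i _
    rw [rho_mul_apply, rho_mul_apply]

end Cfsg.Agent.ChevDZ
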