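import Mathlib
import Cfsg.Agent.ChevDZ.H8_Norm
import Cfsg.Agent.ChevDZ.L_AvgForm
import Cfsg.Agent.ChevDZ.H2_CellSum
import Cfsg.Agent.ChevDZ.H8_Partition
import Cfsg.Agent.Helper6.CharBasic
import Cfsg.Agent.Helper6.IrrDegree

/-!
# S2318 (helper8): the abstract main theorem `dz_main`

Two irreducible characters of a finite group with a sharp Bruhat decomposition which vanish on
`U ∖ 1` are equal.
-/

set_option autoImplicit false

namespace Cfsg.Agent.ChevDZ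

open Matrix Module Cfsg Cfsg.Agent.SLMin

universe u

/-! ### counting -/

section count

variable {G : Type*} [Group G] [Fintype G]

/-- the sum of the indicator of a cell is its cardinality -/
theorem sum_indicator_cell (B : Subgroup G) [Fintype ↥B] (n : G) :
    ∑ g : G, (dzCell B n).indicator (fun _ => (1 : ℝ)) g = (Nat.card (dzCell B n) : ℝ) := by
  have h := dz_cell_sum B n (fun _ => (1 : ℝ))
  have hB : ((Fintype.card ↥B : ℝ)) ^ 2 ≠ 0 := by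
    have : (Fintype.card ↥B : ℝ) ≠ 0 := Nat.cast_ne_zero.mpr Fintype.card_ne_zero
    positivity
  have h2 : ∑ b : ↥B, ∑ _b' : ↥B, (1 : ℝ) = ((Fintype.card ↥B : ℝ)) ^ 2 := by
    simp only [Finset.sum_const, Finset.card_univ, nsmul_eq_mul, mul_one]
    ring
  rw [h2] at h
  exact mul_right_cancel₀ hB h

/-- the numerical identity behind the equality case -/
theorem dz_numeric (B U : Subgroup G) [Fintype ↥B] [Fintype ↥U] (q : ℕ) (hq : 0 < q)
    (m : List ℕ → G) (W : List (List ℕ))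
    (hcover : ∀ g : G, ∃ w ∈ W, g ∈ dzCell B (m w))
    (hdisj : ∀ w ∈ W, ∀ w' ∈ W, ∀ g : G, g ∈ dzCell B (m w) → g ∈ dzCell B (m w') → w = w')
    (hWnd : W.Nodup)
    (hcard : ∀ w ∈ W, Nat.card (dzCell B (m w)) = Nat.card B * q ^ w.length)
    (N : ℕ) (hUN : Nat.card U = q ^ N) (hlenN : ∀ w ∈ W, w.length ≤ N)
    (hpal : (W.map fun w => q ^ w.length).sum = (W.map fun w => q ^ (N - w.length)).sum) :
    (Fintype.card G : ℝ) / (Fintype.card ↥U : ℝ) =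
      (W.map fun w => (Fintype.card ↥B : ℝ) * ((q : ℝ)⁻¹) ^ w.length).sum := by
  have hq0 : (q : ℝ) ≠ 0 := Nat.cast_ne_zero.mpr hq.ne'
  have h1 := dz_partition_sum B m W hcover hdisj hWnd (fun _ => (1 : ℝ))
  rw [Finset.sum_const, Finset.card_univ, nsmul_eq_mul, mul_one] at h1
  have h2 : (W.map fun w => ∑ g : G, (dzCell B (m w)).indicator (fun _ => (1 : ℝ)) g) =
      W.map fun w => (Fintype.card ↥B : ℝ) * (q : ℝ) ^ w.length := by
    apply List.map_congr_left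
    intro w hw
    rw [sum_indicator_cell, hcard w hw, Nat.card_eq_fintype_card]
    push_cast
    rfl
  rw [h2, List.sum_map_mul_left] at h1
  have h3 : (W.map fun w => (q : ℝ) ^ w.length).sum = (W.map fun w => (q : ℝ) ^ (N - w.length)).sum := by
    have := congrArg (Nat.cast : ℕ → ℝ) hpal
    rw [Nat.cast_list_sum, Nat.cast_list_sum, List.map_map, List.map_map] at this
    simpa [Function.comp_def] using this
  have h4 : (W.map fun w => (q : ℝ) ^ (N - w.length)) =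
      W.map fun w => (q : ℝ) ^ N * ((q : ℝ)⁻¹) ^ w.length := by
    apply List.map_congr_left
    intro w hw
    rw [pow_sub₀ _ hq0 (hlenN w hw), inv_pow]
  rw [h3, h4, List.sum_map_mul_left] at h1
  have hU : (Fintype.card ↥U : ℝ) = (q : ℝ) ^ N := by
    rw [← Nat.card_eq_fintype_card, hUN]
    push_cast
    rfl
  rw [h1, hU, List.sum_map_mul_left]
  have : (q : ℝ) ^ N ≠ 0 := pow_ne_zero _ hq0
  field_simp

end count

/-! ### the cells -/

section cells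

variable {G : Type*} [Group G] {V : Type*} [AddCommGroup V] [Module ℂ V]

/-- conjugation by an element of `B` (which normalises `U`) preserves the `U`-fixed vectors -/
theorem fixed_of_normalizes (ρ : Representation ℂ G V) (B U : Subgroup G)
    (hUn : ∀ b ∈ B, ∀ u ∈ U, b * u * b⁻¹ ∈ U) {b : G} (hb : b ∈ B) {z : V}
    (hz : ∀ u ∈ U, ρ u z = z) : ∀ u ∈ U, ρ u (ρ b z) = ρ b z := by
  intro u hu
  have h1 : b⁻¹ * u * b ∈ U := by
    have := hUn b⁻¹ (inv_mem hb) u hu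
    rwa [inv_inv] at this
  have h2 : u * b = b * (b⁻¹ * u * b) := by group
  rw [← rho_mul_apply, h2, rho_mul_apply, hz _ h1]

/-- `E ρ(b g) = ρ(b) E ρ(g)` for `b ∈ B` -/
theorem avgOp_mul_left (ρ : Representation ℂ G V) (B U : Subgroup G) [Fintype ↥U]
    (hUn : ∀ b ∈ B, ∀ u ∈ U, b * u * b⁻¹ ∈ U) {b : G} (hb : b ∈ B) (v : V) :
    avgOp ρ U (ρ b v) = ρ b (avgOp ρ U v) := by
  apply avgOp_comm ρ U (hUn b hb)
  intro u hu
  have := hUn b⁻¹ (inv_mem hb) u hu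
  rwa [inv_inv] at this

theorem nsq_cell (ρ : Representation ℂ G V) (Φ : InvForm ρ) (B U : Subgroup G) [Fintype ↥U]
    (hUn : ∀ b ∈ B, ∀ u ∈ U, b * u * b⁻¹ ∈ U) (m : G) (z : V) {b : G} (hb : b ∈ B) (b' : G) :
    Φ.nsq (avgOp ρ U (ρ (b * m * b') z)) = Φ.nsq (avgOp ρ U (ρ m (ρ b' z))) := by
  rw [rho_mul_apply, rho_mul_apply, avgOp_mul_left ρ B U hUn hb, Φ.nsq_rho]

end cells

/-! ### the hypotheses, bundled -/

/-- the hypotheses of `dz_main` on the group -/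
structure DZHyp {G : Type*} [Group G] {F : Type*} [Field F] [Fintype F] [DecidableEq F]
    (B U H : Subgroup G) (l : ℕ) (ι : ℕ → SpecialLinearGroup (Fin 2) F →* G)
    (W : List (List ℕ)) (N : ℕ) : Prop where
  hUB : U ≤ B
  hHB : H ≤ B
  hUn : ∀ b ∈ B, ∀ u ∈ U, b * u * b⁻¹ ∈ U
  hBUH : ∀ b ∈ B, ∃ u ∈ U, ∃ h ∈ H, b = u * h
  hUH : ∀ g ∈ U, g ∈ H → g = 1
  hx : ∀ i < l, ∀ b : F, ι i (s7_x b) ∈ U
  hnorm : ∀ i < l, ∀ u ∈ U, ∃ π : F ≃ F, ∀ b : F,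
      (ι i (s7_x (π b) * s7_s))⁻¹ * u * ι i (s7_x b * s7_s) ∈ U
  hgen : ∀ t ∈ H, t ∈ Subgroup.closure {g : G | ∃ i < l, ∃ a : Fˣ, g = ι i (s7_h a)}
  hWl : ∀ w ∈ W, ∀ i ∈ w, i < l
  hcover : ∀ g : G, ∃ w ∈ W, g ∈ dzCell B (wordProd (dzN ι) w)
  hdisj : ∀ w ∈ W, ∀ w' ∈ W, ∀ g : G, g ∈ dzCell B (wordProd (dzN ι) w) →
      g ∈ dzCell B (wordProd (dzN ι) w') → w = w'
  hWnd : W.Nodup
  hcard : ∀ w ∈ W, Nat.card (dzCell B (wordProd (dzN ι) w)) =
      Nat.card B * Fintype.card F ^ w.length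
  hW1 : ∀ i < l, [i] ∈ W
  hpeel : ∀ w ∈ W, ∀ (w₁ : List ℕ) (k : ℕ) (w₂ : List ℕ), w = w₁ ++ k :: w₂ →
      ∀ b ∈ B, ∃ u₁ ∈ U, ∃ h ∈ H, ∃ u₂ ∈ U, b * h⁻¹ ∈ U ∧
        wordProd (dzN ι) w₁ * b * dzN ι k =
          u₁ * (wordProd (dzN ι) w₁ * dzN ι k) * u₂ * ((dzN ι k)⁻¹ * h * dzN ι k)
  hUN : Nat.card U = Fintype.card F ^ N
  hlenN : ∀ w ∈ W, w.length ≤ N
  hpal : (W.map fun w => Fintype.card F ^ w.length).sum =
      (W.map fun w => Fintype.card F ^ (N - w.length)).sum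

namespace DZHyp

variable {G : Type*} [Group G] {F : Type*} [Field F] [Fintype F] [DecidableEq F]
  {B U H : Subgroup G} {l : ℕ} {ι : ℕ → SpecialLinearGroup (Fin 2) F →* G}
  {W : List (List ℕ)} {N : ℕ}

/-- peeling, for the elements of `U` -/
theorem peelU (hyp : DZHyp B U H l ι W N) {w : List ℕ} (hw : w ∈ W) (w₁ : List ℕ) (k : ℕ)
    (w₂ : List ℕ) (he : w = w₁ ++ k :: w₂) : ∀ u ∈ U, ∃ u₁ ∈ U, ∃ u₂ ∈ U,
      wordProd (dzN ι) w₁ * u * dzN ι k = u₁ * (wordProd (dzN ι) w₁ * dzN ι k) * u₂ := by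
  intro u hu
  obtain ⟨u₁, hu₁, h, hh, u₂, hu₂, h1, h2⟩ := hyp.hpeel w hw w₁ k w₂ he u (hyp.hUB hu)
  have hhU : h ∈ U := by
    have h3 : h⁻¹ = u⁻¹ * (u * h⁻¹) := by group
    have h4 : h⁻¹ ∈ U := by
      rw [h3]
      exact mul_mem (inv_mem hu) h1
    have := inv_mem h4
    rwa [inv_inv] at this
  have hh1 : h = 1 := hyp.hUH h hhU hh
  refine ⟨u₁, hu₁, u₂, hu₂, ?_⟩
  rw [h2, hh1]
  group

/-! ### the inequality and its case of equality -/

section core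

variable [Fintype G] {V : Type*} [AddCommGroup V] [Module ℂ V] [FiniteDimensional ℂ V]
variable [Fintype ↥B] [Fintype ↥U]

omit [Fintype G] [FiniteDimensional ℂ V] [Fintype ↥B] in
/-- the lower bound for the words of `W` -/
theorem word_ge (hyp : DZHyp B U H l ι W N) (ρ : Representation ℂ G V) (Φ : InvForm ρ)
    {w : List ℕ} (hw : w ∈ W) {z : V} (hz : ∀ u ∈ U, ρ u z = z) :
    ((Fintype.card F : ℝ)⁻¹) ^ (2 * w.length) * Φ.nsq z ≤
      Φ.nsq (avgOp ρ U (ρ (wordProd (dzN ι) w) z)) :=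
  nsq_word_ge ρ Φ U l ι hyp.hx hyp.hnorm w (hyp.hWl w hw)
    (fun w₁ k w₂ he => hyp.peelU hw w₁ k w₂ he) w [] (List.append_nil w).symm z hz

omit [Fintype G] [FiniteDimensional ℂ V] [Fintype ↥B] in
/-- the terms of the double sum over `B × B` -/
theorem term_ge (hyp : DZHyp B U H l ι W N) (ρ : Representation ℂ G V) (Φ : InvForm ρ)
    {w : List ℕ} (hw : w ∈ W) {z : V} (hz : ∀ u ∈ U, ρ u z = z) (b b' : ↥B) :
    ((Fintype.card F : ℝ)⁻¹) ^ (2 * w.length) * Φ.nsq z ≤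
      Φ.nsq (avgOp ρ U (ρ ((b : G) * wordProd (dzN ι) w * (b' : G)) z)) := by
  rw [nsq_cell ρ Φ B U hyp.hUn _ z b.2]
  have h1 := hyp.word_ge ρ Φ hw (fixed_of_normalizes ρ B U hyp.hUn b'.2 hz)
  rwa [Φ.nsq_rho] at h1

omit [FiniteDimensional ℂ V] in
/-- the lower bound for the sum over a cell -/
theorem cell_ge (hyp : DZHyp B U H l ι W N) (ρ : Representation ℂ G V) (Φ : InvForm ρ)
    {w : List ℕ} (hw : w ∈ W) {z : V} (hz : ∀ u ∈ U, ρ u z = z) :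
    (Fintype.card ↥B : ℝ) * ((Fintype.card F : ℝ)⁻¹) ^ w.length * Φ.nsq z ≤
      ∑ g : G, (dzCell B (wordProd (dzN ι) w)).indicator
        (fun g => Φ.nsq (avgOp ρ U (ρ g z))) g := by
  have hq : (0 : ℝ) < (Fintype.card F : ℝ) := Nat.cast_pos.mpr Fintype.card_pos
  have hB : (0 : ℝ) < (Fintype.card ↥B : ℝ) := Nat.cast_pos.mpr Fintype.card_pos
  have h1 := dz_cell_sum B (wordProd (dzN ι) w) (fun g => Φ.nsq (avgOp ρ U (ρ g z)))
  have h2 : ∑ _b : ↥B, ∑ _b' : ↥B, ((Fintype.card F : ℝ)⁻¹) ^ (2 * w.length) * Φ.nsq z ≤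
      ∑ b : ↥B, ∑ b' : ↥B,
        Φ.nsq (avgOp ρ U (ρ ((b : G) * wordProd (dzN ι) w * (b' : G)) z)) :=
    Finset.sum_le_sum (fun b _ => Finset.sum_le_sum (fun b' _ => hyp.term_ge ρ Φ hw hz b b'))
  simp only [Finset.sum_const, Finset.card_univ, nsmul_eq_mul] at h2
  rw [hyp.hcard w hw, Nat.card_eq_fintype_card] at h1
  push_cast at h1
  have h3 : (Fintype.card ↥B : ℝ) * ((Fintype.card F : ℝ)⁻¹) ^ w.length * Φ.nsq z *
      ((Fintype.card ↥B : ℝ)) ^ 2 ≤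
      (∑ g : G, (dzCell B (wordProd (dzN ι) w)).indicator
        (fun g => Φ.nsq (avgOp ρ U (ρ g z))) g) * ((Fintype.card ↥B : ℝ)) ^ 2 := by
    rw [h1]
    have h4 : (Fintype.card ↥B : ℝ) * ((Fintype.card F : ℝ)⁻¹) ^ w.length * Φ.nsq z *
        ((Fintype.card ↥B : ℝ)) ^ 2 =
        ((Fintype.card ↥B : ℝ) * (Fintype.card F : ℝ) ^ w.length) *
          ((Fintype.card ↥B : ℝ) * ((Fintype.card ↥B : ℝ) *
            (((Fintype.card F : ℝ)⁻¹) ^ (2 * w.length) * Φ.nsq z))) := by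
      rw [pow_mul, inv_pow, inv_pow, inv_pow]
      field_simp
      ring
    rw [h4]
    apply mul_le_mul_of_nonneg_left h2
    positivity
  exact le_of_mul_le_mul_right h3 (by positivity)

/-- the case of equality: the sum over every cell equals the lower bound -/
theorem cell_eq (hyp : DZHyp B U H l ι W N) (ρ : Representation ℂ G V)
    (hirr : ρ.IsIrreducible) (Φ : InvForm ρ)
    (hvan : ∀ u ∈ U, u ≠ 1 → ρ.character u = 0) (hn : (finrank ℂ V : ℂ) ≠ 0)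
    {z : V} (hz : ∀ u ∈ U, ρ u z = z) : ∀ w ∈ W,
    ∑ g : G, (dzCell B (wordProd (dzN ι) w)).indicator
        (fun g => Φ.nsq (avgOp ρ U (ρ g z))) g =
      (Fintype.card ↥B : ℝ) * ((Fintype.card F : ℝ)⁻¹) ^ w.length * Φ.nsq z := by
  apply list_sum_termwise W
  · intro w hw
    exact hyp.cell_ge ρ Φ hw hz
  · have h1 := dz_partition_sum B (wordProd (dzN ι)) W hyp.hcover hyp.hdisj hyp.hWnd
      (fun g => Φ.nsq (avgOp ρ U (ρ g z)))
    have h2 := dz_numeric B U (Fintype.card F) Fintype.card_pos (wordProd (dzN ι)) W hyp.hcover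
      hyp.hdisj hyp.hWnd hyp.hcard N hyp.hUN hyp.hlenN hyp.hpal
    rw [← h1, sum_nsq_avgOp ρ hirr Φ U hvan hn z, h2, ← List.sum_map_mul_right]

/-- the case of equality for the words of `W` -/
theorem word_eq (hyp : DZHyp B U H l ι W N) (ρ : Representation ℂ G V)
    (hirr : ρ.IsIrreducible) (Φ : InvForm ρ)
    (hvan : ∀ u ∈ U, u ≠ 1 → ρ.character u = 0) (hn : (finrank ℂ V : ℂ) ≠ 0)
    {z : V} (hz : ∀ u ∈ U, ρ u z = z) {w : List ℕ} (hw : w ∈ W) :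
    Φ.nsq (avgOp ρ U (ρ (wordProd (dzN ι) w) z)) =
      ((Fintype.card F : ℝ)⁻¹) ^ (2 * w.length) * Φ.nsq z := by
  have hq : (0 : ℝ) < (Fintype.card F : ℝ) := Nat.cast_pos.mpr Fintype.card_pos
  have hB : (0 : ℝ) < (Fintype.card ↥B : ℝ) := Nat.cast_pos.mpr Fintype.card_pos
  have h1 := dz_cell_sum B (wordProd (dzN ι) w) (fun g => Φ.nsq (avgOp ρ U (ρ g z)))
  rw [hyp.cell_eq ρ hirr Φ hvan hn hz w hw, hyp.hcard w hw, Nat.card_eq_fintype_card] at h1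
  push_cast at h1
  -- the double sum of the differences vanishes
  have h2 : ∑ b : ↥B, ∑ b' : ↥B,
      (Φ.nsq (avgOp ρ U (ρ ((b : G) * wordProd (dzN ι) w * (b' : G)) z)) -
        ((Fintype.card F : ℝ)⁻¹) ^ (2 * w.length) * Φ.nsq z) = 0 := by
    simp only [Finset.sum_sub_distrib, Finset.sum_const, Finset.card_univ, nsmul_eq_mul]
    have h3 : (Fintype.card ↥B : ℝ) * (Fintype.card F : ℝ) ^ w.length ≠ 0 := by positivity
    apply mul_left_cancel₀ h3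
    rw [mul_sub, ← h1, mul_zero, pow_mul, inv_pow, inv_pow, inv_pow]
    field_simp
    ring
  have h4 := (Finset.sum_eq_zero_iff_of_nonneg (fun b _ => Finset.sum_nonneg (fun b' _ =>
    sub_nonneg.mpr (hyp.term_ge ρ Φ hw hz b b')))).mp h2 1 (Finset.mem_univ _)
  have h5 := (Finset.sum_eq_zero_iff_of_nonneg (fun b' _ =>
    sub_nonneg.mpr (hyp.term_ge ρ Φ hw hz 1 b'))).mp h4 1 (Finset.mem_univ _)
  rw [Subgroup.coe_one, one_mul, mul_one] at h5
  linarith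

/-- the simple reflections: the torus elements fix `V^U`, and `E ρ(n_i) = -1/q` on `V^U` -/
theorem simple_eq (hyp : DZHyp B U H l ι W N) (ρ : Representation ℂ G V)
    (hirr : ρ.IsIrreducible) (Φ : InvForm ρ)
    (hvan : ∀ u ∈ U, u ≠ 1 → ρ.character u = 0) (hn : (finrank ℂ V : ℂ) ≠ 0)
    {z : V} (hz : ∀ u ∈ U, ρ u z = z) {i : ℕ} (hi : i < l) :
    (∀ a : Fˣ, ρ (ι i (s7_h a)) z = z) ∧
      avgOp ρ U (ρ (dzN ι i) z) = (-(Fintype.card F : ℂ)⁻¹) • z := by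
  have h1 := hyp.word_eq ρ hirr Φ hvan hn hz (hyp.hW1 i hi)
  rw [wordProd_singleton, List.length_singleton, Nat.mul_one] at h1
  exact nsq_avgOp_n_eq ρ Φ U (ι i) (hyp.hx i hi) (hyp.hnorm i hi) hz h1

/-- `B` fixes the `U`-fixed vectors -/
theorem fixed_B (hyp : DZHyp B U H l ι W N) (ρ : Representation ℂ G V)
    (hirr : ρ.IsIrreducible) (Φ : InvForm ρ)
    (hvan : ∀ u ∈ U, u ≠ 1 → ρ.character u = 0) (hn : (finrank ℂ V : ℂ) ≠ 0)
    {z : V} (hz : ∀ u ∈ U, ρ u z = z) : ∀ b ∈ B, ρ b z = z := by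
  have hcl : ∀ t ∈ Subgroup.closure {g : G | ∃ i < l, ∃ a : Fˣ, g = ι i (s7_h a)},
      ρ t z = z := by
    intro t h1
    induction h1 using Subgroup.closure_induction with
    | mem x hx =>
      obtain ⟨i, hi, a, rfl⟩ := hx
      exact (hyp.simple_eq ρ hirr Φ hvan hn hz hi).1 a
    | one => rw [map_one]; rfl
    | mul x y _ _ hx hy => rw [rho_mul_apply, hy, hx]
    | inv x _ hx =>
      have h2 := rho_inv_rho ρ x z
      rw [hx] at h2
      exact h2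
  have hH : ∀ t ∈ H, ρ t z = z := fun t ht => hcl t (hyp.hgen t ht)
  intro b hb
  obtain ⟨u, hu, h, hh, rfl⟩ := hyp.hBUH b hb
  rw [rho_mul_apply, hH h hh, hz u hu]

/-- `E ρ(g)` on `V^U` is the scalar `(-1/q)^{l(w)}` for `g` in the cell of `w` -/
theorem avgOp_cell (hyp : DZHyp B U H l ι W N) (ρ : Representation ℂ G V)
    (hirr : ρ.IsIrreducible) (Φ : InvForm ρ)
    (hvan : ∀ u ∈ U, u ≠ 1 → ρ.character u = 0) (hn : (finrank ℂ V : ℂ) ≠ 0)
    {z : V} (hz : ∀ u ∈ U, ρ u z = z) {w : List ℕ} (hw : w ∈ W) {g : G}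
    (hg : g ∈ dzCell B (wordProd (dzN ι) w)) :
    avgOp ρ U (ρ g z) = (-(Fintype.card F : ℂ)⁻¹) ^ w.length • z := by
  obtain ⟨b, hb, b', hb', rfl⟩ := hg
  have hfix := hyp.fixed_B ρ hirr Φ hvan hn hz
  rw [rho_mul_apply, rho_mul_apply, hfix b' hb', avgOp_mul_left ρ B U hyp.hUn hb,
    avgOp_word_eq ρ U l ι (-(Fintype.card F : ℂ)⁻¹)
      (fun i hi z' hz' => (hyp.simple_eq ρ hirr Φ hvan hn hz' hi).2) w (hyp.hWl w hw)
      (fun w₁ k w₂ he => hyp.peelU hw w₁ k w₂ he) w [] (List.append_nil w).symm z hz,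
    map_smul, hfix b hb]

/-- the function `κ`: `(-1/q)^{l(w)}` on the cell of `w` -/
noncomputable def kappa (hyp : DZHyp B U H l ι W N) (g : G) : ℂ :=
  (-(Fintype.card F : ℂ)⁻¹) ^ (Classical.choose (hyp.hcover g)).length

theorem avgOp_kappa (hyp : DZHyp B U H l ι W N) (ρ : Representation ℂ G V)
    (hirr : ρ.IsIrreducible) (Φ : InvForm ρ)
    (hvan : ∀ u ∈ U, u ≠ 1 → ρ.character u = 0) (hn : (finrank ℂ V : ℂ) ≠ 0)
    {z : V} (hz : ∀ u ∈ U, ρ u z = z) (g : G) :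
    avgOp ρ U (ρ g z) = hyp.kappa g • z := by
  obtain ⟨hw, hg⟩ := Classical.choose_spec (hyp.hcover g)
  exact hyp.avgOp_cell ρ hirr Φ hvan hn hz hw hg

omit [Fintype G] [Fintype ↥B] in
/-- there is a non-zero `U`-fixed vector -/
theorem exists_fixed (ρ : Representation ℂ G V)
    (hvan : ∀ u ∈ U, u ≠ 1 → ρ.character u = 0) (hn : (finrank ℂ V : ℂ) ≠ 0) :
    ∃ z : V, z ≠ 0 ∧ ∀ u ∈ U, ρ u z = z := by
  have h1 := trace_avgOp_of_vanish ρ U hvan
  have h2 : avgOp ρ U ≠ 0 := by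
    intro h
    rw [h, map_zero] at h1
    exact div_ne_zero hn (card_ne_zero_complex U) h1.symm
  obtain ⟨v, hv⟩ : ∃ v : V, avgOp ρ U v ≠ 0 := by
    by_contra hcon
    push Not at hcon
    exact h2 (LinearMap.ext hcon)
  exact ⟨avgOp ρ U v, hv, fun u hu => rho_avgOp ρ U hu v⟩

/-- the character is determined, up to the degree, by `κ` -/
theorem char_formula (hyp : DZHyp B U H l ι W N) (ρ : Representation ℂ G V)
    (hirr : ρ.IsIrreducible) (Φ : InvForm ρ)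
    (hvan : ∀ u ∈ U, u ≠ 1 → ρ.character u = 0) (hn : (finrank ℂ V : ℂ) ≠ 0) (g : G) :
    (finrank ℂ V : ℂ) * ∑ x : G, hyp.kappa (x * g * x⁻¹) =
      (Fintype.card G : ℂ) * ρ.character g := by
  obtain ⟨z, hz0, hz⟩ := exists_fixed (U := U) ρ hvan hn
  have h1 := l_char_of_coef ρ hirr Φ z g
  have h2 : ∀ g' : G, Φ.ip z (ρ g' z) = hyp.kappa g' * Φ.ip z z := by
    intro g'
    have h3 : Φ.ip z (ρ g' z) = Φ.ip (avgOp ρ U z) (ρ g' z) := by rw [avgOp_fixed ρ U hz]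
    rw [h3, Φ.ip_avgOp_left, hyp.avgOp_kappa ρ hirr Φ hvan hn hz, Φ.ip_smul_right]
  rw [Finset.sum_congr rfl (fun x _ => h2 (x * g * x⁻¹)), ← Finset.sum_mul, ← mul_assoc] at h1
  have h4 : Φ.ip z z ≠ 0 := fun h => hz0 (Φ.definite z h)
  exact mul_right_cancel₀ h4 h1

end core

end DZHyp

/-! ### the main theorem -/

/-- under `DZHyp`, two irreducible characters vanishing on `U ∖ 1` are equal -/
theorem dz_main_of_hyp {G : Type u} [Group G] [Fintype G] {F : Type*} [Field F] [Fintype F]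
    [DecidableEq F] {B U H : Subgroup G} {l : ℕ}
    {ι : ℕ → SpecialLinearGroup (Fin 2) F →* G} {W : List (List ℕ)} {N : ℕ}
    (hyp : DZHyp B U H l ι W N)
    (χ χ₀ : G → ℂ) (hχ : IsIrrCharacter G χ) (hχ₀ : IsIrrCharacter G χ₀)
    (hvan : ∀ u ∈ U, u ≠ 1 → χ u = 0) (hvan₀ : ∀ u ∈ U, u ≠ 1 → χ₀ u = 0) :
    χ = χ₀ := by
  classical
  have : Fintype ↥B := Fintype.ofFinite _
  have : Fintype ↥U := Fintype.ofFinite _
  have h1 := Cfsg.Agent.Helper6.IsIrrCharacter.apply_one_ne_zero hχ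
  have h1₀ := Cfsg.Agent.Helper6.IsIrrCharacter.apply_one_ne_zero hχ₀
  have hG : (Fintype.card G : ℂ) ≠ 0 := Nat.cast_ne_zero.mpr Fintype.card_ne_zero
  -- the two formulas
  have key : ∀ ψ : G → ℂ, IsIrrCharacter G ψ → (∀ u ∈ U, u ≠ 1 → ψ u = 0) → ∀ g : G,
      ψ 1 * ∑ x : G, hyp.kappa (x * g * x⁻¹) = (Fintype.card G : ℂ) * ψ g := by
    intro ψ hψ hv g
    have hψ1 := Cfsg.Agent.Helper6.IsIrrCharacter.apply_one_ne_zero hψ
    obtain ⟨n, ρ, hirr, rfl⟩ := hψ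
    obtain ⟨Φ⟩ := l_exists_invForm ρ
    have hn : (finrank ℂ (Fin n → ℂ) : ℂ) = ρ.character 1 := by
      rw [Representation.char_one]
    have h2 := hyp.char_formula ρ hirr Φ hv (by rw [hn]; exact hψ1) g
    rw [hn] at h2
    exact h2
  by_contra hne
  have h2 := Cfsg.Agent.Helper6.classInner_irr_ne hχ hχ₀ hne
  have h3 := Cfsg.Agent.Helper6.classInner_irr_self hχ₀
  have h4 : ∀ g : G, χ g = χ 1 / χ₀ 1 * χ₀ g := by
    intro g
    have e1 := key χ hχ hvan g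
    have e2 := key χ₀ hχ₀ hvan₀ g
    have e3 : χ 1 * ((Fintype.card G : ℂ) * χ₀ g) = χ₀ 1 * ((Fintype.card G : ℂ) * χ g) := by
      rw [← e1, ← e2]
      ring
    field_simp
    have e4 : (Fintype.card G : ℂ) * (χ g * χ₀ 1) = (Fintype.card G : ℂ) * (χ 1 * χ₀ g) := by
      linear_combination -e3
    exact mul_left_cancel₀ hG e4
  have h5 : classInner χ χ₀ = χ 1 / χ₀ 1 * classInner χ₀ χ₀ := by
    unfold classInner
    rw [Finset.sum_congr rfl (fun g _ => by rw [h4 g]), Finset.mul_sum, Finset.mul_sum,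
      Finset.mul_sum]
    apply Finset.sum_congr rfl
    intro g _
    ring
  rw [h2, h3, mul_one] at h5
  exact div_ne_zero h1 h1₀ h5.symm

/-- **The abstract main theorem, version 2**: two irreducible characters vanishing on `U ∖ 1` are
equal. -/
theorem dz_main {G : Type u} [Group G] [Fintype G] {F : Type*} [Field F] [Fintype F]
    [DecidableEq F]
    (B U H : Subgroup G)
    -- (C0) structure of `B = U H`
    (hUB : U ≤ B) (hHB : H ≤ B)
    (hUn : ∀ b ∈ B, ∀ u ∈ U, b * u * b⁻¹ ∈ U)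
    (hBUH : ∀ b ∈ B, ∃ u ∈ U, ∃ h ∈ H, b = u * h)
    (hUH : ∀ g ∈ U, g ∈ H → g = 1)
    -- (C3) rank one
    (l : ℕ) (ι : ℕ → SpecialLinearGroup (Fin 2) F →* G)
    (hx : ∀ i < l, ∀ b : F, ι i (s7_x b) ∈ U)
    (hnorm : ∀ i < l, ∀ u ∈ U, ∃ π : F ≃ F, ∀ b : F,
      (ι i (s7_x (π b) * s7_s))⁻¹ * u * ι i (s7_x b * s7_s) ∈ U)
    -- (C6) the torus is generated by the `h_i(a)`
    (hgen : ∀ t ∈ H, t ∈ Subgroup.closure {g : G | ∃ i < l, ∃ a : Fˣ, g = ι i (s7_h a)})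
    -- (C4) cells
    (W : List (List ℕ)) (hWl : ∀ w ∈ W, ∀ i ∈ w, i < l)
    (hcover : ∀ g : G, ∃ w ∈ W, g ∈ dzCell B (wordProd (dzN ι) w))
    (hdisj : ∀ w ∈ W, ∀ w' ∈ W, ∀ g : G, g ∈ dzCell B (wordProd (dzN ι) w) →
      g ∈ dzCell B (wordProd (dzN ι) w') → w = w')
    (hWnd : W.Nodup)
    (hcard : ∀ w ∈ W, Nat.card (dzCell B (wordProd (dzN ι) w)) =
      Nat.card B * Fintype.card F ^ w.length)
    (hW1 : ∀ i < l, [i] ∈ W)
    -- (C5) peeling the last letter of a prefix (UNCHANGED from version 1 = `h1_hpeel`)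
    (hpeel : ∀ w ∈ W, ∀ (w₁ : List ℕ) (k : ℕ) (w₂ : List ℕ), w = w₁ ++ k :: w₂ →
      ∀ b ∈ B, ∃ u₁ ∈ U, ∃ h ∈ H, ∃ u₂ ∈ U, b * h⁻¹ ∈ U ∧
        wordProd (dzN ι) w₁ * b * dzN ι k =
          u₁ * (wordProd (dzN ι) w₁ * dzN ι k) * u₂ * ((dzN ι k)⁻¹ * h * dzN ι k))
    -- (C8) the Poincaré polynomial is palindromic
    (N : ℕ) (hUN : Nat.card U = Fintype.card F ^ N) (hlenN : ∀ w ∈ W, w.length ≤ N)
    (hpal : (W.map fun w => Fintype.card F ^ w.length).sum =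
      (W.map fun w => Fintype.card F ^ (N - w.length)).sum)
    -- conclusion
    (χ χ₀ : G → ℂ) (hχ : IsIrrCharacter G χ) (hχ₀ : IsIrrCharacter G χ₀)
    (hvan : ∀ u ∈ U, u ≠ 1 → χ u = 0) (hvan₀ : ∀ u ∈ U, u ≠ 1 → χ₀ u = 0) :
    χ = χ₀ :=
  dz_main_of_hyp (B := B) (U := U) (H := H) (l := l) (ι := ι) (W := W) (N := N)
    ⟨hUB, hHB, hUn, hBUH, hUH, hx, hnorm, hgen, hWl, hcover, hdisj, hWnd, hcard, hW1, hpeel,
      hUN, hlenN, hpal⟩ χ χ₀ hχ hχ₀ hvan hvan₀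

end Cfsg.Agent.ChevDZ
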