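import Mathlib
import Cfsg.Agent.Helper7.ChevPoincare

set_option autoImplicit false
set_option linter.unusedSectionVars false
set_option linter.unusedVariables false

/-!
S2318: for a word all of whose prefixes map the next fundamental root to a positive root, the
number of positive roots made negative is the length of the word.
-/

namespace Cfsg.Agent.ChevDZ

open Cfsg Cfsg.Lie Matrix Cfsg.Agent.Helper7 Cfsg.Agent.Helper7.Chev

variable {D : ChevalleyDatum}

/-- The roots `±α_k`. -/
def h1_subK (D : ChevalleyDatum) (k : ℕ) (r : ℕ) : Bool :=
  decide (r = D.simple k ∨ r = D.neg (D.simple k))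

section len

variable (hG : Good2 D) (hT : T0 D) (h6 : (tabOf D).T6)

include hG hT h6 in
theorem h1_subOK {k : ℕ} (hk : k < D.rank) : SubOK D [k] (h1_subK D k) := by
  have hG1 := hG.toGood1
  have hp := hG1.simple_lt hk
  have h1 : (tabOf D).refl (D.simple k) (D.simple k) = D.neg (D.simple k) := refl_self _
  have h2 : (tabOf D).refl (D.simple k) (D.neg (D.simple k)) = D.simple k := by
    rw [hG.refl_neg hk hp, h1, hG1.neg_neg hp]
  refine ⟨?_, ?_, ?_, ?_⟩
  · intro j hj
    rw [List.mem_singleton] at hj
    rw [hj]; exact hk
  · intro j hj r hr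
    rw [List.mem_singleton] at hj
    rw [hj]
    have hrr := hG.refl_refl hk hr
    unfold h1_subK
    rw [decide_eq_decide]
    constructor
    · rintro (h | h)
      · right; rw [← hrr, h, h1]
      · left; rw [← hrr, h, h2]
    · rintro (h | h)
      · right; rw [h, h1]
      · left; rw [h, h2]
  · intro r hr
    unfold h1_subK
    rw [decide_eq_decide]
    constructor
    · rintro (h | h)
      · right; rw [← hG1.neg_neg hr, h]
      · left
        have := congrArg D.neg h
        rwa [hG1.neg_neg hr, hG1.neg_neg hp] at this
    · rintro (h | h)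
      · right; rw [h]
      · left; rw [h, hG1.neg_neg hp]
  · intro j hj r hr hpos hsub
    rw [List.mem_singleton] at hj
    rw [hj]
    have hne : r ≠ D.simple k := by
      intro h
      unfold h1_subK at hsub
      rw [h] at hsub
      simp at hsub
    exact (h6 k hk r hr hpos hne).1

include hG hT h6 in
theorem h1_nMinus_single {k : ℕ} (hk : k < D.rank) : nMinus D [k] = 1 := by
  have hG1 := hG.toGood1
  have hp := hG1.simple_lt hk
  have hpos := simple_pos hG1 hT hk
  have hneg : D.neg (D.simple k) < D.nroots / 2 :=
    ((hT _ hp).2.1 ((isPosRoot_iff hT hp).mpr hpos)).2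
  rw [nMinus_eq_card]
  have : negSet D [k] = {D.simple k} := by
    ext r
    simp only [negSet, Finset.mem_filter, Finset.mem_range, Finset.mem_singleton]
    constructor
    · rintro ⟨hr, hrpos, hrneg⟩
      by_contra hne
      have h6' : D.nroots / 2 ≤ (tabOf D).refl (D.simple k) r := (h6 k hk r hr hrpos hne).1
      have hrneg' : (tabOf D).refl (D.simple k) r < D.nroots / 2 := hrneg
      omega
    · rintro rfl
      refine ⟨hp, hpos, ?_⟩
      have e : (tabOf D).reflWord [k] (D.simple k) =
          (tabOf D).refl (D.simple k) (D.simple k) := rfl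
      rw [e, refl_self]
      exact hneg
  rw [this, Finset.card_singleton]

theorem h1_nMinus_nil : nMinus D [] = 0 := by
  rw [nMinus_eq_card, Finset.card_eq_zero]
  ext r
  simp only [negSet, Finset.mem_filter, Finset.mem_range, Finset.notMem_empty, iff_false]
  rintro ⟨_, h1, h2⟩
  have e : (tabOf D).reflWord [] r = r := rfl
  rw [e] at h2
  omega

include hG hT h6 in
/-- For a word all of whose prefixes map the next fundamental root to a positive root, the number
of positive roots made negative is the length. -/
theorem h1_nMinus_eq_length : ∀ w : List ℕ, (∀ i ∈ w, i < D.rank) → PrefixPos D w →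
    nMinus D w = w.length := by
  have hG1 := hG.toGood1
  intro w
  induction w using List.reverseRecOn with
  | nil => intro _ _; exact h1_nMinus_nil
  | append_singleton u k ih =>
    intro hw hpp
    have hu : ∀ i ∈ u, i < D.rank := fun i hi => hw i (List.mem_append_left _ hi)
    have hk : k < D.rank := hw k (List.mem_append_right _ (List.mem_singleton.mpr rfl))
    have hppu : PrefixPos D u := by
      intro w₁ j w₂ e
      apply hpp w₁ j (w₂ ++ [k])
      rw [e]; simp
    have hposk : D.nroots / 2 ≤ (tabOf D).reflWord u (D.simple k) := hpp u k [] rfl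
    have hp := hG1.simple_lt hk
    have hpos := simple_pos hG1 hT hk
    have hneg : D.neg (D.simple k) < D.nroots / 2 :=
      ((hT _ hp).2.1 ((isPosRoot_iff hT hp).mpr hpos)).2
    have hrep : ∀ r < D.nroots, D.nroots / 2 ≤ r → h1_subK D k r = true →
        D.nroots / 2 ≤ (tabOf D).reflWord u r := by
      intro r hr hrpos hsub
      unfold h1_subK at hsub
      rw [decide_eq_true_eq] at hsub
      rcases hsub with h | h
      · rw [h]; exact hposk
      · rw [h] at hrpos; omega
    rw [nMinus_append hG hT (h1_subOK hG hT h6 hk) hu (by simp) hrep, ih hu hppu,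
      h1_nMinus_single hG hT h6 hk, List.length_append, List.length_singleton]

end len

end Cfsg.Agent.ChevDZ
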