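import Mathlib
import Cfsg.Agent.Helper7.ChevPoincare
import Cfsg.Agent.Helper7.ChevW0

set_option autoImplicit false

/-!
# S2318 (lead): the Poincaré polynomial of the Weyl group is palindromic

Composition with the longest element `w₀` (a word with `W0ok`) exchanges `l(w)` and
`N' - l(w)`, `N' = nroots - nroots / 2` the number of positive roots.
-/

namespace Cfsg.Agent.ChevDZ

open Cfsg Cfsg.Lie Cfsg.Agent.Helper7.Chev

variable {D : ChevalleyDatum}

/-- The longest element exchanges the two halves of the roots. -/
theorem l_w0_flip (hG : Good2 D) {w0 : List ℕ} (h0 : (tabOf D).W0ok w0) {s : ℕ}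
    (hs : s < D.nroots) : (tabOf D).reflWord w0 s < D.nroots / 2 ↔ D.nroots / 2 ≤ s := by
  obtain ⟨hw, ha, hb⟩ := h0
  have hw' : ∀ i ∈ w0, i < D.rank := hw
  constructor
  · intro h
    by_contra hcon
    rw [not_le] at hcon
    have hlt := reflWord_lt hG hw' hs
    have h1 := hb _ hlt h
    rw [reflWord_reverse hG hw' hs] at h1
    change D.nroots / 2 ≤ s at h1
    omega
  · intro h
    exact ha s hs h

/-- `l(w₀ w) + l(w) = N'`, in terms of the maps on the roots. -/
theorem l_nSigma_w0 (hG : Good2 D) {w0 : List ℕ} (h0 : (tabOf D).W0ok w0) {w : List ℕ}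
    (hw : ∀ i ∈ w, i < D.rank) :
    nSigma D (actF D w0 ∘ actF D w) + nSigma D (actF D w) = D.nroots - D.nroots / 2 := by
  have hw0 : ∀ i ∈ w0, i < D.rank := h0.1
  unfold nSigma
  have hdisj : Disjoint
      (Finset.univ.filter fun r : Fin D.nroots =>
        D.nroots / 2 ≤ r.val ∧ ((actF D w0 ∘ actF D w) r).val < D.nroots / 2)
      (Finset.univ.filter fun r : Fin D.nroots =>
        D.nroots / 2 ≤ r.val ∧ (actF D w r).val < D.nroots / 2) := by
    rw [Finset.disjoint_filter]
    intro r _ h1 h2
    rw [Function.comp_apply, actF_val hG hw0, l_w0_flip hG h0 (actF D w r).2] at h1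
    omega
  rw [← Finset.card_union_of_disjoint hdisj]
  have hunion : (Finset.univ.filter fun r : Fin D.nroots =>
        D.nroots / 2 ≤ r.val ∧ ((actF D w0 ∘ actF D w) r).val < D.nroots / 2) ∪
      (Finset.univ.filter fun r : Fin D.nroots =>
        D.nroots / 2 ≤ r.val ∧ (actF D w r).val < D.nroots / 2) =
      Finset.univ.filter fun r : Fin D.nroots => D.nroots / 2 ≤ r.val := by
    ext r
    simp only [Finset.mem_union, Finset.mem_filter, Finset.mem_univ, true_and]
    rw [Function.comp_apply, actF_val hG hw0, l_w0_flip hG h0 (actF D w r).2]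
    constructor
    · rintro (h | h)
      · exact h.1
      · exact h.1
    · intro h
      by_cases h2 : (actF D w r).val < D.nroots / 2
      · exact Or.inr ⟨h, h2⟩
      · exact Or.inl ⟨h, not_lt.mp h2⟩
  rw [hunion]
  -- the number of `r : Fin nroots` with `nroots / 2 ≤ r`
  have hcard : (Finset.univ.filter fun r : Fin D.nroots => D.nroots / 2 ≤ r.val).card =
      ((Finset.range D.nroots).filter fun r => D.nroots / 2 ≤ r).card := by
    apply Finset.card_bij (fun r _ => r.val)
    · intro r hr
      simp only [Finset.mem_filter, Finset.mem_univ, true_and, Finset.mem_range] at hr ⊢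
      exact ⟨r.2, hr⟩
    · intro r _ r' _ h
      exact Fin.ext h
    · intro s hs
      simp only [Finset.mem_filter, Finset.mem_range] at hs
      exact ⟨⟨s, hs.1⟩, by simp [hs.2], rfl⟩
  rw [hcard]
  have : (Finset.range D.nroots).filter (fun r => D.nroots / 2 ≤ r) =
      Finset.Ico (D.nroots / 2) D.nroots := by
    ext r
    simp only [Finset.mem_filter, Finset.mem_range, Finset.mem_Ico]
    tauto
  rw [this, Nat.card_Ico]

/-- Left multiplication by the longest element permutes the Weyl group. -/
theorem l_w0_image (hG : Good2 D) {w0 : List ℕ} (h0 : (tabOf D).W0ok w0) :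
    (WJ D (List.range D.rank)).image (fun σ => actF D w0 ∘ σ) = WJ D (List.range D.rank) := by
  have hw0 : ∀ i ∈ w0, i < D.rank := h0.1
  have hinj : Function.Injective (fun σ : Fin D.nroots → Fin D.nroots => actF D w0 ∘ σ) := by
    intro σ τ h
    have hl : actF D w0.reverse ∘ actF D w0 = id := by
      have hrev : ∀ i ∈ w0.reverse, i < D.rank := fun i hi => hw0 i (List.mem_reverse.mp hi)
      funext r
      apply Fin.ext
      rw [Function.comp_apply, actF_val hG hrev, actF_val hG hw0, reflWord_reverse hG hw0 r.2]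
      rfl
    have : actF D w0.reverse ∘ (actF D w0 ∘ σ) = actF D w0.reverse ∘ (actF D w0 ∘ τ) :=
      congrArg (fun f => actF D w0.reverse ∘ f) h
    rw [← Function.comp_assoc, ← Function.comp_assoc, hl] at this
    exact this
  apply Finset.eq_of_subset_of_card_le
  · intro τ hτ
    rw [Finset.mem_image] at hτ
    obtain ⟨σ, hσ, rfl⟩ := hτ
    rw [mem_WJ] at hσ ⊢
    obtain ⟨w, hw, rfl⟩ := hσ
    have hwr : ∀ i ∈ w, i < D.rank := fun i hi => List.mem_range.mp (hw i hi)
    refine ⟨w0 ++ w, ?_, actF_append hG hw0 hwr⟩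
    intro i hi
    rcases List.mem_append.mp hi with hi | hi
    · exact List.mem_range.mpr (hw0 i hi)
    · exact hw i hi
  · rw [Finset.card_image_of_injective _ hinj]

/-- The Poincaré polynomial is palindromic. -/
theorem l_PS_pal (hG : Good2 D) {w0 : List ℕ} (h0 : (tabOf D).W0ok w0) (q : ℕ) :
    PS D (List.range D.rank) q =
      ∑ σ ∈ WJ D (List.range D.rank), q ^ (D.nroots - D.nroots / 2 - nSigma D σ) := by
  have hw0 : ∀ i ∈ w0, i < D.rank := h0.1
  have hinj : Set.InjOn (fun σ : Fin D.nroots → Fin D.nroots => actF D w0 ∘ σ)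
      (WJ D (List.range D.rank) : Set (Fin D.nroots → Fin D.nroots)) := by
    intro σ _ τ _ h
    have hl : actF D w0.reverse ∘ actF D w0 = id := by
      have hrev : ∀ i ∈ w0.reverse, i < D.rank := fun i hi => hw0 i (List.mem_reverse.mp hi)
      funext r
      apply Fin.ext
      rw [Function.comp_apply, actF_val hG hrev, actF_val hG hw0, reflWord_reverse hG hw0 r.2]
      rfl
    have : actF D w0.reverse ∘ (actF D w0 ∘ σ) = actF D w0.reverse ∘ (actF D w0 ∘ τ) :=
      congrArg (fun f => actF D w0.reverse ∘ f) h
    rw [← Function.comp_assoc, ← Function.comp_assoc, hl] at this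
    exact this
  unfold PS
  conv_lhs => rw [← l_w0_image hG h0]
  rw [Finset.sum_image hinj]
  refine Finset.sum_congr rfl (fun σ hσ => ?_)
  rw [mem_WJ] at hσ
  obtain ⟨w, hw, rfl⟩ := hσ
  have hwr : ∀ i ∈ w, i < D.rank := fun i hi => List.mem_range.mp (hw i hi)
  have := l_nSigma_w0 hG h0 hwr
  congr 1
  omega

/-- `l(w) ≤ N'`. -/
theorem l_nSigma_le (σ : Fin D.nroots → Fin D.nroots) :
    nSigma D σ ≤ D.nroots - D.nroots / 2 := by
  unfold nSigma
  calc (Finset.univ.filter fun r : Fin D.nroots =>
        D.nroots / 2 ≤ r.val ∧ (σ r).val < D.nroots / 2).card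
      ≤ (Finset.univ.filter fun r : Fin D.nroots => D.nroots / 2 ≤ r.val).card := by
        apply Finset.card_le_card
        intro r hr
        simp only [Finset.mem_filter, Finset.mem_univ, true_and] at hr ⊢
        exact hr.1
    _ = ((Finset.range D.nroots).filter fun r => D.nroots / 2 ≤ r).card := by
        apply Finset.card_bij (fun r _ => r.val)
        · intro r hr
          simp only [Finset.mem_filter, Finset.mem_univ, true_and, Finset.mem_range] at hr ⊢
          exact ⟨r.2, hr⟩
        · intro r _ r' _ h
          exact Fin.ext h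
        · intro s hs
          simp only [Finset.mem_filter, Finset.mem_range] at hs
          exact ⟨⟨s, hs.1⟩, by simp [hs.2], rfl⟩
    _ = D.nroots - D.nroots / 2 := by
        have : (Finset.range D.nroots).filter (fun r => D.nroots / 2 ≤ r) =
            Finset.Ico (D.nroots / 2) D.nroots := by
          ext r
          simp only [Finset.mem_filter, Finset.mem_range, Finset.mem_Ico]
          tauto
        rw [this, Nat.card_Ico]

end Cfsg.Agent.ChevDZ
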