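import Mathlib
import Cfsg.Agent.ChevDZ.L_Pal
import Cfsg.Agent.ChevDZ.H1_Len
import Cfsg.Agent.Helper7.ChevCount
import Cfsg.Agent.Helper7.ChevW0All
import Cfsg.Agent.Helper7.ChevGood3
import Cfsg.Agent.Helper7.ChevT0
import Cfsg.Agent.Helper7.ChevT6
import Cfsg.Agent.Helper7.ChevT7

set_option autoImplicit false

/-!
# S2318 (lead): palindromicity of the Poincaré polynomial over a list of words `WList D W`

* `l_sum_WList`: sums over a `WList` are sums over the Weyl group `WJ D (List.range D.rank)`;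
* `l_hpal`, `l_hlenN`: the hypotheses `hpal`, `hlenN` of the abstract main theorem, with
  `N = D.nroots / 2`.
-/

namespace Cfsg.Agent.ChevDZ

open Cfsg Cfsg.Lie Cfsg.Agent.Helper7.Chev

variable {D : ChevalleyDatum}

/-- every word acts as a word of the list -/
theorem l_exists_rep {W : List (List ℕ)} (hW : WList D W) (v : List ℕ)
    (hv : ∀ i ∈ v, i < D.rank) :
    ∃ w ∈ W, ∀ r < D.nroots, (tabOf D).reflWord v r = (tabOf D).reflWord w r := by
  induction v with
  | nil => exact ⟨[], hW.nil_mem, fun _ _ => rfl⟩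
  | cons i v ih =>
    have hi : i < D.rank := hv i List.mem_cons_self
    have hv' : ∀ j ∈ v, j < D.rank := fun j hj => hv j (List.mem_cons_of_mem _ hj)
    obtain ⟨w, hwW, hact⟩ := ih hv'
    obtain ⟨w', hw'W, hact'⟩ := hW.closed w hwW i hi
    refine ⟨w', hw'W, fun r hr => ?_⟩
    rw [← hact' r hr, reflWord_cons, reflWord_cons, hact r hr]

/-- sums over the list are sums over the Weyl group -/
theorem l_sum_WList (hG : Good2 D) {W : List (List ℕ)} (hW : WList D W) (f : ℕ → ℕ) :
    (W.map fun w => f (nMinus D w)).sum = ∑ σ ∈ WJ D (List.range D.rank), f (nSigma D σ) := by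
  classical
  rw [← List.sum_toFinset _ hW.nodup]
  apply Finset.sum_bij (fun w _ => actF D w)
  · intro w hw
    rw [List.mem_toFinset] at hw
    rw [mem_WJ]
    exact ⟨w, fun i hi => List.mem_range.mpr ((hW.ok w hw).1 i hi), rfl⟩
  · intro w hw w' hw' h
    rw [List.mem_toFinset] at hw hw'
    exact hW.inj w hw w' hw' ((actF_eq_iff hG (hW.ok w hw).1 (hW.ok w' hw').1).mp h)
  · intro σ hσ
    rw [mem_WJ] at hσ
    obtain ⟨v, hv, rfl⟩ := hσ
    have hv' : ∀ i ∈ v, i < D.rank := fun i hi => List.mem_range.mp (hv i hi)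
    obtain ⟨w, hwW, hact⟩ := l_exists_rep hW v hv'
    refine ⟨w, List.mem_toFinset.mpr hwW, ?_⟩
    exact (actF_eq_iff hG (hW.ok w hwW).1 hv').mpr (fun r hr => (hact r hr).symm)
  · intro w hw
    rw [List.mem_toFinset] at hw
    rw [nSigma_actF hG (hW.ok w hw).1]

/-- `hlenN`: the words of the list have length at most the number of positive roots. -/
theorem l_hlenN (hG : Good2 D) (hT : T0 D) (h6 : (tabOf D).T6) (h8 : (tabOf D).T8)
    {W : List (List ℕ)} (hW : WList D W) : ∀ w ∈ W, w.length ≤ D.nroots / 2 := by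
  intro w hw
  have hev : D.nroots % 2 = 0 := h8.2
  rw [← h1_nMinus_eq_length hG hT h6 w (hW.ok w hw).1 (hW.ok w hw).2,
    ← nSigma_actF hG (hW.ok w hw).1]
  have := l_nSigma_le (D := D) (actF D w)
  omega

/-- `hpal`: the Poincaré polynomial over the list is palindromic. -/
theorem l_hpal (hG : Good2 D) (hT : T0 D) (h6 : (tabOf D).T6) (h8 : (tabOf D).T8)
    {w0 : List ℕ} (h0 : (tabOf D).W0ok w0) {W : List (List ℕ)} (hW : WList D W) (q : ℕ) :
    (W.map fun w => q ^ w.length).sum = (W.map fun w => q ^ (D.nroots / 2 - w.length)).sum := by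
  have hev : D.nroots % 2 = 0 := h8.2
  have hN : D.nroots - D.nroots / 2 = D.nroots / 2 := by omega
  have h1 : (W.map fun w => q ^ w.length).sum = (W.map fun w => q ^ nMinus D w).sum := by
    congr 1
    apply List.map_congr_left
    intro w hw
    rw [h1_nMinus_eq_length hG hT h6 w (hW.ok w hw).1 (hW.ok w hw).2]
  have h2 : (W.map fun w => q ^ (D.nroots / 2 - w.length)).sum =
      (W.map fun w => q ^ (D.nroots / 2 - nMinus D w)).sum := by
    congr 1
    apply List.map_congr_left
    intro w hw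
    rw [h1_nMinus_eq_length hG hT h6 w (hW.ok w hw).1 (hW.ok w hw).2]
  rw [h1, h2, l_sum_WList hG hW (fun k => q ^ k),
    l_sum_WList hG hW (fun k => q ^ (D.nroots / 2 - k))]
  have := l_PS_pal hG h0 q
  unfold PS at this
  rw [this, hN]

/-- `hpal` and `hlenN` for the seven types. -/
theorem l_hpal_of_mem (D : ChevalleyDatum)
    (hD : D ∈ [chevG2, chevB2, chevD4, chevF4, chevE6, chevE7, chevE8])
    {W : List (List ℕ)} (hW : WList D W) (q : ℕ) :
    (∀ w ∈ W, w.length ≤ D.nroots / 2) ∧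
    (W.map fun w => q ^ w.length).sum = (W.map fun w => q ^ (D.nroots / 2 - w.length)).sum := by
  have hG := good3_of_mem D hD
  have hT := T0_of_mem D hD
  have h6 := T6_of_mem D hD
  have h8 := T8_of_mem D hD
  obtain ⟨w0, h0⟩ := exists_W0ok D hD
  exact ⟨l_hlenN hG.toGood2 hT h6 h8 hW, l_hpal hG.toGood2 hT h6 h8 h0 hW q⟩

end Cfsg.Agent.ChevDZ
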