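import Mathlib
import Cfsg.Agent.ChevDZ.Defs
import Cfsg.Agent.Lead.SteinChevD
import Cfsg.Agent.Helper7.ChevSylow
import Cfsg.Agent.Helper7.BNAut
import Cfsg.Agent.Helper6.NormTwo

set_option autoImplicit false

/-!
# S2318 (lead), piece D7: the reference character (Steinberg)

* `l_classInner_par_St`: in a finite group with a `(B, N)`-pair, the multiplicity of the
  alternating sum `St` in the permutation character on a parabolic subgroup `P_K` is `[K = ∅]`.
* `l_sum_par_St`: hence the sum of `St` over `P_K` is `|B|` for `K = ∅` and `0` otherwise.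
* `l_st_irr`, `l_st_deg`, `l_st_sum_B`, `l_st_sum_par`: the four hypotheses on the reference
  character in the abstract main theorem, for the Chevalley groups.
-/

namespace Cfsg.Agent.ChevDZ

open Cfsg Cfsg.Lie Cfsg.Agent.Helper6 Cfsg.Agent.Helper7.BN Cfsg.Agent.Helper7.InvWords
  Cfsg.Agent.Lead.CoxComb Cfsg.Agent.Lead.SteinBN Cfsg.Agent.Lead.SteinChar
open scoped ComplexConjugate

universe u

section abs

variable {G : Type u} [Group G] [Fintype G] (P : Cfsg.BNPair G)
variable {ι : Type*} [DecidableEq ι] {I : Finset ι} {s : ι → G} {par : Finset ι → Subgroup G}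

open Classical in
/-- The multiplicity of the alternating sum in a parabolic permutation character. -/
theorem l_classInner_par_St (himg : s '' (I : Set ι) = P.S)
    (hpar : ∀ J, J ⊆ I → par J = P.parabolic (s '' (J : Set ι))) {K : Finset ι} (hK : K ⊆ I) :
    Cfsg.classInner (Cfsg.fixedPointCharacter (par K)) (St I par) =
      if K = ∅ then 1 else 0 := by
  haveI : Fintype (W P) := Fintype.ofFinite _
  rw [St_eq_sum, classInner_sum_right]
  have h1 : ∀ J ∈ I.powerset, Cfsg.classInner (Cfsg.fixedPointCharacter (par K))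
      (((-1 : ℂ) ^ J.card) • Cfsg.fixedPointCharacter (par J)) =
      ∑ w : W P, (if K ⊆ ascL P I s w then (1 : ℂ) else 0) *
        ((-1 : ℂ) ^ J.card * (if J ⊆ ascR P I s w then (1 : ℂ) else 0)) := by
    intro J hJ
    rw [classInner_smul_right, classInner_par P himg hpar hK (Finset.mem_powerset.mp hJ),
      map_pow, map_neg, map_one, Finset.mul_sum]
    apply Finset.sum_congr rfl
    intro w _
    ring
  rw [Finset.sum_congr rfl h1, Finset.sum_comm]
  simp_rw [← Finset.mul_sum, sum_signs _ (ascR_subset P _)]
  obtain ⟨w0, h3, h4, h5⟩ := exists_longest (I := I) (s := s) P himg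
  rw [Finset.sum_eq_single w0]
  · rw [if_pos h4, mul_one, h3]
    by_cases hK0 : K = ∅
    · rw [if_pos hK0, if_pos (hK0 ▸ Finset.Subset.refl _)]
    · rw [if_neg hK0, if_neg (fun h => hK0 (Finset.subset_empty.mp h))]
  · intro w _ hw
    have : ascR P I s w ≠ ∅ := fun h => hw (h5 w h)
    rw [if_neg this, mul_zero]
  · intro h
    exact absurd (Finset.mem_univ w0) h

/-- The sum of a function over a subgroup, as an indicator sum. -/
theorem l_sum_indicator (H : Subgroup G) [Fintype H] (f : G → ℂ) :
    ∑ g : G, (H : Set G).indicator f g = ∑ h : H, f h := by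
  classical
  rw [← Finset.sum_subtype (Finset.univ.filter (fun g : G => g ∈ H)) (by intro x; simp) f,
    Finset.sum_filter]
  apply Finset.sum_congr rfl
  intro g _
  by_cases hg : g ∈ H
  · rw [Set.indicator_of_mem (by exact hg), if_pos hg]
  · rw [Set.indicator_of_notMem (by exact hg), if_neg hg]

/-- The sum of the alternating sum over a parabolic subgroup. -/
theorem l_sum_par_St (himg : s '' (I : Set ι) = P.S)
    (hpar : ∀ J, J ⊆ I → par J = P.parabolic (s '' (J : Set ι))) {K : Finset ι} (hK : K ⊆ I) :
    ∑ g : G, ((par K : Subgroup G) : Set G).indicator (St I par) g =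
      if K = ∅ then (Nat.card (par K) : ℂ) else 0 := by
  classical
  haveI : Fintype (par K) := Fintype.ofFinite _
  have hcf : Cfsg.IsClassFunction G (St I par) :=
    IsGeneralizedCharacter.isClassFunction (isGeneralizedCharacter_St I par)
  have h1 := l_classInner_par_St P himg hpar hK
  rw [fixedPointCharacter_eq, frobenius_reciprocity (par K) _ _ hcf, classInner_def] at h1
  simp only [one_mul] at h1
  have hne : (Nat.card (par K) : ℂ) ≠ 0 := by
    exact_mod_cast Nat.card_pos.ne'
  have h2 : ∑ h : par K, conj (St I par (h : G)) = if K = ∅ then (Nat.card (par K) : ℂ) else 0 := by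
    have h3 : ∑ h : par K, conj (St I par (h : G)) =
        (Nat.card (par K) : ℂ) * ((Nat.card (par K) : ℂ)⁻¹ * ∑ h : par K, conj (St I par (h : G))) := by
      rw [← mul_assoc, mul_inv_cancel₀ hne, one_mul]
    rw [h3, h1]
    split_ifs <;> simp
  rw [l_sum_indicator]
  have h4 := congrArg conj h2
  rw [map_sum] at h4
  simp only [Complex.conj_conj] at h4
  rw [h4]
  split_ifs <;> simp

end abs

section chev

open Cfsg.Agent.Helper7.Chev Cfsg.Agent.Lead.SteinChev

variable {F : Type u} [Field F] [Fintype F] (D : ChevalleyDatum)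

/-- (C7) `hχ₀`: the Steinberg character is irreducible. -/
theorem l_st_irr (hD : D ∈ [chevG2, chevB2, chevD4, chevF4, chevE6, chevE7, chevE8]) :
    IsIrrCharacter ↥(D.group F) (D.steinbergCharacter F) :=
  steinberg_irr D hD

/-- (C7) `hdeg₀`: the Steinberg character has `p`-defect zero. -/
theorem l_st_deg (p : ℕ) [Fact p.Prime] [CharP F p]
    (hD : D ∈ [chevG2, chevB2, chevD4, chevF4, chevE6, chevE7, chevE8]) :
    ∃ d : ℕ, D.steinbergCharacter F 1 = (d : ℂ) ∧
      p ^ (Nat.card ↥(D.group F)).factorization p ∣ d := by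
  have hG := good3_of_mem D hD
  have hT := T0_of_mem D hD
  have h7 := T7_of_mem D hD
  have h8 := T8_of_mem D hD
  have hG2 := hG.toGood2
  have hG1 := hG2.toGood1
  refine ⟨Fintype.card F ^ (D.nroots / 2), ?_, ?_⟩
  · rw [steinberg_one D hD]
    push_cast
    rfl
  · obtain ⟨S, hS⟩ := chev_S2326 (F := F) p D hD
    have hUG : D.posUnipotent F ≤ D.group F :=
      le_trans le_sup_left (borelSubgroup_le_group hG1)
    have hcardU : Nat.card ((D.posUnipotent F).subgroupOf (D.group F)) =
        Fintype.card F ^ (D.nroots / 2) := by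
      rw [Nat.card_congr (Subgroup.subgroupOfEquivOfLe hUG).toEquiv]
      exact card_posUnipotent hG2 hT hG.t3 hG.t4 h7 h8
    have hS' : Nat.card (S : Subgroup ↥(D.group F)) =
        p ^ (Nat.card ↥(D.group F)).factorization p := Sylow.card_eq_multiplicity S
    rw [hS, hcardU] at hS'
    rw [hS']

/-- The two parabolic sums of the Steinberg character. -/
theorem l_st_sums [Fintype ↥(D.group F)]
    (hD : D ∈ [chevG2, chevB2, chevD4, chevF4, chevE6, chevE7, chevE8]) (hG2 : Good2 D) :
    (∑ g : ↥(D.group F), (((D.borelSubgroup F).subgroupOf (D.group F) :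
        Subgroup ↥(D.group F)) : Set ↥(D.group F)).indicator (D.steinbergCharacter F) g ≠ 0) ∧
    ∀ i < D.rank, ∑ g : ↥(D.group F),
      ((((D.borelSubgroup F).subgroupOf (D.group F) : Subgroup ↥(D.group F)) : Set ↥(D.group F)) ∪
        dzCell ((D.borelSubgroup F).subgroupOf (D.group F)) (sRep hG2 F i)).indicator
          (D.steinbergCharacter F) g = 0 := by
  classical
  have hG := good3_of_mem D hD
  have hT := T0_of_mem D hD
  have h5 := T5_of_mem D hD
  have h6 := T6_of_mem D hD
  have h8 := T8_of_mem D hD
  have h9 := T9_of_mem D hD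
  obtain ⟨P, hPB, -, hPS⟩ := exists_bnPair (F := F) hG2 hT hG.t3 hG.t4 h5 h6 h8 h9
  have himg : sRep hG2 F '' ((Finset.range D.rank : Finset ℕ) : Set ℕ) = P.S := by
    rw [hPS]
    exact image_sRep hG2
  have hpar : ∀ J, J ⊆ Finset.range D.rank →
      D.parabolicIn F J = P.parabolic (sRep hG2 F '' (J : Set ℕ)) := by
    intro J hJ
    exact parabolicIn_eq hG2 P.B hPB J hJ
  have hSt : D.steinbergCharacter F = St (Finset.range D.rank) (D.parabolicIn F) := rfl
  rw [← hPB, hSt]
  constructor
  · have h0 := l_sum_par_St P himg hpar (Finset.empty_subset (Finset.range D.rank))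
    rw [if_pos rfl] at h0
    have hB : D.parabolicIn F ∅ = P.B := by
      rw [hpar ∅ (Finset.empty_subset _)]
      unfold Cfsg.BNPair.parabolic
      simp
    rw [hB] at h0
    rw [h0]
    exact_mod_cast Nat.card_pos.ne'
  · intro i hi
    have hiI : ({i} : Finset ℕ) ⊆ Finset.range D.rank := by
      intro j hj
      rw [Finset.mem_singleton] at hj
      rw [hj]
      exact Finset.mem_range.mpr hi
    have h0 := l_sum_par_St P himg hpar hiI
    rw [if_neg (Finset.singleton_ne_empty i)] at h0
    have hsS : sRep hG2 F i ∈ P.S := by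
      rw [← himg]
      exact ⟨i, by exact_mod_cast Finset.mem_range.mpr hi, rfl⟩
    have hset : ((D.parabolicIn F {i} : Subgroup ↥(D.group F)) : Set ↥(D.group F)) =
        ((P.B : Subgroup ↥(D.group F)) : Set ↥(D.group F)) ∪ dzCell P.B (sRep hG2 F i) := by
      ext g
      rw [hpar {i} hiI, Finset.coe_singleton, Set.image_singleton, SetLike.mem_coe,
        mem_parabolic_singleton P hsS g, Set.mem_union, SetLike.mem_coe, mem_dzCell, mem_C]
    rw [← hset]
    exact h0

end chev

end Cfsg.Agent.ChevDZ
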