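import Mathlib
import Cfsg.Agent.Lead.SteinChevD
import Cfsg.Agent.Helper7.ChevSylow
import Cfsg.Agent.Helper6.DefectZeroBlock

set_option autoImplicit false

/-!
# S2318 (lead): characters of `p`-defect zero vanish on `U ∖ 1`

* `l_vanish_of_deg`: an irreducible character whose degree is divisible by the full power of `p`
  dividing the group order vanishes at the elements of order divisible by `p` (any finite group).
* `l_vanish_U`: hence, for the Chevalley groups, on the non-identity elements of `U`.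
* `l_st_vanish_U`: the same for the Steinberg character.
-/

namespace Cfsg.Agent.ChevDZ

open Cfsg Cfsg.Lie Cfsg.Agent.Helper7.Chev

/-- Defect zero implies vanishing at the `p`-singular elements. -/
theorem l_vanish_of_deg {G : Type*} [Group G] [Finite G] (p : ℕ) [hp : Fact p.Prime] (χ : G → ℂ)
    (hχ : IsIrrCharacter G χ)
    (hdeg : ∃ d : ℕ, χ 1 = (d : ℂ) ∧ p ^ (Nat.card G).factorization p ∣ d) :
    ∀ g : G, p ∣ orderOf g → χ g = 0 := by
  obtain ⟨d, hd1, hpd⟩ := hdeg
  have hcd : charDegree χ = d := by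
    unfold charDegree
    rw [hd1, Complex.natCast_re, Nat.floor_natCast]
  have hdvd := Cfsg.Agent.Helper6.charDegree_dvd_card hχ
  rw [hcd] at hdvd
  have hN0 : Nat.card G ≠ 0 := Nat.card_pos.ne'
  obtain ⟨k, hk⟩ := hdvd
  have hd0 : d ≠ 0 := by
    rintro rfl
    rw [zero_mul] at hk
    exact hN0 hk
  have hk0 : k ≠ 0 := by
    rintro rfl
    rw [mul_zero] at hk
    exact hN0 hk
  have hnd : ¬ p ∣ Nat.card G / charDegree χ := by
    rw [hcd, hk, Nat.mul_div_cancel_left _ (Nat.pos_of_ne_zero hd0)]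
    intro hpk
    have h1 : (Nat.card G).factorization p = d.factorization p + k.factorization p := by
      rw [hk, Nat.factorization_mul hd0 hk0, Finsupp.add_apply]
    have h2 : 1 ≤ k.factorization p := (hp.out.dvd_iff_one_le_factorization hk0).mp hpk
    have h3 : (Nat.card G).factorization p ≤ d.factorization p :=
      (hp.out.pow_dvd_iff_le_factorization hd0).mp hpd
    omega
  obtain ⟨M, -, hM, hpM⟩ := Cfsg.Agent.Helper6.exists_isPModular p hp.out
  have hsing := Cfsg.Agent.Helper6.blockOf_eq_singleton_of_not_dvd hM p hp.out hpM ⟨χ, hχ⟩ hnd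
  intro g hg
  exact Cfsg.Agent.Helper6.vanish_of_blockOf_eq_singleton hM p hpM ⟨χ, hχ⟩ hsing g hg

/-- The non-identity elements of `U` have order divisible by `p`. -/
theorem l_dvd_orderOf_of_mem_U {F : Type*} [Field F] [Fintype F] (p : ℕ) [Fact p.Prime]
    [CharP F p] (D : ChevalleyDatum)
    (hD : D ∈ [chevG2, chevB2, chevD4, chevF4, chevE6, chevE7, chevE8]) (g : ↥(D.group F))
    (hg : g ∈ (D.posUnipotent F).subgroupOf (D.group F)) (hg1 : g ≠ 1) : p ∣ orderOf g := by
  obtain ⟨P, hP⟩ := chev_S2326 (F := F) p D hD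
  have hgP : g ∈ (P : Subgroup ↥(D.group F)) := by rw [hP]; exact hg
  obtain ⟨k, hk⟩ := (IsPGroup.iff_orderOf.mp P.isPGroup') ⟨g, hgP⟩
  rw [Subgroup.orderOf_mk] at hk
  rw [hk]
  apply dvd_pow_self
  rintro rfl
  rw [pow_zero, orderOf_eq_one_iff] at hk
  exact hg1 hk

/-- A character of `p`-defect zero of a Chevalley group vanishes on `U ∖ 1`. -/
theorem l_vanish_U {F : Type*} [Field F] [Fintype F] (p : ℕ) [Fact p.Prime] [CharP F p]
    (D : ChevalleyDatum) (hD : D ∈ [chevG2, chevB2, chevD4, chevF4, chevE6, chevE7, chevE8])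
    (χ : ↥(D.group F) → ℂ) (hχ : IsIrrCharacter ↥(D.group F) χ)
    (hdeg : ∃ d : ℕ, χ 1 = (d : ℂ) ∧ p ^ (Nat.card ↥(D.group F)).factorization p ∣ d)
    (g : ↥(D.group F)) (hg : g ∈ (D.posUnipotent F).subgroupOf (D.group F)) (hg1 : g ≠ 1) :
    χ g = 0 :=
  l_vanish_of_deg p χ hχ hdeg g (l_dvd_orderOf_of_mem_U p D hD g hg hg1)

/-- The Steinberg character vanishes on `U ∖ 1`. -/
theorem l_st_vanish_U {F : Type*} [Field F] [Fintype F] (p : ℕ) [Fact p.Prime] [CharP F p]
    (D : ChevalleyDatum) (hD : D ∈ [chevG2, chevB2, chevD4, chevF4, chevE6, chevE7, chevE8])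
    (g : ↥(D.group F)) (hg : g ∈ (D.posUnipotent F).subgroupOf (D.group F)) (hg1 : g ≠ 1) :
    D.steinbergCharacter F g = 0 :=
  Cfsg.Agent.Lead.SteinChev.steinberg_vanish p D hD g (l_dvd_orderOf_of_mem_U p D hD g hg hg1)

end Cfsg.Agent.ChevDZ
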