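import Mathlib
import Cfsg.Agent.ChevDZ.H1_Defs
import Cfsg.Agent.Lead.SteinChevA

set_option autoImplicit false

/-!
S2318: the simple representatives `dzN (h1_iota hG F) i` are the lead's `sRep hG F i`.
-/

namespace Cfsg.Agent.ChevDZ

open Cfsg Cfsg.Lie Matrix Cfsg.Agent.Helper7 Cfsg.Agent.Helper7.Chev Cfsg.Agent.Lead.SteinChev

variable {D : ChevalleyDatum} {F : Type*} [Field F]

theorem h1_dzN_eq_sRep (hG : Good2 D) {i : ℕ} (hi : i < D.rank) :
    dzN (h1_iota hG F) i = sRep hG F i := by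
  apply Subtype.ext
  rw [h1_dzN_coe hG hi, sRep_coe hG hi]

end Cfsg.Agent.ChevDZ
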