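import Mathlib
import Cfsg.Agent.Helper7.ChevPara

set_option autoImplicit false
set_option linter.unusedSectionVars false
set_option linter.unusedVariables false

/-!
S2318, piece (B3): the rank-one relations between `x_r(t)`, `h_r(c)`, `n_r` in the Chevalley
group, from the corresponding identities in `SL₂`.
-/

namespace Cfsg.Agent.ChevDZ

open Cfsg Cfsg.Lie Matrix Cfsg.Agent.Helper7 Cfsg.Agent.Helper7.Chev

variable {D : ChevalleyDatum} {F : Type*} [Field F]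

/-! ### identities in `SL₂` -/

theorem h1_sl2_key {t : F} (ht : t ≠ 0) :
    (antiSL : Matrix.SpecialLinearGroup (Fin 2) F) * upperSL t * antiSL =
      upperSL (-t⁻¹) * diagSL (-t⁻¹) (neg_ne_zero.mpr (inv_ne_zero ht)) * antiSL *
        upperSL (-t⁻¹) := by
  apply Subtype.ext
  rw [Matrix.SpecialLinearGroup.coe_mul, Matrix.SpecialLinearGroup.coe_mul,
    Matrix.SpecialLinearGroup.coe_mul, Matrix.SpecialLinearGroup.coe_mul,
    Matrix.SpecialLinearGroup.coe_mul]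
  change !![0, 1; -1, 0] * !![1, t; 0, 1] * !![0, 1; -1, 0] =
    !![1, -t⁻¹; 0, 1] * !![-t⁻¹, 0; 0, (-t⁻¹)⁻¹] * !![0, 1; -1, 0] * !![1, -t⁻¹; 0, 1]
  ext i j
  fin_cases i <;> fin_cases j <;> simp [Matrix.mul_apply, Fin.sum_univ_two, ht]

theorem h1_sl2_diag_mul {c c' : F} (hc : c ≠ 0) (hc' : c' ≠ 0) :
    diagSL c hc * diagSL c' hc' = diagSL (c * c') (mul_ne_zero hc hc') := by
  apply Subtype.ext
  rw [Matrix.SpecialLinearGroup.coe_mul]
  change !![c, 0; 0, c⁻¹] * !![c', 0; 0, c'⁻¹] = !![c * c', 0; 0, (c * c')⁻¹]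
  ext i j
  fin_cases i <;> fin_cases j <;> simp [Matrix.mul_apply, Fin.sum_univ_two, mul_comm]

theorem h1_sl2_diag_one : diagSL (1 : F) one_ne_zero = 1 := by
  apply Subtype.ext
  change !![(1 : F), 0; 0, (1 : F)⁻¹] = ((1 : Matrix.SpecialLinearGroup (Fin 2) F) : Matrix _ _ F)
  rw [Matrix.SpecialLinearGroup.coe_one]
  ext i j
  fin_cases i <;> fin_cases j <;> simp

theorem h1_sl2_anti_diag {c : F} (hc : c ≠ 0) :
    (antiSL : Matrix.SpecialLinearGroup (Fin 2) F) * diagSL c hc =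
      diagSL c⁻¹ (inv_ne_zero hc) * antiSL := by
  apply Subtype.ext
  rw [Matrix.SpecialLinearGroup.coe_mul, Matrix.SpecialLinearGroup.coe_mul]
  change !![0, 1; -1, 0] * !![c, 0; 0, c⁻¹] = !![c⁻¹, 0; 0, c⁻¹⁻¹] * !![0, 1; -1, 0]
  ext i j
  fin_cases i <;> fin_cases j <;> simp [Matrix.mul_apply, Fin.sum_univ_two]

theorem h1_sl2_diag_upper {c : F} (hc : c ≠ 0) (t : F) :
    diagSL c hc * upperSL t = upperSL (c * c * t) * diagSL c hc := by
  apply Subtype.ext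
  rw [Matrix.SpecialLinearGroup.coe_mul, Matrix.SpecialLinearGroup.coe_mul]
  change !![c, 0; 0, c⁻¹] * !![1, t; 0, 1] = !![1, c * c * t; 0, 1] * !![c, 0; 0, c⁻¹]
  ext i j
  fin_cases i <;> fin_cases j <;> simp [Matrix.mul_apply, Fin.sum_univ_two]
  field_simp

/-! ### the same in the Chevalley group -/

section gl

variable (hG : Good1 D) {r : ℕ} (hr : r < D.nroots)

/-- `n_r x_r(t) n_r = x_r(-t⁻¹) h_r(-t⁻¹) n_r x_r(-t⁻¹)` for `t ≠ 0`. -/
theorem h1_n_x_n {t : F} (ht : t ≠ 0) :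
    nGL hG hr * xGL hG hr t * nGL hG hr =
      xGL hG hr (-t⁻¹) * hGL hG hr (-t⁻¹) (neg_ne_zero.mpr (inv_ne_zero ht)) * nGL hG hr *
        xGL hG hr (-t⁻¹) := by
  unfold nGL xGL hGL
  rw [← map_mul, ← map_mul, ← map_mul, ← map_mul, ← map_mul, h1_sl2_key ht]

/-- `n_r² = h_r(-1)`. -/
theorem h1_n_sq :
    nGL hG hr * nGL hG hr = hGL (F := F) hG hr (-1) (neg_ne_zero.mpr one_ne_zero) := by
  unfold nGL hGL
  rw [← map_mul, antiSL_sq]

theorem h1_hGL_mul {c c' : F} (hc : c ≠ 0) (hc' : c' ≠ 0) :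
    hGL hG hr c hc * hGL hG hr c' hc' = hGL hG hr (c * c') (mul_ne_zero hc hc') := by
  unfold hGL
  rw [← map_mul, h1_sl2_diag_mul]

theorem h1_hGL_one : hGL (F := F) hG hr 1 one_ne_zero = 1 := by
  unfold hGL
  rw [h1_sl2_diag_one, map_one]

theorem h1_hGL_inv {c : F} (hc : c ≠ 0) :
    (hGL hG hr c hc)⁻¹ = hGL hG hr c⁻¹ (inv_ne_zero hc) := by
  rw [inv_eq_iff_mul_eq_one, h1_hGL_mul]
  have : (c * c⁻¹ : F) = 1 := mul_inv_cancel₀ hc
  simp only [this]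
  exact h1_hGL_one hG hr

/-- `n_r h_r(c) = h_r(c⁻¹) n_r`. -/
theorem h1_n_h {c : F} (hc : c ≠ 0) :
    nGL hG hr * hGL hG hr c hc = hGL hG hr c⁻¹ (inv_ne_zero hc) * nGL hG hr := by
  unfold nGL hGL
  rw [← map_mul, ← map_mul, h1_sl2_anti_diag]

/-- `n_r h_r(c) n_r⁻¹ = h_r(c)⁻¹`. -/
theorem h1_n_h_n {c : F} (hc : c ≠ 0) :
    nGL hG hr * hGL hG hr c hc * (nGL hG hr)⁻¹ = (hGL hG hr c hc)⁻¹ := by
  rw [h1_n_h, mul_inv_cancel_right, h1_hGL_inv]

/-- `h_r(c) x_r(t) = x_r(c² t) h_r(c)`. -/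
theorem h1_h_x {c : F} (hc : c ≠ 0) (t : F) :
    hGL hG hr c hc * xGL hG hr t = xGL hG hr (c * c * t) * hGL hG hr c hc := by
  unfold xGL hGL
  rw [← map_mul, ← map_mul, h1_sl2_diag_upper]

end gl

end Cfsg.Agent.ChevDZ
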