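import Mathlib
import Cfsg.Agent.ChevDZ.Defs
import Cfsg.Agent.ChevDZ.L_StVan
import Cfsg.Agent.SLBlk.H2_GL
import Cfsg.Agent.SLBlk.H2_P2
import Cfsg.Agent.SLBlk.H2_P3b
import Cfsg.Agent.Helper6.IndFun
import Cfsg.Agent.Helper6.Induced
import Cfsg.Agent.Helper6.Linear
import Cfsg.Agent.Helper6.Cd3A
import Cfsg.Agent.Helper6.CopA
import Cfsg.Agent.Helper6.Invariants
import Cfsg.Prelude.Def_Blocks

set_option autoImplicit false
set_option linter.unusedSectionVars false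
set_option linter.unusedVariables false
set_option linter.style.haveILetI false

/-!
# S2318, abstract character theory (helper2): `dz_p0`, `dz_p2`, `dz_p3b`, `dz_p4`

The pieces (P0), (P2), (P3b), (P4) of the proof for `SL_n` (`SLBlk/H2_P0`, `H2_P2`, `H2_P3b`,
`H2_P4`), for an arbitrary finite group `G` with subgroups `U ≤ B`, `U ⊴ B`, `[B, B] ≤ U`.
Statements verbatim from `notes/S2318_stubs_helper8.lean.txt`.
-/

namespace Cfsg.Agent.ChevDZ

open Matrix Cfsg Cfsg.Agent.SLMin Cfsg.Agent.Helper6 Cfsg.Agent.SLBlk Module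
open scoped ComplexConjugate

universe u

section A

variable {G : Type u} [Group G] [Fintype G]

/-- (A0) defect zero ⇒ vanishing on `p`-singular elements -/
theorem dz_p0 (p : ℕ) [Fact p.Prime] (χ : G → ℂ) (hχ : IsIrrCharacter G χ)
    (hdeg : ∃ d : ℕ, χ 1 = (d : ℂ) ∧ p ^ (Nat.card G).factorization p ∣ d) :
    ∀ g : G, p ∣ orderOf g → χ g = 0 :=
  l_vanish_of_deg p χ hχ hdeg

variable (B U : Subgroup G) [Fintype ↥B] [Fintype ↥U]

omit [Fintype G] [Fintype ↥B] in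
/-- the multiplicity of any linear character `ψ` of `U` in `χ|_U` is `χ(1)/|U|`. -/
theorem dz_inner_U (χ : G → ℂ) (hvan : ∀ u ∈ U, u ≠ 1 → χ u = 0) (ψ : ↥U →* ℂˣ) :
    classInner (fun u : ↥U => χ u) (fun u => ((ψ u : ℂˣ) : ℂ)) = χ 1 / (Nat.card ↥U : ℂ) := by
  rw [classInner_def, Finset.sum_eq_single (1 : ↥U)]
  · rw [map_one, Units.val_one, map_one, mul_one, Subgroup.coe_one, div_eq_inv_mul]
  · intro u _ hu
    rw [hvan u u.2 (fun h => hu (Subtype.ext h)), zero_mul]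
  · intro h
    exact absurd (Finset.mem_univ _) h

omit [Fintype ↥U] in
/-- some linear character of `B/U` occurs in `χ|_B`. -/
theorem dz_exists_lam (hUn : ∀ b ∈ B, ∀ u ∈ U, b * u * b⁻¹ ∈ U)
    (hcomm : ∀ a ∈ B, ∀ b ∈ B, a * b * a⁻¹ * b⁻¹ ∈ U)
    (χ : G → ℂ) (hχ : IsIrrCharacter G χ) (hvan : ∀ u ∈ U, u ≠ 1 → χ u = 0) :
    ∃ lam : ↥B →* ℂˣ, (∀ b : ↥B, (b : G) ∈ U → lam b = 1) ∧
      classInner (fun b : ↥B => χ b) (fun b => ((lam b : ℂˣ) : ℂ)) ≠ 0 := by
  classical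
  set K : Subgroup ↥B := U.subgroupOf B with hK
  haveI : Fintype ↥K := Fintype.ofFinite _
  haveI hKn : K.Normal := by
    refine ⟨fun n hn g => ?_⟩
    rw [hK, Subgroup.mem_subgroupOf] at hn ⊢
    have := hUn g g.2 n hn
    simpa using this
  have hχB : IsCharacter ↥B (fun b : ↥B => χ b) :=
    IsCharacter.restrict B (IsIrrCharacter.isCharacter hχ)
  have hχ1 : χ 1 ≠ 0 := IsIrrCharacter.apply_one_ne_zero hχ
  have hfrob : classInner (indFun K (fun _ : ↥K => (1 : ℂ))) (fun b : ↥B => χ b) =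
      classInner (fun _ : ↥K => (1 : ℂ)) (fun k : ↥K => χ ((k : ↥B) : G)) :=
    frobenius_reciprocity K _ _ (IsCharacter.isClassFunction hχB)
  have hval : classInner (fun _ : ↥K => (1 : ℂ)) (fun k : ↥K => χ ((k : ↥B) : G)) =
      (Nat.card ↥K : ℂ)⁻¹ * conj (χ 1) := by
    rw [classInner_def, Finset.sum_eq_single (1 : ↥K)]
    · rw [one_mul, Subgroup.coe_one, Subgroup.coe_one]
    · intro k _ hk
      have hkU : ((k : ↥B) : G) ∈ U := Subgroup.mem_subgroupOf.mp k.2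
      have hk1 : ((k : ↥B) : G) ≠ 1 := by
        intro h
        apply hk
        apply Subtype.ext
        apply Subtype.ext
        exact h
      rw [hvan _ hkU hk1, map_zero, mul_zero]
    · intro h
      exact absurd (Finset.mem_univ _) h
  have hne : classInner (indFun K (fun _ : ↥K => (1 : ℂ))) (fun b : ↥B => χ b) ≠ 0 := by
    rw [hfrob, hval]
    apply mul_ne_zero
    · apply inv_ne_zero
      exact_mod_cast (Nat.card_pos (α := ↥K)).ne'
    · exact (map_ne_zero _).mpr hχ1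
  obtain ⟨θ, hθ, h1, h2⟩ := p2_exists_common (indFun_isClassFunction K _) hne
  have hθK : classInner (fun k : ↥K => θ k) (fun _ => (1 : ℂ)) ≠ 0 := by
    rw [frobenius_reciprocity K _ _ (IsCharacter.isClassFunction (IsIrrCharacter.isCharacter hθ))]
      at h1
    rw [classInner_conj_symm]
    exact (map_ne_zero _).mpr h1
  have hker := le_ker_of_over_trivial K θ hθ hθK
  have hcK : commutator ↥B ≤ K := by
    rw [commutator_def, Subgroup.commutator_le]
    intro a _ b _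
    rw [hK, Subgroup.mem_subgroupOf, commutatorElement_def]
    have := hcomm a a.2 b b.2
    simpa using this
  have hdeg : θ 1 = 1 := Cfsg.Agent.Helper6.Cd3.degree_one_of_commutator_le_ker hθ
    (fun g hg => hker g (hcK hg))
  obtain ⟨lam, hlam⟩ := exists_hom_of_irr_degree_one hθ hdeg
  refine ⟨lam, ?_, ?_⟩
  · intro b hb
    have h3 := hker b (Subgroup.mem_subgroupOf.mpr hb)
    rw [hdeg, hlam] at h3
    exact Units.ext h3
  · rw [← hlam]
    exact h2

/-- (A1) = (P2): degree `|U|`, multiplicity one. -/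
theorem dz_p2 (hUB : U ≤ B) (hUn : ∀ b ∈ B, ∀ u ∈ U, b * u * b⁻¹ ∈ U)
    (hcomm : ∀ a ∈ B, ∀ b ∈ B, a * b * a⁻¹ * b⁻¹ ∈ U)
    (ψ : ↥U →* ℂˣ)
    (hP1 : ∀ lam : ↥B →* ℂˣ, (∀ b : ↥B, (b : G) ∈ U → lam b = 1) → ∀ k : ℕ,
      classInner (indFun B (fun b => ((lam b : ℂˣ) : ℂ)))
        (indFun U (fun u => ((ψ u : ℂˣ) : ℂ))) = k → k ≤ 1)
    (χ : G → ℂ) (hχ : IsIrrCharacter G χ) (hvan : ∀ u ∈ U, u ≠ 1 → χ u = 0) :
    χ 1 = (Nat.card U : ℂ) ∧
    (∃ lam : ↥B →* ℂˣ, (∀ b : ↥B, (b : G) ∈ U → lam b = 1) ∧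
      classInner (fun b : ↥B => χ b) (fun b => ((lam b : ℂˣ) : ℂ)) = 1) ∧
    (∀ lam : ↥B →* ℂˣ, (∀ b : ↥B, (b : G) ∈ U → lam b = 1) →
      classInner (fun b : ↥B => χ b) (fun b => ((lam b : ℂˣ) : ℂ)) ≠ 0 →
      classInner (fun b : ↥B => χ b) (fun b => ((lam b : ℂˣ) : ℂ)) = 1) ∧
    classInner (fun u : ↥U => χ u) (fun u => ((ψ u : ℂˣ) : ℂ)) = 1 := by
  classical
  have hχc := IsIrrCharacter.isCharacter hχ
  have hcf := IsCharacter.isClassFunction hχc
  have hΨ : IsCharacter G (indFun U (fun u => ((ψ u : ℂˣ) : ℂ))) :=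
    isCharacter_indFun _ _ (IsIrrCharacter.isCharacter (isIrrCharacter_of_hom ψ))
  obtain ⟨μ, hμ⟩ := classInner_char_char_nat hΨ hχc
  have hU0 : (Nat.card ↥U : ℂ) ≠ 0 := by
    exact_mod_cast (Nat.card_pos (α := ↥U)).ne'
  have hχ1 : χ 1 ≠ 0 := IsIrrCharacter.apply_one_ne_zero hχ
  have hμ' : χ 1 / (Nat.card ↥U : ℂ) = μ := by
    rw [← dz_inner_U U χ hvan ψ, classInner_conj_symm,
      ← frobenius_reciprocity U _ χ hcf, hμ, Complex.conj_natCast]
  have hμ0 : μ ≠ 0 := by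
    rintro rfl
    rw [Nat.cast_zero, div_eq_zero_iff] at hμ'
    rcases hμ' with h | h
    · exact hχ1 h
    · exact hU0 h
  -- the key: every `lam` occurring in `χ|_B` occurs once, and then `μ = 1`
  have key : ∀ lam : ↥B →* ℂˣ, (∀ b : ↥B, (b : G) ∈ U → lam b = 1) →
      classInner (fun b : ↥B => χ b) (fun b => ((lam b : ℂˣ) : ℂ)) ≠ 0 →
      classInner (fun b : ↥B => χ b) (fun b => ((lam b : ℂˣ) : ℂ)) = 1 ∧ μ = 1 := by
    intro lam hlamU hlam
    have hL : IsCharacter G (indFun B (fun b => ((lam b : ℂˣ) : ℂ))) :=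
      isCharacter_indFun _ _ (IsIrrCharacter.isCharacter (isIrrCharacter_of_hom lam))
    obtain ⟨a, ha⟩ := classInner_char_char_nat hL hχc
    obtain ⟨k, hk⟩ := classInner_char_char_nat hL hΨ
    have hk1 := hP1 lam hlamU k hk
    have hle := gl_inner_ge hL hΨ hχ ha hμ hk
    have ha' : classInner (fun b : ↥B => χ b) (fun b => ((lam b : ℂˣ) : ℂ)) = a := by
      rw [classInner_conj_symm, ← frobenius_reciprocity B _ χ hcf, ha, Complex.conj_natCast]
    have ha0 : a ≠ 0 := by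
      rintro rfl
      exact hlam (by rw [ha', Nat.cast_zero])
    have h1 : 1 ≤ a := Nat.one_le_iff_ne_zero.mpr ha0
    have h2 : 1 ≤ μ := Nat.one_le_iff_ne_zero.mpr hμ0
    have ha1 : a = 1 := by nlinarith
    have hμ1 : μ = 1 := by nlinarith
    exact ⟨by rw [ha', ha1, Nat.cast_one], hμ1⟩
  obtain ⟨lam, hlamU, hlam⟩ := dz_exists_lam B U hUn hcomm χ hχ hvan
  obtain ⟨hl1, hμ1⟩ := key lam hlamU hlam
  rw [hμ1, Nat.cast_one] at hμ'
  refine ⟨?_, ⟨lam, hlamU, hl1⟩, fun lam' h' h'' => (key lam' h' h'').1, ?_⟩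
  · exact (div_eq_one_iff_eq hU0).mp hμ'
  · rw [dz_inner_U U χ hvan ψ, hμ']

/-- (A2) = (P3b): the representation, its `B`-eigenvector, `V^U = ℂ y`. -/
theorem dz_p3b (hUB : U ≤ B) (χ : G → ℂ) (hχ : IsIrrCharacter G χ)
    (hvan : ∀ u ∈ U, u ≠ 1 → χ u = 0) (h1 : χ 1 = (Nat.card U : ℂ))
    (lam : ↥B →* ℂˣ) (hlam : ∀ b : ↥B, (b : G) ∈ U → lam b = 1)
    (hin : classInner (fun b : ↥B => χ b) (fun b => ((lam b : ℂˣ) : ℂ)) ≠ 0) :
    ∃ (d : ℕ) (ρ : Representation ℂ G (Fin d → ℂ)), ρ.IsIrreducible ∧ ρ.character = χ ∧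
      ∃ y : Fin d → ℂ, y ≠ 0 ∧ (∀ b : ↥B, ρ (b : G) y = ((lam b : ℂˣ) : ℂ) • y) ∧
        ∀ z : Fin d → ℂ, (∀ u : G, u ∈ U → ρ u z = z) → ∃ c : ℂ, z = c • y := by
  classical
  obtain ⟨d, ρ, hirr, hρ⟩ := hχ
  refine ⟨d, ρ, hirr, hρ, ?_⟩
  set σ : Representation ℂ ↥B (Fin d → ℂ) := ρ.comp B.subtype with hσ
  set τ := p3b_twist σ lam with hτ
  have hτchar : classInner τ.character (fun _ => (1 : ℂ)) =
      classInner (fun b : ↥B => χ b) (fun b => ((lam b : ℂˣ) : ℂ)) := by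
    rw [classInner_def, classInner_def]
    congr 1
    apply Finset.sum_congr rfl
    intro b _
    rw [p3b_twist_character, map_one, mul_one, p3b_conj_hom lam b, ← hρ, mul_comm]
    rfl
  have hfr : (finrank ℂ (Representation.invariants τ) : ℂ) ≠ 0 := by
    rw [← classInner_one_eq_finrank_invariants, hτchar]
    exact hin
  have hpos : 0 < finrank ℂ (Representation.invariants τ) := by
    rcases Nat.eq_zero_or_pos (finrank ℂ (Representation.invariants τ)) with h | h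
    · rw [h, Nat.cast_zero] at hfr
      exact absurd rfl hfr
    · exact h
  obtain ⟨⟨y, hyinv⟩, hy0⟩ := (finrank_pos_iff_exists_ne_zero).mp hpos
  have hy0' : y ≠ 0 := by
    intro h
    apply hy0
    exact Subtype.ext h
  have hyB : ∀ b : ↥B, ρ (b : G) y = ((lam b : ℂˣ) : ℂ) • y := by
    intro b
    have h2 : τ b y = y := hyinv b
    rw [hτ, p3b_twist_apply] at h2
    have h3 : σ b y = ρ (b : G) y := rfl
    rw [h3] at h2
    calc ρ (b : G) y
        = ((lam b : ℂˣ) : ℂ) • ((((lam b)⁻¹ : ℂˣ) : ℂ) • ρ (b : G) y) := by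
          rw [smul_smul, ← Units.val_mul, mul_inv_cancel, Units.val_one, one_smul]
      _ = ((lam b : ℂˣ) : ℂ) • y := by rw [h2]
  refine ⟨y, hy0', hyB, ?_⟩
  set ρU : Representation ℂ ↥U (Fin d → ℂ) := ρ.comp U.subtype with hρU
  have hUchar : classInner ρU.character (fun _ => (1 : ℂ)) = 1 := by
    have h2 := dz_inner_U U χ hvan (1 : ↥U →* ℂˣ)
    have hU0 : (Nat.card ↥U : ℂ) ≠ 0 := by
      exact_mod_cast (Nat.card_pos (α := ↥U)).ne'
    rw [h1, div_self hU0] at h2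
    have h3 : classInner ρU.character (fun _ => (1 : ℂ)) =
        classInner (fun u : ↥U => χ u) (fun u => (((1 : ↥U →* ℂˣ) u : ℂˣ) : ℂ)) := by
      rw [← hρ]
      rfl
    rw [h3, h2]
  have hfrU : finrank ℂ (Representation.invariants ρU) = 1 := by
    have h2 := classInner_one_eq_finrank_invariants ρU
    rw [hUchar] at h2
    exact_mod_cast h2.symm
  have hyU : y ∈ Representation.invariants ρU := by
    intro u
    have hb : (u : G) ∈ B := hUB u.2
    have h2 := hyB ⟨(u : G), hb⟩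
    rw [hlam ⟨(u : G), hb⟩ u.2, Units.val_one, one_smul] at h2
    exact h2
  intro z hz
  have hzU : z ∈ Representation.invariants ρU := fun u => hz (u : G) u.2
  have hspan := (finrank_eq_one_iff_of_nonzero' (⟨y, hyU⟩ : Representation.invariants ρU)
    (by
      intro h
      apply hy0'
      exact congrArg Subtype.val h)).mp hfrU ⟨z, hzU⟩
  obtain ⟨c, hc⟩ := hspan
  refine ⟨c, ?_⟩
  have := congrArg Subtype.val hc
  exact this.symm

/-- (A3) = (P4): two irreducible characters occurring both in `1_B^G` and in `Ind_U^G ψ` are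
equal. -/
theorem dz_p4 (ψ : ↥U →* ℂˣ)
    (hP1 : ∀ k : ℕ, classInner (indFun B (fun _ => (1 : ℂ)))
        (indFun U (fun u => ((ψ u : ℂˣ) : ℂ))) = k → k ≤ 1)
    (χ χ' : G → ℂ) (hχ : IsIrrCharacter G χ) (hχ' : IsIrrCharacter G χ')
    (h1 : classInner (fun b : ↥B => χ b) (fun _ => (1 : ℂ)) ≠ 0)
    (h2 : classInner (fun u : ↥U => χ u) (fun u => ((ψ u : ℂˣ) : ℂ)) ≠ 0)
    (h1' : classInner (fun b : ↥B => χ' b) (fun _ => (1 : ℂ)) ≠ 0)
    (h2' : classInner (fun u : ↥U => χ' u) (fun u => ((ψ u : ℂˣ) : ℂ)) ≠ 0) :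
    χ = χ' := by
  classical
  by_contra hne
  have hχc := IsIrrCharacter.isCharacter hχ
  have hχc' := IsIrrCharacter.isCharacter hχ'
  have hcf := IsCharacter.isClassFunction hχc
  have hcf' := IsCharacter.isClassFunction hχc'
  set Θ₁ : G → ℂ := indFun B (fun _ => (1 : ℂ)) with hΘ₁
  set Θ₂ : G → ℂ := indFun U (fun u => ((ψ u : ℂˣ) : ℂ)) with hΘ₂
  have hL : IsCharacter G Θ₁ := isCharacter_indFun _ _ isCharacter_one
  have hΨ : IsCharacter G Θ₂ :=
    isCharacter_indFun _ _ (IsIrrCharacter.isCharacter (isIrrCharacter_of_hom ψ))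
  have a1 : classInner Θ₁ χ ≠ 0 := by
    rw [hΘ₁, frobenius_reciprocity B _ χ hcf, classInner_conj_symm]
    exact (map_ne_zero _).mpr h1
  have a1' : classInner Θ₁ χ' ≠ 0 := by
    rw [hΘ₁, frobenius_reciprocity B _ χ' hcf', classInner_conj_symm]
    exact (map_ne_zero _).mpr h1'
  have a2 : classInner Θ₂ χ ≠ 0 := by
    rw [hΘ₂, frobenius_reciprocity U _ χ hcf, classInner_conj_symm]
    exact (map_ne_zero _).mpr h2
  have a2' : classInner Θ₂ χ' ≠ 0 := by
    rw [hΘ₂, frobenius_reciprocity U _ χ' hcf', classInner_conj_symm]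
    exact (map_ne_zero _).mpr h2'
  obtain ⟨k, hk⟩ := classInner_char_char_nat hL hΨ
  have h2k : 2 ≤ k := gl_inner_ge_two hL hΨ hχ hχ' hne a1 a2 a1' a2' hk
  have h3 : k ≤ 1 := hP1 k hk
  omega

end A

end Cfsg.Agent.ChevDZ
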