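import Mathlib
import Cfsg.Agent.ChevDZ.H1_Defs
import Cfsg.Agent.Helper7.ChevCardH

set_option autoImplicit false
set_option linter.unusedSectionVars false
set_option linter.unusedVariables false

/-!
S2318, piece D6 (helper6): the torus `H` of a Chevalley group is generated by the elements `h_i(a)`
of the fundamental roots, so that a homomorphism on `H` killing these is trivial — the hypothesis
`hgen` of `dz_main` (its invariance hypothesis is not needed).
-/

namespace Cfsg.Agent.ChevDZ

open Cfsg Cfsg.Lie Matrix Cfsg.Agent.Helper7 Cfsg.Agent.Helper7.Chev Cfsg.Agent.SLMin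

variable {D : ChevalleyDatum} {F : Type*} [Field F]

/-- A torus element is the product of the `h_i(c_i)` of the fundamental roots. -/
theorem h6_tGL_eq_prod (hG : Good1 D) (c : Fin D.rank → Fˣ) :
    (tGL c : GL D.Idx F) = (List.ofFn (fun i : Fin D.rank =>
      hGL hG (hG.simple_lt i.2) (c i : F) (Units.ne_zero _))).prod := by
  apply Units.ext
  rw [tGL_coe, ← Units.coeHom_apply, map_list_prod, List.map_ofFn]
  have e : (⇑(Units.coeHom (Matrix D.Idx D.Idx F)) ∘ fun i : Fin D.rank =>
      hGL hG (hG.simple_lt i.2) (c i : F) (Units.ne_zero _)) =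
      fun i : Fin D.rank => (fun k : ℕ => D.hMat F (D.simple k) (extc D.rank c k)) i.val := by
    funext i
    simp only [Function.comp_apply, Units.coeHom_apply, hGL_coe, extc_val]
  rw [e, ofFn_eq_map_range D.rank (fun k : ℕ => D.hMat F (D.simple k) (extc D.rank c k)),
    prod_hMat_simple hG _ (fun i hi => List.mem_range.mp hi) _
    (fun i _ => extc_ne_zero c i)]
  rfl

/-- (`hgen`) A homomorphism on `H` killing the `h_i(a)` of the fundamental roots is trivial. -/
theorem h6_hgen (hG : Good2 D)
    (hh : ∀ i < D.rank, ∀ a : Fˣ, h1_iota hG F i (s7_h a) ∈ h1_H D F)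
    {M : Type*} [CommMonoid M] (lam : ↥(h1_H D F) →* M)
    (h1 : ∀ i (hi : i < D.rank) (a : Fˣ), lam ⟨h1_iota hG F i (s7_h a), hh i hi a⟩ = 1) :
    lam = 1 := by
  have hG1 := hG.toGood1
  ext t
  rw [MonoidHom.one_apply]
  have htH : ((t : ↥(D.group F)) : GL D.Idx F) ∈ D.diagonalSubgroup F := t.2
  rw [← torusHom_range hG1] at htH
  obtain ⟨c, hc⟩ := htH
  set L : List ↥(h1_H D F) := List.ofFn (fun i : Fin D.rank =>
    (⟨h1_iota hG F i (s7_h (c i)), hh i i.2 (c i)⟩ : ↥(h1_H D F))) with hL
  have ht : t = L.prod := by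
    apply Subtype.ext
    apply Subtype.ext
    rw [← hc, torusHom_apply, h6_tGL_eq_prod hG1 c]
    rw [← Subgroup.subtype_apply, ← Subgroup.subtype_apply, map_list_prod, map_list_prod, hL,
      List.map_ofFn, List.map_ofFn]
    congr 1
    refine congrArg List.ofFn (funext fun i => ?_)
    simp only [Function.comp_apply, Subgroup.subtype_apply]
    exact (h1_iota_h_coe hG i.2 (c i)).symm
  rw [ht, map_list_prod]
  apply List.prod_eq_one
  intro x hx
  rw [hL, List.map_ofFn, List.mem_ofFn] at hx
  obtain ⟨i, rfl⟩ := hx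
  exact h1 i i.2 (c i)

end Cfsg.Agent.ChevDZ
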