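import Mathlib
import Cfsg.Agent.SLMin.H5_Intertwiner

set_option autoImplicit false

/-!
# S2318, abstract rank-one part (lead): the quadratic relation

For a representation `σ` of `SL_2(F)` and a vector `y` fixed by the `x(b)` on which the `h(a)` act
through `ϑ`: if `y_s = ∑_b σ(x(b) s) y` is a multiple `k • y` of `y`, then
`k² = q ϑ(-1) + k ∑_a ϑ(a)`.  Hence `k ∈ {q, -1}` when `ϑ = 1`, and `k² = q ϑ(-1)` when `ϑ` is a
nontrivial character.
-/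

namespace Cfsg.Agent.ChevDZ

open Matrix Cfsg.Agent.SLMin

variable {F : Type*} [Field F] [Fintype F] [DecidableEq F]
variable {V : Type*} [AddCommGroup V] [Module ℂ V]

/-- The quadratic relation, vector form. -/
theorem l_quad_vec (σ : Representation ℂ (SpecialLinearGroup (Fin 2) F) V) (y : V)
    (hx : ∀ b : F, σ (s7_x b) y = y) (ϑ : Fˣ → ℂ)
    (hh : ∀ a : Fˣ, σ (s7_h a) y = ϑ a • y) (k : ℂ)
    (hk : ∑ b : F, σ (s7_x b * s7_s) y = k • y) :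
    (k * k) • y = ((Fintype.card F : ℂ) * ϑ (-1) + k * ∑ a : Fˣ, ϑ a) • y := by
  -- the terms `b ≠ 0`
  have hW : ∀ a : Fˣ, ∑ b' : F, σ (s7_x b' * s7_s * (s7_x (-((a⁻¹ : Fˣ) : F)) * s7_s)) y =
      (k * ϑ a) • y := by
    intro a
    have hne2 : ((a⁻¹ : Fˣ) : F) * ((a⁻¹ : Fˣ) : F) ≠ 0 :=
      mul_ne_zero (a⁻¹).ne_zero (a⁻¹).ne_zero
    have h1 : ∀ b' : F, σ (s7_x b' * s7_s * (s7_x (-((a⁻¹ : Fˣ) : F)) * s7_s)) y =
        σ (s7_h a) (σ (s7_x (((a⁻¹ : Fˣ) : F) * ((a⁻¹ : Fˣ) : F) * (b' + (a : F))) * s7_s) y) := by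
      intro b'
      rw [h5_s7_key, h5_rho_mul, h5_rho_mul, hx]
    have h2 : ∑ b' : F, σ (s7_x (((a⁻¹ : Fˣ) : F) * ((a⁻¹ : Fˣ) : F) * (b' + (a : F))) * s7_s) y =
        ∑ b : F, σ (s7_x b * s7_s) y :=
      Fintype.sum_equiv ((Equiv.addRight (a : F)).trans (Equiv.mulLeft₀ _ hne2)) _ _
        (fun b' => rfl)
    rw [Finset.sum_congr rfl (fun b' _ => h1 b'), ← map_sum, h2, hk, map_smul, hh, smul_smul]
  -- the term `b = 0`
  have h0 : ∑ b' : F, σ (s7_x b' * s7_s * (s7_x (0 : F) * s7_s)) y =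
      ((Fintype.card F : ℂ) * ϑ (-1)) • y := by
    have h3 : ∀ b' : F, σ (s7_x b' * s7_s * (s7_x (0 : F) * s7_s)) y = ϑ (-1) • y := by
      intro b'
      rw [h5_s7_W0, h5_rho_mul, hh, map_smul, hx]
    rw [Finset.sum_congr rfl (fun b' _ => h3 b'), Finset.sum_const, Finset.card_univ,
      ← Nat.cast_smul_eq_nsmul ℂ, smul_smul]
  -- the double sum, computed in two ways
  have hL : ∑ b : F, ∑ b' : F, σ (s7_x b' * s7_s * (s7_x b * s7_s)) y = (k * k) • y := by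
    rw [Finset.sum_comm]
    have h4 : ∀ b' : F, ∑ b : F, σ (s7_x b' * s7_s * (s7_x b * s7_s)) y =
        k • σ (s7_x b' * s7_s) y := by
      intro b'
      have : ∑ b : F, σ (s7_x b' * s7_s * (s7_x b * s7_s)) y =
          σ (s7_x b' * s7_s) (∑ b : F, σ (s7_x b * s7_s) y) := by
        rw [map_sum]
        exact Finset.sum_congr rfl (fun b _ => h5_rho_mul σ _ _ y)
      rw [this, hk, map_smul]
    rw [Finset.sum_congr rfl (fun b' _ => h4 b'), ← Finset.smul_sum, hk, smul_smul]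
  have hR : ∑ b : F, ∑ b' : F, σ (s7_x b' * s7_s * (s7_x b * s7_s)) y =
      ((Fintype.card F : ℂ) * ϑ (-1)) • y + ∑ a : Fˣ, (k * ϑ a) • y := by
    rw [← Finset.add_sum_erase Finset.univ _ (Finset.mem_univ (0 : F)), h0]
    congr 1
    -- reindex the nonzero `b` by the units
    symm
    refine Finset.sum_bij (fun (a : Fˣ) _ => -((a⁻¹ : Fˣ) : F)) ?_ ?_ ?_ ?_
    · intro a _
      rw [Finset.mem_erase]
      exact ⟨neg_ne_zero.mpr (a⁻¹).ne_zero, Finset.mem_univ _⟩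
    · intro a _ a' _ h
      have h1 : ((a⁻¹ : Fˣ) : F) = ((a'⁻¹ : Fˣ) : F) := neg_injective h
      exact inv_injective (Units.ext h1)
    · intro b hb
      rw [Finset.mem_erase] at hb
      have hne : -b⁻¹ ≠ 0 := neg_ne_zero.mpr (inv_ne_zero hb.1)
      refine ⟨Units.mk0 (-b⁻¹) hne, Finset.mem_univ _, ?_⟩
      rw [Units.val_inv_eq_inv_val, Units.val_mk0, inv_neg, inv_inv, neg_neg]
    · intro a _
      exact (hW a).symm
  rw [hL] at hR
  rw [hR, add_smul, Finset.mul_sum, Finset.sum_smul]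

/-- The quadratic relation. -/
theorem l_quad (σ : Representation ℂ (SpecialLinearGroup (Fin 2) F) V) (y : V) (hy : y ≠ 0)
    (hx : ∀ b : F, σ (s7_x b) y = y) (ϑ : Fˣ → ℂ)
    (hh : ∀ a : Fˣ, σ (s7_h a) y = ϑ a • y) (k : ℂ)
    (hk : ∑ b : F, σ (s7_x b * s7_s) y = k • y) :
    k * k = (Fintype.card F : ℂ) * ϑ (-1) + k * ∑ a : Fˣ, ϑ a :=
  smul_left_injective ℂ hy (l_quad_vec σ y hx ϑ hh k hk)

/-- `ϑ = 1`: `k = q` or `k = -1`. -/
theorem l_quad_triv (σ : Representation ℂ (SpecialLinearGroup (Fin 2) F) V) (y : V) (hy : y ≠ 0)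
    (hx : ∀ b : F, σ (s7_x b) y = y) (hh : ∀ a : Fˣ, σ (s7_h a) y = y) (k : ℂ)
    (hk : ∑ b : F, σ (s7_x b * s7_s) y = k • y) :
    k = (Fintype.card F : ℂ) ∨ k = -1 := by
  have h1 := l_quad σ y hy hx (fun _ => 1) (fun a => by rw [hh, one_smul]) k hk
  have h2 : (∑ _a : Fˣ, (1 : ℂ)) = (Fintype.card F : ℂ) - 1 := by
    rw [Finset.sum_const, Finset.card_univ, Fintype.card_units, nsmul_eq_mul, mul_one,
      Nat.cast_sub Fintype.card_pos, Nat.cast_one]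
  rw [h2] at h1
  have h3 : (k - (Fintype.card F : ℂ)) * (k + 1) = 0 := by
    ring_nf
    ring_nf at h1
    linear_combination h1
  rcases mul_eq_zero.mp h3 with h | h
  · left
    exact sub_eq_zero.mp h
  · right
    exact eq_neg_of_add_eq_zero_left h

/-- `ϑ` a nontrivial character: `k² = q ϑ(-1)`. -/
theorem l_quad_nontriv (σ : Representation ℂ (SpecialLinearGroup (Fin 2) F) V) (y : V)
    (hy : y ≠ 0) (hx : ∀ b : F, σ (s7_x b) y = y) (ϑ : Fˣ →* ℂˣ) (hϑ : ϑ ≠ 1)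
    (hh : ∀ a : Fˣ, σ (s7_h a) y = ((ϑ a : ℂˣ) : ℂ) • y) (k : ℂ)
    (hk : ∑ b : F, σ (s7_x b * s7_s) y = k • y) :
    k * k = (Fintype.card F : ℂ) * ((ϑ (-1) : ℂˣ) : ℂ) := by
  have h1 := l_quad σ y hy hx (fun a => ((ϑ a : ℂˣ) : ℂ)) hh k hk
  have h2 : ∑ a : Fˣ, ((ϑ a : ℂˣ) : ℂ) = 0 := by
    obtain ⟨c, hc⟩ : ∃ c : Fˣ, ϑ c ≠ 1 := by
      by_contra hcon
      apply hϑ
      ext a
      by_contra ha
      exact hcon ⟨a, fun h => ha (by rw [h]; rfl)⟩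
    have h3 : ((ϑ c : ℂˣ) : ℂ) * ∑ a : Fˣ, ((ϑ a : ℂˣ) : ℂ) = ∑ a : Fˣ, ((ϑ a : ℂˣ) : ℂ) := by
      rw [Finset.mul_sum]
      refine Fintype.sum_equiv (Equiv.mulLeft c) _ _ (fun a => ?_)
      rw [Equiv.coe_mulLeft, map_mul, Units.val_mul]
    have h4 : (((ϑ c : ℂˣ) : ℂ) - 1) * ∑ a : Fˣ, ((ϑ a : ℂˣ) : ℂ) = 0 := by
      rw [sub_mul, h3, one_mul, sub_self]
    rcases mul_eq_zero.mp h4 with h | h
    · exfalso
      apply hc
      apply Units.ext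
      rw [Units.val_one]
      exact sub_eq_zero.mp h
    · exact h
  rw [h2, mul_zero, add_zero] at h1
  exact h1

end Cfsg.Agent.ChevDZ
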