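import Mathlib
import Cfsg.Agent.ChevDZ.L_Rank1

set_option autoImplicit false

/-!
# S2318, abstract rank-one part (lead): group level

`ι : SL_2(F) →* G` a rank-one subgroup, `ρ` a representation of `G`, `ℂ y` the line of `U`-fixed
vectors.  The intertwiner `y_s = ∑_b ρ(ι(x(b) s)) y` is `k • y`; the quadratic relation for `k`;
the value of a `U`-invariant projection at `ρ(ι s) y`.
-/

namespace Cfsg.Agent.ChevDZ

open Matrix Cfsg.Agent.SLMin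

variable {F : Type*} [Field F] [Fintype F] [DecidableEq F] {G : Type*} [Group G]
variable {V : Type*} [AddCommGroup V] [Module ℂ V]

/-- The intertwiner is `U`-fixed, hence a multiple of `y`. -/
theorem l_rank1_k (ι : SpecialLinearGroup (Fin 2) F →* G) (ρ : Representation ℂ G V)
    (U : Subgroup G) (y : V)
    (hfix : ∀ v : V, (∀ u ∈ U, ρ u v = v) → ∃ c : ℂ, v = c • y)
    (hU : ∀ u ∈ U, ρ u y = y)
    (hnorm : ∀ u ∈ U, ∃ π : F ≃ F, ∀ b : F,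
      (ι (s7_x (π b) * s7_s))⁻¹ * u * ι (s7_x b * s7_s) ∈ U) :
    ∃ k : ℂ, ∑ b : F, ρ (ι (s7_x b * s7_s)) y = k • y := by
  apply hfix
  intro u hu
  obtain ⟨π, hπ⟩ := hnorm u hu
  rw [map_sum]
  refine Fintype.sum_equiv π _ _ (fun b => ?_)
  have h1 : u * ι (s7_x b * s7_s) = ι (s7_x (π b) * s7_s) *
      ((ι (s7_x (π b) * s7_s))⁻¹ * u * ι (s7_x b * s7_s)) := by group
  rw [← h5_rho_mul, h1, h5_rho_mul, hU _ (hπ b)]

/-- The quadratic relation, group level. -/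
theorem l_rank1_quad (ι : SpecialLinearGroup (Fin 2) F →* G) (ρ : Representation ℂ G V)
    (y : V) (hy : y ≠ 0) (hx : ∀ b : F, ρ (ι (s7_x b)) y = y) (ϑ : Fˣ → ℂ)
    (hh : ∀ a : Fˣ, ρ (ι (s7_h a)) y = ϑ a • y) (k : ℂ)
    (hk : ∑ b : F, ρ (ι (s7_x b * s7_s)) y = k • y) :
    k * k = (Fintype.card F : ℂ) * ϑ (-1) + k * ∑ a : Fˣ, ϑ a :=
  l_quad (ρ.comp ι) y hy hx ϑ hh k hk

/-- `ϑ = 1`: `k = q` or `k = -1`. -/
theorem l_rank1_triv (ι : SpecialLinearGroup (Fin 2) F →* G) (ρ : Representation ℂ G V)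
    (y : V) (hy : y ≠ 0) (hx : ∀ b : F, ρ (ι (s7_x b)) y = y)
    (hh : ∀ a : Fˣ, ρ (ι (s7_h a)) y = y) (k : ℂ)
    (hk : ∑ b : F, ρ (ι (s7_x b * s7_s)) y = k • y) :
    k = (Fintype.card F : ℂ) ∨ k = -1 :=
  l_quad_triv (ρ.comp ι) y hy hx hh k hk

/-- `ϑ` a nontrivial character: `k² = q ϑ(-1)`. -/
theorem l_rank1_nontriv (ι : SpecialLinearGroup (Fin 2) F →* G) (ρ : Representation ℂ G V)
    (y : V) (hy : y ≠ 0) (hx : ∀ b : F, ρ (ι (s7_x b)) y = y) (ϑ : Fˣ →* ℂˣ) (hϑ : ϑ ≠ 1)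
    (hh : ∀ a : Fˣ, ρ (ι (s7_h a)) y = ((ϑ a : ℂˣ) : ℂ) • y) (k : ℂ)
    (hk : ∑ b : F, ρ (ι (s7_x b * s7_s)) y = k • y) :
    k * k = (Fintype.card F : ℂ) * ((ϑ (-1) : ℂˣ) : ℂ) :=
  l_quad_nontriv (ρ.comp ι) y hy hx ϑ hϑ hh k hk

omit [DecidableEq F] in
/-- A linear map `e` absorbing the `x(b)` on the left sees `ρ(ι s) y` through `k`. -/
theorem l_rank1_proj (ι : SpecialLinearGroup (Fin 2) F →* G) (ρ : Representation ℂ G V)
    (y : V) {V' : Type*} [AddCommGroup V'] [Module ℂ V'] (e : V →ₗ[ℂ] V')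
    (he : ∀ (b : F) (v : V), e (ρ (ι (s7_x b)) v) = e v) (k : ℂ)
    (hk : ∑ b : F, ρ (ι (s7_x b * s7_s)) y = k • y) :
    (Fintype.card F : ℂ) • e (ρ (ι s7_s) y) = k • e y := by
  have h1 : e (∑ b : F, ρ (ι (s7_x b * s7_s)) y) = (Fintype.card F : ℂ) • e (ρ (ι s7_s) y) := by
    rw [map_sum]
    have h2 : ∀ b : F, e (ρ (ι (s7_x b * s7_s)) y) = e (ρ (ι s7_s) y) := by
      intro b
      rw [map_mul, h5_rho_mul, he]
    rw [Finset.sum_congr rfl (fun b _ => h2 b), Finset.sum_const, Finset.card_univ,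
      ← Nat.cast_smul_eq_nsmul ℂ]
  rw [← h1, hk, map_smul]

end Cfsg.Agent.ChevDZ
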