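import Mathlib
import Cfsg.Agent.ChevDZ.Defs
import Cfsg.Agent.ChevDZ.L_Rank1G

set_option autoImplicit false

/-!
# S2318, piece (B1) (lead): `dz_quad`, under the name of the blueprint
-/

namespace Cfsg.Agent.ChevDZ

open Matrix Cfsg.Agent.SLMin

/-- (B1) the quadratic relation for `y_s = Σ_b ρ(ι(x(b) s)) y = k • y`. -/
theorem dz_quad {F : Type*} [Field F] [Fintype F] [DecidableEq F] {G : Type*} [Group G]
    {V : Type*} [AddCommGroup V] [Module ℂ V]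
    (ι : SpecialLinearGroup (Fin 2) F →* G) (ρ : Representation ℂ G V) (y : V) (hy : y ≠ 0)
    (hx : ∀ b : F, ρ (ι (s7_x b)) y = y) (ϑ : Fˣ → ℂ)
    (hh : ∀ a : Fˣ, ρ (ι (s7_h a)) y = ϑ a • y) (k : ℂ)
    (hk : ∑ b : F, ρ (ι (s7_x b * s7_s)) y = k • y) :
    k * k = (Fintype.card F : ℂ) * ϑ (-1) + k * ∑ a : Fˣ, ϑ a :=
  l_rank1_quad ι ρ y hy hx ϑ hh k hk

end Cfsg.Agent.ChevDZ
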